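import Mathlib

/-!
# Binary affine actions: basic lemmas

`K` acts faithfully on the finite elementary abelian `p`-group `V` and the affine group `V ⋊ K`
is binary on `V`. We show that `p` does not divide the order of `K` for odd `p`, and that for
`p = 2` there are no elements of order four and commuting involutions act quadratically.
-/

set_option autoImplicit false

namespace CfsgLib.BinaryAffine

variable {K V : Type*} [Group K] [AddCommGroup V] [DistribMulAction K V]

/-- `v` and `w` lie in the same orbit. -/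
def Rel (K : Type*) [Group K] {V : Type*} [AddCommGroup V] [DistribMulAction K V] (v w : V) :
    Prop :=
  ∃ h : K, h • v = w

/-- The affine action of `V ⋊ K` on `V` is binary, written for the point stabilizer `K`. -/
def IsBin (K V : Type*) [Group K] [AddCommGroup V] [DistribMulAction K V] : Prop :=
  ∀ (n : ℕ) (I J : Fin n → V), (∀ i, Rel K (I i) (J i)) →
    (∀ i j, Rel K (I i - I j) (J i - J j)) → ∃ h : K, ∀ i, h • I i = J i

/-- The standing hypotheses. -/
structure Setup (K V : Type*) [Group K] [AddCommGroup V] [DistribMulAction K V] (p : ℕ) :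
    Prop where
  prime : p.Prime
  exp : ∀ v : V, p • v = 0
  bin : IsBin K V

theorem Rel.refl (v : V) : Rel K v v := ⟨1, one_smul K v⟩

theorem Rel.symm {v w : V} (h : Rel K v w) : Rel K w v := by
  obtain ⟨g, rfl⟩ := h
  exact ⟨g⁻¹, inv_smul_smul g v⟩

theorem Rel.trans {u v w : V} (h : Rel K u v) (h' : Rel K v w) : Rel K u w := by
  obtain ⟨g, rfl⟩ := h
  obtain ⟨g', rfl⟩ := h'
  exact ⟨g' * g, mul_smul g' g u⟩

theorem Rel.neg {v w : V} (h : Rel K v w) : Rel K (-v) (-w) := by
  obtain ⟨g, rfl⟩ := h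
  exact ⟨g, smul_neg g v⟩

theorem rel_smul (g : K) (v : V) : Rel K v (g • v) := ⟨g, rfl⟩

theorem IsBin.exists_of_finite (hb : IsBin K V) {ι : Type*} [Finite ι] (I J : ι → V)
    (h1 : ∀ i, Rel K (I i) (J i)) (h2 : ∀ i j, Rel K (I i - I j) (J i - J j)) :
    ∃ h : K, ∀ i, h • I i = J i := by
  obtain ⟨h, hh⟩ := hb (Nat.card ι) (fun i => I ((Finite.equivFin ι).symm i))
    (fun i => J ((Finite.equivFin ι).symm i)) (fun i => h1 _) (fun i j => h2 _ _)
  refine ⟨h, fun i => ?_⟩
  have := hh (Finite.equivFin ι i)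
  simpa using this

/-! ### Fixed and moved subgroups -/

/-- The map `v ↦ h • v - v`. -/
def del (V : Type*) [AddCommGroup V] {K : Type*} [Group K] [DistribMulAction K V] (h : K) :
    V →+ V :=
  DistribSMul.toAddMonoidHom V h - AddMonoidHom.id V

@[simp] theorem del_apply (h : K) (v : V) : del V h v = h • v - v := rfl

/-- The fixed points of `h`. -/
def fixV (V : Type*) [AddCommGroup V] {K : Type*} [Group K] [DistribMulAction K V] (h : K) :
    AddSubgroup V :=
  (del V h).ker

/-- The moved subgroup `[V, h]`. -/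
def movV (V : Type*) [AddCommGroup V] {K : Type*} [Group K] [DistribMulAction K V] (h : K) :
    AddSubgroup V :=
  (del V h).range

@[simp] theorem mem_fixV {h : K} {v : V} : v ∈ fixV V h ↔ h • v = v := by
  simp [fixV, AddMonoidHom.mem_ker, sub_eq_zero]

theorem mem_movV {h : K} {v : V} : v ∈ movV V h ↔ ∃ w, h • w - w = v := by
  simp [movV, AddMonoidHom.mem_range]

theorem sub_mem_movV (h : K) (w : V) : h • w - w ∈ movV V h := mem_movV.2 ⟨w, rfl⟩

/-- The elements fixing `C` pointwise. -/
def fixing (K : Type*) [Group K] {V : Type*} [AddCommGroup V] [DistribMulAction K V]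
    (C : AddSubgroup V) : Subgroup K where
  carrier := {h | ∀ c ∈ C, h • c = c}
  one_mem' c _ := one_smul K c
  mul_mem' {a b} ha hb c hc := by rw [mul_smul, hb c hc, ha c hc]
  inv_mem' {a} ha c hc := by rw [inv_smul_eq_iff, ha c hc]

theorem mem_fixing {C : AddSubgroup V} {h : K} : h ∈ fixing K C ↔ C ≤ fixV V h := by
  refine ⟨fun hh c hc => mem_fixV.2 (hh c hc), fun hh c hc => mem_fixV.1 (hh hc)⟩

theorem mem_fixing_fixV (h : K) : h ∈ fixing K (fixV V h) := mem_fixing.2 le_rfl

theorem card_fixV_mul_movV (h : K) :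
    Nat.card (fixV V h) * Nat.card (movV V h) = Nat.card V := by
  rw [movV, ← AddSubgroup.index_ker]
  exact AddSubgroup.card_mul_index _

theorem pow_smul_of_fixed {g : K} {v : V} (hv : g • v = v) (i : ℕ) : g ^ i • v = v := by
  induction i with
  | zero => simp
  | succ i ih => rw [pow_succ, mul_smul, hv, ih]

theorem pow_smul_of_sub_fixed {g : K} {w v : V} (hw : g • w = w + v) (hv : g • v = v) (i : ℕ) :
    g ^ i • w = w + i • v := by
  induction i with
  | zero => simp
  | succ i ih =>
    rw [pow_succ', mul_smul, ih, smul_add, hw, smul_comm g i v, hv, succ_nsmul]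
    abel

theorem conj_smul_fixed {g h : K} {v : V} (hv : h • v = v) :
    (g * h * g⁻¹) • (g • v) = g • v := by
  rw [mul_smul, inv_smul_smul, mul_smul, hv]

theorem smul_comm_of_commute {g h : K} (hc : Commute g h) (v : V) : g • h • v = h • g • v := by
  rw [← mul_smul, hc.eq, mul_smul]

theorem smul_mem_fixV_of_commute {g h : K} (hc : Commute g h) {v : V} (hv : v ∈ fixV V h) :
    g • v ∈ fixV V h := by
  rw [mem_fixV] at hv ⊢
  rw [← smul_comm_of_commute hc, hv]

theorem smul_mem_movV_of_commute {g h : K} (hc : Commute g h) {v : V} (hv : v ∈ movV V h) :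
    g • v ∈ movV V h := by
  obtain ⟨w, rfl⟩ := mem_movV.1 hv
  exact mem_movV.2 ⟨g • w, by rw [smul_sub, smul_comm_of_commute hc]⟩

section

variable [FaithfulSMul K V]

theorem eq_one_of_forall_smul {h : K} (hh : ∀ v : V, h • v = v) : h = 1 :=
  FaithfulSMul.eq_of_smul_eq_smul (α := V) fun v => by rw [hh, one_smul]

theorem eq_of_forall_smul {g h : K} (hh : ∀ v : V, g • v = h • v) : g = h :=
  FaithfulSMul.eq_of_smul_eq_smul (α := V) hh

theorem exists_moved {h : K} (hne : h ≠ 1) : ∃ v : V, h • v ≠ v :=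
  not_forall.1 fun hh => hne (eq_one_of_forall_smul hh)

end

namespace Setup

variable {p : ℕ} (S : Setup K V p)
include S

theorem eq_zero_of_coprime {n : ℕ} (hn : n.Coprime p) {v : V} (hv : n • v = 0) : v = 0 := by
  rw [← addOrderOf_dvd_iff_nsmul_eq_zero] at hv
  have hp := addOrderOf_dvd_of_nsmul_eq_zero (S.exp v)
  have h1 : addOrderOf v ∣ 1 := by rw [← hn]; exact Nat.dvd_gcd hv hp
  exact AddMonoid.addOrderOf_eq_one_iff.1 (Nat.dvd_one.1 h1)

theorem fix_inf_mov {h : K} (hh : (orderOf h).Coprime p) : fixV V h ⊓ movV V h = ⊥ := by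
  rw [eq_bot_iff]
  intro v hvm
  obtain ⟨hv, hm⟩ := AddSubgroup.mem_inf.1 hvm
  rw [mem_fixV] at hv
  obtain ⟨w, hw⟩ := mem_movV.1 hm
  have hw' : h • w = w + v := by rw [← hw]; abel
  have := pow_smul_of_sub_fixed hw' hv (orderOf h)
  rw [pow_orderOf_eq_one, one_smul] at this
  exact AddSubgroup.mem_bot.2 (S.eq_zero_of_coprime hh (left_eq_add.1 this))

theorem eq_zero_of_fix_mov {h : K} (hh : (orderOf h).Coprime p) {v : V} (h1 : h • v = v)
    (h2 : v ∈ movV V h) : v = 0 := by
  have := S.fix_inf_mov hh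
  exact (AddSubgroup.mem_bot).1 (this ▸ ⟨mem_fixV.2 h1, h2⟩)

end Setup

/-- Two disjoint subgroups whose orders multiply to the order of `X` generate `X`. -/
theorem exists_add_of_disjoint_card [Finite V] {A B X : AddSubgroup V} (hA : A ≤ X) (hB : B ≤ X)
    (hAB : A ⊓ B = ⊥) (hc : Nat.card X ≤ Nat.card A * Nat.card B) {v : V} (hv : v ∈ X) :
    ∃ a ∈ A, ∃ b ∈ B, v = a + b := by
  let f : A × B → X := fun ab => ⟨ab.1 + ab.2, add_mem (hA ab.1.2) (hB ab.2.2)⟩
  have hf : Function.Injective f := by
    rintro ⟨a, b⟩ ⟨a', b'⟩ h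
    have h' : (a : V) + b = a' + b' := congrArg Subtype.val h
    have h1 : (a : V) - a' = b' - b := by
      rw [sub_eq_sub_iff_add_eq_add]; rw [h']; abel
    have h2 : (a : V) - a' ∈ A ⊓ B := AddSubgroup.mem_inf.2 ⟨sub_mem a.2 a'.2, h1 ▸ sub_mem b'.2 b.2⟩
    rw [hAB, AddSubgroup.mem_bot, sub_eq_zero] at h2
    rw [h2, sub_self, eq_comm, sub_eq_zero] at h1
    exact Prod.ext (Subtype.ext h2) (Subtype.ext h1.symm)
  have hb : Function.Bijective f := hf.bijective_of_nat_card_le (by rwa [Nat.card_prod])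
  obtain ⟨⟨a, b⟩, hab⟩ := hb.2 ⟨v, hv⟩
  exact ⟨a, a.2, b, b.2, (congrArg Subtype.val hab).symm⟩

/-- Two disjoint subgroups inside `X` have orders multiplying to at most the order of `X`. -/
theorem card_mul_le_of_disjoint [Finite V] {A B X : AddSubgroup V} (hA : A ≤ X) (hB : B ≤ X)
    (hAB : A ⊓ B = ⊥) : Nat.card A * Nat.card B ≤ Nat.card X := by
  rw [← Nat.card_prod]
  refine Nat.card_le_card_of_injective
    (fun ab : A × B => (⟨ab.1 + ab.2, add_mem (hA ab.1.2) (hB ab.2.2)⟩ : X)) ?_
  rintro ⟨a, b⟩ ⟨a', b'⟩ h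
  have h' : (a : V) + b = a' + b' := congrArg Subtype.val h
  have h1 : (a : V) - a' = b' - b := by
    rw [sub_eq_sub_iff_add_eq_add]; rw [h']; abel
  have h2 : (a : V) - a' ∈ A ⊓ B := AddSubgroup.mem_inf.2 ⟨sub_mem a.2 a'.2, h1 ▸ sub_mem b'.2 b.2⟩
  rw [hAB, AddSubgroup.mem_bot, sub_eq_zero] at h2
  rw [h2, sub_self, eq_comm, sub_eq_zero] at h1
  exact Prod.ext (Subtype.ext h2) (Subtype.ext h1.symm)

namespace Setup

variable {p : ℕ} (S : Setup K V p)
include S

theorem exists_fix_add_mov [Finite V] {h : K} (hh : (orderOf h).Coprime p) (v : V) :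
    ∃ a ∈ fixV V h, ∃ b ∈ movV V h, v = a + b :=
  exists_add_of_disjoint_card (X := ⊤) le_top le_top (S.fix_inf_mov hh)
    (by rw [card_fixV_mul_movV, AddSubgroup.card_top]) (AddSubgroup.mem_top v)

/-! ### Consequences of binarity -/

/-- Two points in one orbit are swapped by an element. -/
theorem exists_swap {x y : V} (h : Rel K x y) : ∃ g : K, g • x = y ∧ g • y = x := by
  obtain ⟨g, hg⟩ := S.bin 2 ![x, x + y] ![y, x + y]
    (Fin.forall_fin_two.2 ⟨h, Rel.refl _⟩)
    (by
      intro i j
      fin_cases i <;> fin_cases j <;> simp only [Matrix.cons_val_zero, Matrix.cons_val_one,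
        Matrix.cons_val_fin_one, Fin.zero_eta, Fin.mk_one, sub_self]
      · exact Rel.refl _
      · simpa using h.symm.neg
      · simpa using h.symm
      · exact Rel.refl _)
  have h0 := hg 0
  have h1 := hg 1
  simp at h0 h1
  refine ⟨g, h0, ?_⟩
  rw [h0, add_comm x y] at h1
  exact add_left_cancel h1

/-- For two points of one orbit both differences lie in one orbit. -/
theorem rel_sub_swap {x y : V} (h : Rel K x y) : Rel K (x - y) (y - x) := by
  obtain ⟨g, h1, h2⟩ := S.exists_swap h
  exact ⟨g, by rw [smul_sub, h1, h2]⟩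

/-- For every `g` and `x` some element fixing the fixed points of `g` inverts the `g`-orbit of
`x`. -/
theorem exists_inverter [Finite K] [Finite V] (g : K) (x : V) :
    ∃ r : K, r ∈ fixing K (fixV V g) ∧ ∀ k ∈ Subgroup.zpowers g, r • k • x = k⁻¹ • x := by
  obtain ⟨r, hr⟩ := S.bin.exists_of_finite
    (ι := fixV V g ⊕ Subgroup.zpowers g)
    (Sum.elim (fun c => (c : V)) (fun k => (k : K) • x))
    (Sum.elim (fun c => (c : V)) (fun k => (k : K)⁻¹ • x))
    (by
      rintro (c | k)
      · exact Rel.refl _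
      · exact (rel_smul (k : K) x).symm.trans (rel_smul (k : K)⁻¹ x))
    (by
      have key : ∀ (c : fixV V g) (k : Subgroup.zpowers g),
          Rel K ((c : V) - (k : K) • x) ((c : V) - (k : K)⁻¹ • x) := by
        intro c k
        obtain ⟨i, hi⟩ := Subgroup.mem_zpowers_iff.1 k.2
        have hg : g ∈ MulAction.stabilizer K (c : V) :=
          MulAction.mem_stabilizer_iff.2 (mem_fixV.1 c.2)
        have hk : (k : K) • (c : V) = c :=
          MulAction.mem_stabilizer_iff.1 (hi ▸ zpow_mem hg i)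
        have h1 : Rel K ((c : V) - x) ((c : V) - (k : K) • x) :=
          ⟨k, by rw [smul_sub, hk]⟩
        have h2 : Rel K ((c : V) - x) ((c : V) - (k : K)⁻¹ • x) :=
          ⟨(k : K)⁻¹, by rw [smul_sub, inv_smul_eq_iff.2 hk.symm]⟩
        exact h1.symm.trans h2
      rintro (c | k) (c' | l)
      · exact Rel.refl _
      · exact key c l
      · simpa using (key c' k).neg
      · simp only [Sum.elim_inr]
        refine (S.rel_sub_swap ((rel_smul (k : K) x).symm.trans (rel_smul (l : K) x))).trans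
          ⟨(k : K)⁻¹ * (l : K)⁻¹, ?_⟩
        have hc : Commute (k : K)⁻¹ (l : K)⁻¹ :=
          Commute.inv_inv (Subgroup.le_centralizer (Subgroup.zpowers g) k.2 l l.2).symm
        rw [smul_sub, ← mul_smul, ← mul_smul, inv_mul_cancel_right, hc.eq, inv_mul_cancel_right])
  exact ⟨r, fun c hc => hr (Sum.inl ⟨c, hc⟩), fun k hk => hr (Sum.inr ⟨k, hk⟩)⟩

/-- Simplified form of `exists_inverter`. -/
theorem exists_inverter' [Finite K] [Finite V] (g : K) (x : V) :
    ∃ r : K, r ∈ fixing K (fixV V g) ∧ r • x = x ∧ r • g • x = g⁻¹ • x := by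
  obtain ⟨r, hr, hr'⟩ := S.exists_inverter g x
  refine ⟨r, hr, ?_, hr' g (Subgroup.mem_zpowers g)⟩
  simpa using hr' 1 (one_mem _)

/-- The basic exchange lemma. -/
theorem smul_eq_of_sub_eq {r s : K} {x y : V} (hr : r • x = x) (hs : s • y = y)
    (h : s • x - x = r • y - y) : r • y = y := by
  obtain ⟨g, hg⟩ := S.bin 3 ![x, y, x + y] ![x, y, x + r • y]
    (by
      intro i
      fin_cases i
      · exact Rel.refl _
      · exact Rel.refl _
      · exact ⟨r, by simp [smul_add, hr]⟩)
    (by
      intro i j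
      fin_cases i <;> fin_cases j <;> simp only [Matrix.cons_val_zero, Matrix.cons_val_one,
        Matrix.cons_val_two, Fin.zero_eta, Fin.mk_one, Fin.reduceFinMk, sub_self, Matrix.cons_val,
        Matrix.tail_cons, Matrix.head_cons]
      · exact Rel.refl _
      · exact Rel.refl _
      · exact ⟨r, by simp⟩
      · exact Rel.refl _
      · exact Rel.refl _
      · refine ⟨s, ?_⟩
        rw [smul_sub, smul_add, hs]
        linear_combination (norm := abel) -h
      · exact ⟨r, by simp⟩
      · refine ⟨s, ?_⟩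
        rw [smul_sub, smul_add, hs]
        linear_combination (norm := abel) h
      · exact Rel.refl _)
  have h0 := hg 0
  have h1 := hg 1
  have h2 := hg 2
  simp at h0 h1 h2
  rw [h0, h1] at h2
  exact (add_left_cancel h2).symm

variable [Finite K] [Finite V] [FaithfulSMul K V]

theorem not_orderOf_eq_prime (hp : p ≠ 2) (k : K) : orderOf k ≠ p := by
  intro hk
  have := Fact.mk S.prime
  -- the nilpotent operator `k - 1`
  let e : K →* AddMonoid.End V := DistribMulAction.toAddMonoidEnd K V
  have hD : ∀ v : V, ((e k - 1) ^ p) v = 0 := by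
    intro v
    obtain ⟨r, hr⟩ := Commute.exists_add_pow_prime_eq S.prime
      ((Commute.one_right (e k - 1)) : Commute (e k - 1) 1)
    rw [sub_add_cancel, ← map_pow, ← hk, pow_orderOf_eq_one, map_one, one_pow, hk] at hr
    have h2 := DFunLike.congr_fun hr v
    rw [mul_assoc, mul_assoc] at h2
    change v = ((e k - 1) ^ p) v + v + (p : AddMonoid.End V) ((e k - 1) (r v)) at h2
    rw [AddMonoid.End.natCast_apply, S.exp, add_zero] at h2
    exact add_eq_right.1 h2.symm
  have hDk : ∀ v : V, (e k - 1) v = k • v - v := fun v => rfl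
  -- find `x` with `k • x - x` fixed and non-zero
  obtain ⟨x, hx1, hx2⟩ : ∃ x : V, k • x - x ≠ 0 ∧ k • (k • x - x) = k • x - x := by
    by_contra hne
    push Not at hne
    have hz : ∀ (n : ℕ) (v : V), ((e k - 1) ^ (n + 1)) v = 0 → k • v - v = 0 := by
      intro n
      induction n with
      | zero => intro v hv; simpa [hDk] using hv
      | succ n ih =>
        intro v hv
        have h1 : k • (k • v - v) - (k • v - v) = 0 := by
          apply ih
          rw [pow_succ] at hv
          exact hv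
        by_contra hv'
        exact hne v hv' (sub_eq_zero.1 h1)
    have h1 : k = 1 := eq_one_of_forall_smul fun v =>
      sub_eq_zero.1 (hz (p - 1) v (by rw [Nat.sub_add_cancel S.prime.one_le]; exact hD v))
    rw [h1, orderOf_one] at hk
    exact S.prime.ne_one hk.symm
  set w := k • x - x with hw
  have hkx : k • x = x + w := by rw [hw]; abel
  obtain ⟨r, -, hrx, hr⟩ := S.exists_inverter' k x
  have hinv : k⁻¹ • x = x - w := by
    rw [inv_smul_eq_iff, smul_sub, hkx, hx2]; abel
  have hrw : r • w = -w := by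
    have := hr
    rw [hkx, hinv, smul_add, hrx, sub_eq_add_neg] at this
    exact add_left_cancel this
  have hkw : k⁻¹ • w = w := by rw [inv_smul_eq_iff, hx2]
  -- the conjugate fixes `x + w`
  have hs1 : (k * r * k⁻¹) • (x + w) = x + w := by
    rw [← hkx, conj_smul_fixed hrx]
  have hs2 : (k * r * k⁻¹) • x = x + w + w := by
    rw [mul_smul, hinv, mul_smul, smul_sub, hrx, hrw, sub_neg_eq_add, smul_add, hkx, hx2]
  have := S.smul_eq_of_sub_eq (r := r) (s := k * r * k⁻¹) (x := x) (y := -(x + w)) hrx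
    (by rw [smul_neg, hs1]) (by rw [hs2, smul_neg, smul_add, hrx, hrw]; abel)
  rw [smul_neg, smul_add, hrx, hrw, neg_inj, add_right_inj] at this
  refine hx1 (S.eq_zero_of_coprime (n := 2) ?_ ?_)
  · exact (Nat.coprime_primes Nat.prime_two S.prime).2 (Ne.symm hp)
  · rw [two_nsmul]; exact add_eq_zero_iff_neg_eq.2 this

theorem coprime_orderOf (hp : p ≠ 2) (h : K) : (orderOf h).Coprime p := by
  rw [Nat.coprime_comm, S.prime.coprime_iff_not_dvd]
  intro hd
  exact S.not_orderOf_eq_prime hp _
    (orderOf_pow_orderOf_div (orderOf_pos h).ne' hd)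

/-! ### Characteristic two -/

omit [Finite K] [Finite V] [FaithfulSMul K V] in
theorem add_self (hp : p = 2) (v : V) : v + v = 0 := by
  rw [← two_nsmul, ← hp, S.exp]

omit [Finite K] [Finite V] [FaithfulSMul K V] in
theorem sub_eq_add (hp : p = 2) (v w : V) : v - w = v + w := by
  rw [sub_eq_add_neg, neg_eq_of_add_eq_zero_left (S.add_self hp w)]

omit [Finite K] [Finite V] [FaithfulSMul K V] in
/-- Commuting involutions act quadratically. -/
theorem quad_of_commute (hp : p = 2) {k l : K} (hk : k ^ 2 = 1) (hl : l ^ 2 = 1)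
    (hkl : Commute k l) (v : V) : k • (l • v - v) = l • v - v := by
  have hk' : ∀ a : V, k • k • a = a := fun a => by rw [← mul_smul, ← sq, hk, one_smul]
  have hl' : ∀ a : V, l • l • a = a := fun a => by rw [← mul_smul, ← sq, hl, one_smul]
  have h1 : l • (l • v - v) = l • v - v := by
    rw [smul_sub, hl', S.sub_eq_add hp, S.sub_eq_add hp, add_comm]
  have h2 : k • (k • v - v) = k • v - v := by
    rw [smul_sub, hk', S.sub_eq_add hp, S.sub_eq_add hp, add_comm]
  have h3 := S.smul_eq_of_sub_eq (r := l) (s := k) (x := l • v - v) (y := k • v - v) h1 h2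
    (by simp only [smul_sub, smul_comm_of_commute hkl v]; abel)
  rw [smul_sub, ← smul_comm_of_commute hkl] at h3
  rw [smul_sub]
  linear_combination (norm := abel) h3

omit [Finite K] [Finite V] [FaithfulSMul K V] in
/-- Commuting with an involution preserves what it moves. -/
theorem smul_eq_of_moved (hp : p = 2) {k l : K} (hk : k ^ 2 = 1) (hl : l ^ 2 = 1)
    (hkl : Commute k l) {w : V} (hw : w ∈ movV V l) : k • w = w := by
  obtain ⟨v, rfl⟩ := mem_movV.1 hw
  exact S.quad_of_commute hp hk hl hkl v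

theorem sq_eq_one_of_pow_four (hp : p = 2) {g : K} (hg : g ^ 4 = 1) : g ^ 2 = 1 := by
  by_contra hne
  have hD2 : ∀ v : V, g • (g • v - v) - (g • v - v) = g ^ 2 • v - v := by
    intro v
    rw [sq, mul_smul, smul_sub]
    have := S.add_self hp (g • v - v)
    linear_combination (norm := abel) -this
  have hD4 : ∀ v : V, g ^ 2 • (g ^ 2 • v - v) - (g ^ 2 • v - v) = 0 := by
    intro v
    have h4 : g ^ 2 • g ^ 2 • v = v := by rw [← mul_smul, ← pow_add, hg, one_smul]
    have h2 := S.add_self hp (g ^ 2 • v - v)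
    rw [smul_sub, h4]
    linear_combination (norm := abel) -h2
  obtain ⟨y, hy1, hy2⟩ : ∃ y : V, g ^ 2 • y - y ≠ 0 ∧
      g • (g ^ 2 • y - y) = g ^ 2 • y - y := by
    obtain ⟨x, hx⟩ := exists_moved (V := V) hne
    rw [← sub_ne_zero] at hx
    by_cases h3 : g • (g ^ 2 • x - x) = g ^ 2 • x - x
    · exact ⟨x, hx, h3⟩
    · refine ⟨g • x - x, ?_, ?_⟩
      · intro h0
        apply h3
        rw [smul_sub, smul_comm_of_commute ((Commute.refl g).pow_right 2)]
        rw [smul_sub] at h0
        linear_combination (norm := abel) h0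
      · have := hD4 x
        rw [← hD2 (g ^ 2 • x - x)] at this
        rw [sub_eq_zero] at this
        have e : g ^ 2 • (g • x - x) - (g • x - x) = g • (g ^ 2 • x - x) - (g ^ 2 • x - x) := by
          rw [smul_sub, smul_sub, smul_comm_of_commute ((Commute.refl g).pow_right 2)]; abel
        rw [e, this]
  obtain ⟨r, -, hr⟩ := S.exists_inverter g y
  have hry : r • y = y := by simpa using hr 1 (one_mem _)
  have hr1 : r • g • y = g⁻¹ • y := hr g (Subgroup.mem_zpowers g)
  have hr2 : r • g⁻¹ • y = g • y := by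
    simpa using hr g⁻¹ (inv_mem (Subgroup.mem_zpowers g))
  have hsy : (g * r * g⁻¹) • y = g ^ 2 • y := by
    rw [mul_smul, mul_smul, hr2, sq, mul_smul]
  have hg3 : g⁻¹ • y = g • g ^ 2 • y := by
    rw [← mul_smul, ← pow_succ', inv_smul_eq_iff, ← mul_smul, ← pow_succ', hg, one_smul]
  have key := S.smul_eq_of_sub_eq (r := r) (s := g * r * g⁻¹) (x := y) (y := g • y) hry
    (conj_smul_fixed hry) (by rw [hsy, hr1, hg3, ← smul_sub, hy2])
  rw [hr1, hg3] at key
  exact hy1 (by rw [smul_left_cancel_iff] at key; rw [key, sub_self])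

theorem odd_orderOf_sq (hp : p = 2) (g : K) : Odd (orderOf (g ^ 2)) := by
  rw [← Nat.not_even_iff_odd, even_iff_two_dvd]
  intro hd
  have h1 := orderOf_pow_orderOf_div (x := g ^ 2) (orderOf_pos (g ^ 2)).ne' hd
  set c := (g ^ (orderOf (g ^ 2) / 2)) with hc
  have h2 : orderOf (c ^ 2) = 2 := by rw [hc, ← pow_mul, mul_comm, pow_mul]; exact h1
  have h4 : c ^ 4 = 1 := by
    have := pow_orderOf_eq_one (c ^ 2)
    rwa [h2, ← pow_mul] at this
  rw [S.sq_eq_one_of_pow_four hp h4, orderOf_one] at h2
  exact absurd h2 (by norm_num)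

end Setup

end CfsgLib.BinaryAffine
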