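import Cfsg.Agent.Lib.BinaryAffine.Involution

/-!
# The quadratic extension of an involutive automorphism
-/

set_option autoImplicit false

namespace CfsgLib.BinaryAffine

/-- A finite field with an involutive automorphism `σ ≠ 1` is a quadratic extension of the fixed
field; its automorphisms are `1` and `σ`, and the norm of `a` is `a * σ a`. -/
theorem quadratic_facts {E : Type} [Field E] [Finite E] (σ : E ≃+* E) (h2 : ∀ a, σ (σ a) = a)
    (h1 : ∃ a, σ a ≠ a) :
    Module.finrank (fixF σ) E = 2 ∧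
    (∀ a : E, Algebra.norm (fixF σ) a = 1 ↔ a * σ a = 1) ∧
    (∃ φ : E ≃ₐ[fixF σ] E, ∀ x, φ x = σ x) ∧
    ∀ φ : E ≃ₐ[fixF σ] E, (∀ x, φ x = x) ∨ ∀ x, φ x = σ x := by
  classical
  have hr : Module.finrank (fixF σ) E = 2 := by
    have h := Module.natCard_eq_pow_finrank (K := fixF σ) (V := E)
    rw [← card_fixF_sq h2 h1, ← sq] at h
    exact (Nat.pow_right_injective Finite.one_lt_card h).symm
  let s : E ≃ₐ[fixF σ] E :=
    AlgEquiv.ofRingEquiv (f := σ) (fun x => mem_fixF.1 x.2)
  have hs : ∀ x, s x = σ x := fun _ => rfl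
  have hne : (1 : E ≃ₐ[fixF σ] E) ≠ s := by
    obtain ⟨a, ha⟩ := h1
    intro h
    exact ha ((hs a).symm.trans (DFunLike.congr_fun h a).symm)
  have hcard : Nat.card (E ≃ₐ[fixF σ] E) = 2 := by
    rw [IsGalois.card_aut_eq_finrank, hr]
  have huniv : (Finset.univ : Finset (E ≃ₐ[fixF σ] E)) = {1, s} := by
    refine (Finset.eq_of_subset_of_card_le (Finset.subset_univ _) ?_).symm
    rw [Finset.card_univ, ← Nat.card_eq_fintype_card, hcard, Finset.card_pair hne]
  refine ⟨hr, fun a => ?_, ⟨s, hs⟩, fun φ => ?_⟩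
  · have h := Algebra.norm_eq_prod_automorphisms (fixF σ) a
    rw [huniv, Finset.prod_pair hne] at h
    change ((Algebra.norm (fixF σ) a : fixF σ) : E) = a * σ a at h
    rw [← h]
    exact ⟨fun e => by rw [e]; rfl, fun e => Subtype.ext e⟩
  · have hm := Finset.mem_univ φ
    rw [huniv, Finset.mem_insert, Finset.mem_singleton] at hm
    rcases hm with rfl | rfl
    · exact Or.inl fun x => rfl
    · exact Or.inr hs

end CfsgLib.BinaryAffine
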