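import Cfsg.Agent.Lib.BinaryAffine.Main
import Cfsg.Agent.Lib.BinaryAffine.Semilinear

/-!
# Binary primitive groups of affine type
-/

set_option autoImplicit false

namespace CfsgLib.BinaryAffine

open MulAction

theorem primitive_affine {G Ω : Type*} [Group G] [Finite G] [MulAction G Ω] [FaithfulSMul G Ω]
    [Fintype Ω] (hprim : IsPreprimitive G Ω) {N : Subgroup G} [N.Normal] (hN : N ≠ ⊥)
    (hNc : IsMulCommutative N)
    (hbin : ∀ (n : ℕ) (I J : Fin n → Ω), 2 ≤ n →
      (∀ i j : Fin n, i ≠ j → ∃ g : G, g • I i = J i ∧ g • I j = J j) →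
        ∃ g : G, ∀ i, g • I i = J i) :
    ((Fintype.card Ω).Prime ∧ ∀ ω : Ω, Nat.card (stabilizer G ω) ≤ 2) ∨
    (∃ (F E : Type) (_ : Field F) (_ : Fintype F) (_ : Field E) (_ : Fintype E) (_ : Algebra F E)
        (e : Ω ≃ E),
        Module.finrank F E = 2 ∧
        ∀ σ : Equiv.Perm Ω, σ ∈ (MulAction.toPermHom G Ω).range ↔
          ∃ (a b : E) (φ : E ≃ₐ[F] E), Algebra.norm F a = 1 ∧
            ∀ ω : Ω, e (σ ω) = a * φ (e ω) + b) := by
  classical
  haveI := hprim
  haveI : IsPretransitive G Ω := inferInstance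
  have hnofix : ∀ M : Subgroup G, M ≠ ⊥ → fixedPoints M Ω ≠ Set.univ := by
    intro M hM htop
    refine hM ((Subgroup.eq_bot_iff_forall M).2 fun m hm =>
      FaithfulSMul.eq_of_smul_eq_smul (α := Ω) fun ω => ?_)
    rw [one_smul]
    exact mem_fixedPoints.1 (htop.symm ▸ Set.mem_univ ω : ω ∈ fixedPoints M Ω) ⟨m, hm⟩
  haveI hNtrans : IsPretransitive N Ω :=
    IsQuasiPreprimitive.isPretransitive_of_normal (G := G) (hnofix N hN)
  obtain ⟨α⟩ : Nonempty Ω := by
    by_contra h
    exact hnofix N hN (Set.eq_univ_of_forall fun ω => absurd ⟨ω⟩ h)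
  letI : CommGroup N := { (inferInstance : Group N) with mul_comm := fun a b => mul_comm' a b }
  have hinj : ∀ a b : N, (a : G) • α = (b : G) • α → a = b := by
    intro a b hab
    refine Subtype.ext (FaithfulSMul.eq_of_smul_eq_smul (α := Ω) fun ω => ?_)
    obtain ⟨m, rfl⟩ := exists_smul_eq N α ω
    show (a : G) • (m : G) • α = (b : G) • (m : G) • α
    rw [← mul_smul, ← mul_smul, ← Subgroup.coe_mul, ← Subgroup.coe_mul, mul_comm a m,
      mul_comm b m, Subgroup.coe_mul, Subgroup.coe_mul, mul_smul, mul_smul, hab]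
  set H := stabilizer G α with hH
  letI : MulDistribMulAction H N :=
    MulDistribMulAction.compHom N ((MulAut.conjNormal (H := N)).comp H.subtype)
  have hsmul : ∀ (h : H) (n : N), ((h • n : N) : G) = h * n * (h : G)⁻¹ := fun h n =>
    MulAut.conjNormal_apply (h : G) n
  have hHα : ∀ h : H, (h : G) • α = α := fun h => h.2
  have hmove : ∀ (h : H) (n : N), (h : G) • (n : G) • α = ((h • n : N) : G) • α := by
    intro h n
    rw [hsmul, mul_smul, mul_smul, inv_smul_eq_iff.2 (hHα h).symm]
  letI : DistribMulAction H (Additive N) :=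
    { smul := fun h x => Additive.ofMul (h • Additive.toMul x)
      one_smul := fun x => congrArg Additive.ofMul (one_smul H (Additive.toMul x))
      mul_smul := fun a b x => congrArg Additive.ofMul (mul_smul a b (Additive.toMul x))
      smul_zero := fun a => congrArg Additive.ofMul (smul_one a)
      smul_add := fun a x y =>
        congrArg Additive.ofMul (smul_mul' a (Additive.toMul x) (Additive.toMul y)) }
  let pt : Additive N → Ω := fun x => ((Additive.toMul x : N) : G) • α
  have hpt_smul : ∀ (h : H) (x : Additive N), (h : G) • pt x = pt (h • x) := fun h x => hmove h _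
  have hpt_add : ∀ x y : Additive N, ((Additive.toMul x : N) : G) • pt y = pt (x + y) := by
    intro x y
    show _ = ((Additive.toMul x * Additive.toMul y : N) : G) • α
    rw [Subgroup.coe_mul, mul_smul]
  have hptb : Function.Bijective pt := by
    refine ⟨fun x y h => Additive.toMul.injective (hinj _ _ h), fun ω => ?_⟩
    obtain ⟨m, hm⟩ := exists_smul_eq N α ω
    exact ⟨Additive.ofMul m, hm⟩
  let ePt : Additive N ≃ Ω := Equiv.ofBijective pt hptb
  haveI : Nontrivial N := (Subgroup.nontrivial_iff_ne_bot N).2 hN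
  haveI : FaithfulSMul H (Additive N) := ⟨fun {h h'} hh =>
    Subtype.ext (FaithfulSMul.eq_of_smul_eq_smul (α := Ω) fun ω => by
      obtain ⟨x, rfl⟩ := hptb.2 ω
      rw [hpt_smul, hpt_smul, hh])⟩
  have hprod : ∀ g : G, ∃ n : N, ∃ h : H, (n : G) * h = g := by
    intro g
    obtain ⟨n, hn⟩ := exists_smul_eq N α (g • α)
    refine ⟨n, ⟨(n : G)⁻¹ * g, ?_⟩, mul_inv_cancel_left _ _⟩
    rw [hH, mem_stabilizer_iff, mul_smul, inv_smul_eq_iff]
    exact hn.symm
  -- irreducibility
  have hirr : ∀ W : AddSubgroup (Additive N), W ≠ ⊥ →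
      (∀ h : H, ∀ w ∈ W, h • w ∈ W) → W = ⊤ := by
    intro W hW hinv
    let M : Subgroup G :=
      { carrier := {g | ∃ w ∈ W, ((Additive.toMul w : N) : G) = g}
        one_mem' := ⟨0, W.zero_mem, rfl⟩
        mul_mem' := fun {a b} ⟨x, hx, ha⟩ ⟨y, hy, hb⟩ => ⟨x + y, W.add_mem hx hy, by
          rw [← ha, ← hb]; rfl⟩
        inv_mem' := fun {a} ⟨x, hx, ha⟩ => ⟨-x, W.neg_mem hx, by rw [← ha]; rfl⟩ }
    have hM : M ≠ ⊥ := by
      obtain ⟨w, hw, hw0⟩ := W.bot_or_exists_ne_zero.resolve_left hW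
      intro hb
      refine hw0 (Additive.toMul.injective (Subtype.ext ?_))
      exact (Subgroup.eq_bot_iff_forall M).1 hb _ ⟨w, hw, rfl⟩
    haveI : M.Normal := ⟨by
      rintro _ ⟨w, hw, rfl⟩ g
      obtain ⟨n, h, rfl⟩ := hprod g
      refine ⟨h • w, hinv h w hw, ?_⟩
      show ((h • Additive.toMul w : N) : G) = _
      have e : (n * (h • Additive.toMul w) * n⁻¹ : N) = h • Additive.toMul w := by
        rw [mul_comm n, mul_inv_cancel_right]
      have e' := congrArg Subtype.val e
      rw [Subgroup.coe_mul, Subgroup.coe_mul, Subgroup.coe_inv] at e'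
      rw [← e', hsmul, mul_inv_rev]
      simp only [mul_assoc]⟩
    haveI : IsPretransitive M Ω :=
      IsQuasiPreprimitive.isPretransitive_of_normal (G := G) (hnofix M hM)
    rw [eq_top_iff]
    intro x _
    obtain ⟨⟨g, w, hw, rfl⟩, hm⟩ := exists_smul_eq M α (pt x)
    rwa [show x = w from hptb.1 hm.symm]
  -- the exponent
  obtain ⟨p, hp, hpd⟩ := Nat.exists_prime_and_dvd (n := Nat.card N) Finite.one_lt_card.ne'
  have hexp : ∀ x : Additive N, p • x = 0 := by
    let W : AddSubgroup (Additive N) :=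
      { carrier := {x | p • x = 0}
        zero_mem' := smul_zero _
        add_mem' := fun {a b} (ha : p • a = 0) (hb : p • b = 0) =>
          show p • (a + b) = 0 by rw [smul_add, ha, hb, add_zero]
        neg_mem' := fun {a} (ha : p • a = 0) =>
          show p • -a = 0 by rw [smul_neg, ha, neg_zero] }
    have hW : W = ⊤ := hirr W (by
      obtain ⟨n, hn⟩ := exists_prime_orderOf_dvd_card' (hp := ⟨hp⟩) p hpd
      intro hb
      have hmem : Additive.ofMul n ∈ W := by
        show p • Additive.ofMul n = 0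
        rw [← ofMul_pow, ← hn, pow_orderOf_eq_one, ofMul_one]
      rw [hb, AddSubgroup.mem_bot, ofMul_eq_zero] at hmem
      rw [hmem, orderOf_one] at hn
      exact hp.ne_one hn.symm)
      (fun h w (hw : p • w = 0) => show p • (h • w) = 0 by rw [smul_comm, hw, smul_zero])
    intro x
    exact (hW ▸ AddSubgroup.mem_top x : x ∈ W)
  -- binarity
  have hbin' : IsBin H (Additive N) := by
    intro n I J h1 h2
    by_cases hn : n = 0
    · subst hn; exact ⟨1, fun i => i.elim0⟩
    obtain ⟨g, hg⟩ := hbin (n + 1) (Fin.cons α fun i => pt (I i)) (Fin.cons α fun i => pt (J i))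
      (by omega) (by
        intro i j hij
        refine Fin.cases ?_ (fun i' => ?_) i <;> refine Fin.cases ?_ (fun j' => ?_) j
        · exact ⟨1, one_smul G α, one_smul G α⟩
        · obtain ⟨h, hh⟩ := h1 j'
          exact ⟨h, by simpa using hHα h, by simp [hpt_smul, hh]⟩
        · obtain ⟨h, hh⟩ := h1 i'
          exact ⟨h, by simp [hpt_smul, hh], by simpa using hHα h⟩
        · obtain ⟨h, hh⟩ := h2 i' j'
          have hg : ∀ x, ((Additive.toMul (J j') : N) : G) • (h : G) •
              ((Additive.toMul (-I j') : N) : G) • pt x = pt (J j' + h • (-I j' + x)) := fun x => by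
            rw [hpt_add, hpt_smul, hpt_add]
          refine ⟨((Additive.toMul (J j') : N) : G) * (h : G) *
            ((Additive.toMul (-I j') : N) : G), ?_, ?_⟩
          · simp only [Fin.cons_succ, mul_smul, hg]
            rw [neg_add_eq_sub, hh, add_sub_cancel]
          · simp only [Fin.cons_succ, mul_smul, hg]
            rw [neg_add_cancel, smul_zero, add_zero])
    have h0 : g • α = α := by simpa using hg 0
    refine ⟨⟨g, h0⟩, fun i => hptb.1 ?_⟩
    rw [← hpt_smul]
    simpa using hg i.succ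
  have S : Setup H (Additive N) p := ⟨hp, hexp, hbin'⟩
  rcases classify S hirr with ⟨h1, h2⟩ | ⟨E, hE, hfin, s, e, hs2, hs1, hform, hreal⟩
  · refine Or.inl ⟨?_, fun ω => ?_⟩
    · rw [← Nat.card_eq_fintype_card, ← Nat.card_congr ePt]
      exact h1
    · obtain ⟨g, hg⟩ := exists_smul_eq G α ω
      rw [Nat.card_congr (stabilizerEquivStabilizer hg.symm).symm.toEquiv]
      exact h2
  refine Or.inr ?_
  obtain ⟨hrank, hnorm, ⟨φs, hφs⟩, haut⟩ := quadratic_facts s hs2 hs1
  refine ⟨fixF s, E, inferInstance, Fintype.ofFinite _, hE, Fintype.ofFinite _, inferInstance,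
    ePt.symm.trans e.toEquiv, hrank, fun π => ?_⟩
  have hept : ∀ x, (ePt.symm.trans e.toEquiv) (pt x) = e x := fun x => by
    show e (ePt.symm (ePt x)) = e x
    rw [Equiv.symm_apply_apply]
  constructor
  · rintro ⟨g, rfl⟩
    obtain ⟨n, h, rfl⟩ := hprod g
    obtain ⟨a, ha, hah⟩ := hform h
    have key : ∀ x, ((n : G) * (h : G)) • pt x = pt (Additive.ofMul n + h • x) := fun x => by
      rw [mul_smul, hpt_smul, ← hpt_add]; rfl
    rcases hah with hlin | hsemi
    · refine ⟨a, e (Additive.ofMul n), 1, (hnorm a).2 ha, fun ω => ?_⟩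
      obtain ⟨x, rfl⟩ := hptb.2 ω
      rw [toPermHom_apply, toPerm_apply, key, hept, hept, map_add, hlin, add_comm,
        AlgEquiv.one_apply]
    · refine ⟨a, e (Additive.ofMul n), φs, (hnorm a).2 ha, fun ω => ?_⟩
      obtain ⟨x, rfl⟩ := hptb.2 ω
      rw [toPermHom_apply, toPerm_apply, key, hept, hept, map_add, hsemi, add_comm, hφs]
  · rintro ⟨a, b, φ, ha, hπ⟩
    obtain ⟨⟨h₁, hh₁⟩, h₂, hh₂⟩ := hreal a ((hnorm a).1 ha)
    obtain ⟨h, hh⟩ : ∃ h : H, ∀ x, e (h • x) = a * φ (e x) := by
      rcases haut φ with hφ | hφ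
      · exact ⟨h₁, fun x => by rw [hh₁, hφ]⟩
      · exact ⟨h₂, fun x => by rw [hh₂, hφ]⟩
    refine ⟨((Additive.toMul (e.symm b) : N) : G) * (h : G), Equiv.ext fun ω => ?_⟩
    obtain ⟨x, rfl⟩ := hptb.2 ω
    apply (ePt.symm.trans e.toEquiv).injective
    rw [hπ, toPermHom_apply, toPerm_apply, mul_smul, hpt_smul, hpt_add, hept, hept, map_add, hh,
      AddEquiv.apply_symm_apply, add_comm]

end CfsgLib.BinaryAffine
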