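import Cfsg.Agent.Lib.BinaryAffine.Basic

/-!
# The two-group core lemma for binary affine actions

For `p = 2` a group `Γ` fixing `R` and moving everything into `T`, in which the non-trivial
elements of odd order fix exactly `R` inside `T`, has an abelian normal subgroup formed by the
elements of odd order, inverted by every involution which is non-trivial on `T`.
-/

set_option autoImplicit false

namespace CfsgLib.BinaryAffine

variable {K V : Type*} [Group K] [AddCommGroup V] [DistribMulAction K V] {p : ℕ}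

/-- The hypotheses of the core lemma. -/
structure CoreData (Γ : Subgroup K) (R T : AddSubgroup V) : Prop where
  le : R ≤ T
  fix_R : ∀ h ∈ Γ, ∀ v ∈ R, h • v = v
  mov_le : ∀ h ∈ Γ, ∀ v : V, h • v - v ∈ T
  exists_odd : ∃ u ∈ Γ, Odd (orderOf u) ∧ u ≠ 1
  fix_inf : ∀ u ∈ Γ, Odd (orderOf u) → u ≠ 1 → ∀ v ∈ T, u • v = v → v ∈ R
  inverter : ∀ u ∈ Γ, Odd (orderOf u) → u ≠ 1 → ∀ x : V, ∃ r ∈ Γ, r • x = x ∧ r • u • x = u⁻¹ • x

theorem commute_of_sq_eq_one {a b : K} (ha : a ^ 2 = 1) (hb : b ^ 2 = 1) (hab : (a * b) ^ 2 = 1) :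
    Commute a b := by
  have ha' : a⁻¹ = a := inv_eq_of_mul_eq_one_right (by rw [← sq, ha])
  have hb' : b⁻¹ = b := inv_eq_of_mul_eq_one_right (by rw [← sq, hb])
  have hab' : (a * b)⁻¹ = a * b := inv_eq_of_mul_eq_one_right (by rw [← sq, hab])
  rw [mul_inv_rev, ha', hb'] at hab'
  exact hab'.symm

theorem smul_smul_of_sq {a : K} (ha : a ^ 2 = 1) (v : V) : a • a • v = v := by
  rw [← mul_smul, ← sq, ha, one_smul]

theorem exists_sq_pow_eq {u : K} (hu : Odd (orderOf u)) : ∃ k : ℕ, (u ^ 2) ^ k = u := by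
  obtain ⟨k, hk⟩ := hu
  exact ⟨k + 1, by
    rw [← pow_mul, show 2 * (k + 1) = orderOf u + 1 by omega, pow_succ, pow_orderOf_eq_one,
      one_mul]⟩

theorem commute_of_commute_sq {u g : K} (hu : Odd (orderOf u)) (h : Commute (u ^ 2) g) :
    Commute u g := by
  obtain ⟨k, hk⟩ := exists_sq_pow_eq hu
  rw [← hk]; exact h.pow_left k

theorem smul_eq_of_sq_smul_eq {u : K} (hu : Odd (orderOf u)) {x : V} (h : u ^ 2 • x = x) :
    u • x = x := by
  obtain ⟨k, hk⟩ := exists_sq_pow_eq hu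
  conv_lhs => rw [← hk]
  exact pow_smul_of_fixed h k

theorem smul_eq_of_smul_eq_inv {u : K} (hu : Odd (orderOf u)) {x : V} (h : u • x = u⁻¹ • x) :
    u • x = x :=
  smul_eq_of_sq_smul_eq hu (by rw [sq, mul_smul, h, smul_inv_smul])

theorem eq_one_of_odd_of_sq {u : K} (hu : Odd (orderOf u)) (h : u ^ 2 = 1) : u = 1 := by
  obtain ⟨k, hk⟩ := exists_sq_pow_eq hu
  rw [← hk, h, one_pow]

namespace CoreData

/-- `r` is an involution which is non-trivial on `T`. -/
def Moves (Γ : Subgroup K) (T : AddSubgroup V) (r : K) : Prop :=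
  r ∈ Γ ∧ r ^ 2 = 1 ∧ ∃ v ∈ T, r • v ≠ v

variable [Finite K] [Finite V] [FaithfulSMul K V] {Γ : Subgroup K} {R T : AddSubgroup V}
  (S : Setup K V p) (hp : p = 2) (D : CoreData Γ R T)
include S hp D

theorem sq_eq_one_of_fixed {h : K} (hh : h ∈ Γ) {v : V} (hv : v ∈ T) (hvR : v ∉ R)
    (hfix : h • v = v) : h ^ 2 = 1 := by
  by_contra hne
  exact hvR (D.fix_inf _ (Γ.pow_mem hh 2) (S.odd_orderOf_sq hp h) hne v hv
    (pow_smul_of_fixed hfix 2))

theorem commute_of_fixed {a b : K} (ha : a ∈ Γ) (hb : b ∈ Γ) {v : V} (hv : v ∈ T) (hvR : v ∉ R)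
    (hav : a • v = v) (hbv : b • v = v) : Commute a b :=
  commute_of_sq_eq_one (sq_eq_one_of_fixed S hp D ha hv hvR hav)
    (sq_eq_one_of_fixed S hp D hb hv hvR hbv)
    (sq_eq_one_of_fixed S hp D (Γ.mul_mem ha hb) hv hvR (by rw [mul_smul, hbv, hav]))

theorem exists_mem_not_mem : ∃ v ∈ T, v ∉ R := by
  obtain ⟨u, hu, huo, hu1⟩ := D.exists_odd
  obtain ⟨v, hv⟩ := exists_moved (V := V) hu1
  refine ⟨u • v - v, D.mov_le u hu v, fun hR => hv ?_⟩
  have h0 := S.eq_zero_of_fix_mov (h := u) (by rw [hp]; exact Nat.coprime_two_right.2 huo)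
    (D.fix_R u hu _ hR) (sub_mem_movV u v)
  exact sub_eq_zero.1 h0

/-- An element moving `T` into `R` is trivial on `T`. -/
theorem smul_eq_of_sub_mem {h : K} (hh : h ∈ Γ) (hR : ∀ v ∈ T, h • v - v ∈ R) {v : V}
    (hv : v ∈ T) : h • v = v := by
  -- `h` commutes with every element of odd order
  have hquad : ∀ k ∈ Γ, (∀ v ∈ T, k • v - v ∈ R) → k ^ 2 = 1 := by
    intro k hk hkR
    apply S.sq_eq_one_of_pow_four hp
    refine eq_one_of_forall_smul (V := V) fun x => ?_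
    have h2 : ∀ a : V, k ^ 2 • a - a = k • (k • a - a) - (k • a - a) := by
      intro a
      rw [sq, mul_smul, smul_sub]
      have := S.add_self hp (k • a - a)
      linear_combination (norm := abel) this
    have hc : k • (k • (k • x - x) - (k • x - x)) = k • (k • x - x) - (k • x - x) :=
      D.fix_R k hk _ (hkR _ (D.mov_le k hk x))
    have h3 : k ^ 2 • (k ^ 2 • x - x) - (k ^ 2 • x - x) = 0 := by
      rw [h2 (k ^ 2 • x - x), h2 x, hc, sub_self, smul_zero, sub_zero]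
    rw [show (4 : ℕ) = 2 + 2 from rfl, pow_add, mul_smul]
    have h4 := S.add_self hp (k ^ 2 • x - x)
    rw [smul_sub] at h3
    linear_combination (norm := abel) h3 + h4
  have hcomm : ∀ i ∈ Γ, i ^ 2 = 1 → Commute i h := by
    intro i hi hi2
    refine commute_of_sq_eq_one hi2 (hquad h hh hR) (S.sq_eq_one_of_pow_four hp ?_)
    have key : ∀ v ∈ T, (i * h * i * h) • v - v ∈ R := by
      intro v hv
      have hiT : ∀ a ∈ T, i • a ∈ T := fun a ha => by
        simpa using add_mem (D.mov_le i hi a) ha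
      have hhT : ∀ a ∈ T, h • a ∈ T := fun a ha => by
        simpa using add_mem (D.mov_le h hh a) ha
      have h1 : h • v - v ∈ R := hR v hv
      have h2 : h • i • h • v - i • h • v ∈ R := hR _ (hiT _ (hhT v hv))
      have h3 : i • (h • v - v) ∈ R := by rw [D.fix_R i hi _ h1]; exact h1
      have h4 : i • (h • i • h • v - i • h • v) ∈ R := by rw [D.fix_R i hi _ h2]; exact h2
      have := add_mem h4 h1
      rw [smul_sub, smul_smul_of_sq hi2] at this
      simpa [mul_smul] using this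
    have := hquad (i * h * i * h) (Γ.mul_mem (Γ.mul_mem (Γ.mul_mem hi hh) hi) hh) key
    rw [show (4 : ℕ) = 2 * 2 from rfl, pow_mul, sq (i * h)]
    simpa only [mul_assoc] using this
  by_cases hvR : v ∈ R
  · exact D.fix_R h hh v hvR
  obtain ⟨u, hu, huo, hu1⟩ := D.exists_odd
  obtain ⟨r, hr, hrv, hru⟩ := D.inverter u hu huo hu1 v
  have hr2 := sq_eq_one_of_fixed S hp D hr hv hvR hrv
  have hfix : (u * r * u) • v = v := by rw [mul_smul, mul_smul, hru, smul_inv_smul]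
  have hi2 := sq_eq_one_of_fixed S hp D (Γ.mul_mem (Γ.mul_mem hu hr) hu) hv hvR hfix
  have hc1 : Commute (u * r * u) h := hcomm _ (Γ.mul_mem (Γ.mul_mem hu hr) hu) hi2
  have hc2 : Commute (u * r⁻¹ * u⁻¹) h := by
    refine hcomm _ (Γ.mul_mem (Γ.mul_mem hu (Γ.inv_mem hr)) (Γ.inv_mem hu)) ?_
    rw [conj_pow, inv_pow, hr2, inv_one, mul_one, mul_inv_cancel]
  have hcu : Commute u h := by
    refine commute_of_commute_sq huo ?_
    have : u ^ 2 = (u * r⁻¹ * u⁻¹) * (u * r * u) := by rw [sq]; group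
    rw [this]; exact hc2.mul_left hc1
  have hco : (orderOf u).Coprime p := by rw [hp]; exact Nat.coprime_two_right.2 huo
  obtain ⟨a, ha, b, hb, rfl⟩ := S.exists_fix_add_mov hco v
  have hbT : b ∈ T := by
    obtain ⟨w, rfl⟩ := mem_movV.1 hb
    exact D.mov_le u hu w
  have haR : a ∈ R := D.fix_inf u hu huo hu1 a (by simpa using sub_mem hv hbT) (mem_fixV.1 ha)
  have hb' : h • b - b = 0 :=
    S.eq_zero_of_fix_mov hco (D.fix_R u hu _ (hR b hbT))
      (sub_mem (smul_mem_movV_of_commute hcu.symm hb) hb)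
  rw [smul_add, D.fix_R h hh a haR, sub_eq_zero.1 hb']

theorem exists_fixed_moved {r : K} (hr : Moves Γ T r) :
    ∃ w ∈ T, w ∉ R ∧ r • w = w ∧ w ∈ movV V r := by
  obtain ⟨hr, hr2, v, hv, hv1⟩ := hr
  by_contra hne
  push Not at hne
  refine hv1 (smul_eq_of_sub_mem S hp D hr (fun w hw => ?_) hv)
  by_contra hwR
  refine hne _ (D.mov_le r hr w) hwR ?_ (sub_mem_movV r w)
  rw [smul_sub, smul_smul_of_sq hr2, S.sub_eq_add hp, S.sub_eq_add hp, add_comm]

theorem exists_moves : ∃ r, Moves Γ T r := by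
  obtain ⟨u, hu, huo, hu1⟩ := D.exists_odd
  obtain ⟨v, hv, hvR⟩ := exists_mem_not_mem S hp D
  obtain ⟨r, hr, hrv, hru⟩ := D.inverter u hu huo hu1 v
  refine ⟨r, hr, sq_eq_one_of_fixed S hp D hr hv hvR hrv, u • v,
    by simpa using add_mem (D.mov_le u hu v) hv, fun h => hvR ?_⟩
  rw [hru] at h
  exact D.fix_inf u hu huo hu1 v hv (smul_eq_of_smul_eq_inv huo h.symm)

theorem eq_one_of_commute {r u : K} (hr : Moves Γ T r) (hu : u ∈ Γ) (huo : Odd (orderOf u))
    (hc : Commute u r) : u = 1 := by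
  by_contra hu1
  obtain ⟨w, hwT, hwR, hrw, hwm⟩ := exists_fixed_moved S hp D hr
  obtain ⟨t, ht, htw, htu⟩ := D.inverter u hu huo hu1 w
  have htr := commute_of_fixed S hp D ht hr.1 hwT hwR htw hrw
  have h := S.smul_eq_of_moved hp (sq_eq_one_of_fixed S hp D ht hwT hwR htw) hr.2.1 htr
    (smul_mem_movV_of_commute hc hwm)
  rw [htu] at h
  exact hwR (D.fix_inf u hu huo hu1 w hwT (smul_eq_of_smul_eq_inv huo h.symm))

/-- The elements of odd order form an abelian normal subgroup `Q`, inverted by every involution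
which is non-trivial on `T`. -/
theorem exists_oddPart :
    ∃ Q : Subgroup K, Q ≤ Γ ∧ (∀ u ∈ Γ, Odd (orderOf u) → u ∈ Q) ∧
      (∀ u ∈ Q, Odd (orderOf u)) ∧ (∀ u ∈ Q, ∀ v ∈ Q, Commute u v) ∧
      (∀ r, Moves Γ T r → ∀ u ∈ Q, r * u * r⁻¹ = u⁻¹) := by
  obtain ⟨r₀, hr₀⟩ := exists_moves S hp D
  obtain ⟨w, hwT, hwR, hrw, hwm⟩ := exists_fixed_moved S hp D hr₀
  let r' : Γ := ⟨r₀, hr₀.1⟩
  have hr' : IsPGroup 2 (Subgroup.zpowers r') := by
    intro g
    refine ⟨1, ?_⟩
    obtain ⟨i, hi⟩ := Subgroup.mem_zpowers_iff.1 g.2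
    refine Subtype.ext (Subtype.ext ?_)
    have h1 : ((g : Γ) : K) = r₀ ^ i := by rw [← hi]; simp [r']
    simp only [SubmonoidClass.coe_pow, OneMemClass.coe_one, h1, pow_one]
    rw [← zpow_natCast, ← zpow_mul, mul_comm, zpow_mul, zpow_natCast, hr₀.2.1, one_zpow]
  obtain ⟨P, hP⟩ := hr'.exists_le_sylow
  have hrP : r' ∈ (P : Subgroup Γ) := hP (Subgroup.mem_zpowers r')
  have hsqP : ∀ g ∈ (P : Subgroup Γ), g ^ 2 = 1 := by
    intro g hg
    obtain ⟨k, hk⟩ := P.2 ⟨g, hg⟩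
    have hk' : (g : K) ^ (2 ^ k) = 1 := by
      have := congrArg (fun z : (P : Subgroup Γ) => ((z : Γ) : K)) hk
      simpa using this
    have hd : orderOf ((g : K) ^ 2) ∣ 2 ^ k :=
      (orderOf_pow_dvd 2).trans (orderOf_dvd_of_pow_eq_one hk')
    obtain ⟨j, -, hj⟩ := (Nat.dvd_prime_pow Nat.prime_two).1 hd
    have ho := S.odd_orderOf_sq hp (g : K)
    rcases j with _ | j
    · rw [pow_zero, orderOf_eq_one_iff] at hj
      exact Subtype.ext (by simpa using hj)
    · rw [hj, Nat.odd_iff, Nat.pow_succ, Nat.mul_mod_left] at ho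
      exact absurd ho (by norm_num)
  have hPc : ∀ g ∈ (P : Subgroup Γ), Commute g r' := fun g hg =>
    commute_of_sq_eq_one (hsqP g hg) (hsqP r' hrP) (hsqP _ (mul_mem hg hrP))
  have hCsq : ∀ g : Γ, Commute g r' → g ^ 2 = 1 := by
    intro g hg
    have hg' : Commute (g : K) r₀ := congrArg Subtype.val hg.eq
    have := eq_one_of_commute S hp D hr₀ (Γ.pow_mem g.2 2) (S.odd_orderOf_sq hp _)
      (hg'.pow_left 2)
    exact Subtype.ext this
  have hCP : Subgroup.centralizer {r'} = (P : Subgroup Γ) :=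
    P.3 (fun g => ⟨1, Subtype.ext (by
      simpa using hCsq g (Subgroup.mem_centralizer_singleton_iff.1 g.2))⟩)
      (fun g hg => Subgroup.mem_centralizer_singleton_iff.2 (hPc g hg).eq)
  have hfixP : ∀ g ∈ (P : Subgroup Γ), (g : K) • w = w := fun g hg =>
    S.smul_eq_of_moved hp (by simpa using congrArg Subtype.val (hsqP g hg)) hr₀.2.1
      (show Commute (g : K) r₀ from congrArg Subtype.val (hPc g hg).eq) hwm
  have hN : Subgroup.normalizer (P : Set Γ) ≤ Subgroup.centralizer (P : Set Γ) := by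
    intro n hn
    have hn2 : n ^ 2 = 1 := by
      by_contra hne
      set u := n ^ 2 with hu
      have huo : Odd (orderOf (u : K)) := by simpa [hu] using S.odd_orderOf_sq hp (n : K)
      have hu1 : (u : K) ≠ 1 := fun h => hne (Subtype.ext h)
      have huN : u ∈ Subgroup.normalizer (P : Set Γ) := pow_mem hn 2
      obtain ⟨t, ht, htw, htu⟩ := D.inverter u u.2 huo hu1 w
      have htc : Commute (⟨t, ht⟩ : Γ) r' :=
        Subtype.ext (commute_of_fixed S hp D ht hr₀.1 hwT hwR htw hrw).eq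
      have htP : (⟨t, ht⟩ : Γ) ∈ (P : Subgroup Γ) := by
        rw [← hCP]; exact Subgroup.mem_centralizer_singleton_iff.2 htc.eq
      have h1 := hfixP _ ((Subgroup.mem_normalizer_iff''.1 huN _).1 htP)
      simp only [Subgroup.coe_mul, Subgroup.coe_inv, mul_smul] at h1
      rw [htu, inv_smul_eq_iff] at h1
      exact hwR (D.fix_inf _ u.2 huo hu1 w hwT (smul_eq_of_smul_eq_inv huo h1.symm))
    have hnc : Commute n r' := by
      refine commute_of_sq_eq_one hn2 (hsqP r' hrP) (Subtype.ext ?_)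
      have hconj : n * r' * n⁻¹ ∈ (P : Subgroup Γ) := (Subgroup.mem_normalizer_iff.1 hn r').1 hrP
      have hninv : n⁻¹ = n := inv_eq_of_mul_eq_one_right (by rw [← sq, hn2])
      have h4 : ((n * r') ^ 2) ^ 2 = 1 := by
        rw [sq (n * r'), show n * r' * (n * r') = n * r' * n⁻¹ * r' by rw [hninv]; group]
        exact hsqP _ (mul_mem hconj hrP)
      have := S.sq_eq_one_of_pow_four hp (g := ((n * r' : Γ) : K))
        (by rw [show (4 : ℕ) = 2 * 2 from rfl, pow_mul]; simpa using congrArg Subtype.val h4)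
      simpa using this
    have hnP : n ∈ (P : Subgroup Γ) := by
      rw [← hCP]; exact Subgroup.mem_centralizer_singleton_iff.2 hnc.eq
    rw [Subgroup.mem_centralizer_iff]
    intro g hg
    exact (commute_of_sq_eq_one (hsqP g hg) hn2 (hsqP _ (mul_mem hg hnP))).eq
  set f := MonoidHom.transferSylow P hN with hf
  have hodd : ∀ q ∈ f.ker, Odd (orderOf (q : K)) := by
    intro q hq
    have hc : ¬ 2 ∣ Nat.card f.ker := MonoidHom.not_dvd_card_ker_transferSylow P hN
    rw [← Nat.not_even_iff_odd, even_iff_two_dvd]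
    intro h2
    exact hc (h2.trans (by
      rw [Subgroup.orderOf_coe]; exact f.ker.orderOf_dvd_natCard hq))
  have hmem : ∀ u : Γ, Odd (orderOf (u : K)) → u ∈ f.ker := by
    intro u hu
    have h1 : orderOf (f u) ∣ orderOf (u : K) := by
      rw [Subgroup.orderOf_coe]; exact orderOf_map_dvd f u
    obtain ⟨k, hk⟩ := P.2 (f u)
    have h2 := orderOf_dvd_of_pow_eq_one hk
    have h3 : Nat.Coprime (2 ^ k) (orderOf (u : K)) :=
      (Nat.coprime_two_left.2 hu).pow_left k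
    rw [MonoidHom.mem_ker, ← orderOf_eq_one_iff]
    exact Nat.eq_one_of_dvd_coprimes h3 h2 h1
  have hinvert : ∀ r, Moves Γ T r → ∃ φ : MulAut f.ker,
      MonoidHom.FixedPointFree φ ∧ Function.Involutive φ ∧
      ∀ q : f.ker, (((φ q : f.ker) : Γ) : K) = r * ((q : Γ) : K) * r⁻¹ := by
    intro r hr
    refine ⟨MulAut.conjNormal (⟨r, hr.1⟩ : Γ), ?_, ?_, fun q => by simp⟩
    · intro q hq
      refine Subtype.ext (Subtype.ext (eq_one_of_commute S hp D hr q.1.2 (hodd q q.2) ?_))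
      have h1 := congrArg (fun z : f.ker => ((z : Γ) : K)) hq
      simp at h1
      exact (mul_inv_eq_iff_eq_mul.1 h1).symm
    · intro q
      have h1 : (⟨r, hr.1⟩ : Γ) * ⟨r, hr.1⟩ = 1 := Subtype.ext (by simpa [← sq] using hr.2.1)
      rw [← MulAut.mul_apply, ← map_mul, h1, map_one, MulAut.one_apply]
  refine ⟨f.ker.map Γ.subtype, Subgroup.map_subtype_le _, fun u hu huo =>
    ⟨⟨u, hu⟩, hmem _ huo, rfl⟩, ?_, ?_, ?_⟩
  · rintro _ ⟨q, hq, rfl⟩
    exact hodd q hq
  · rintro _ ⟨a, ha, rfl⟩ _ ⟨b, hb, rfl⟩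
    obtain ⟨φ, h1, h2, -⟩ := hinvert r₀ hr₀
    have := h1.commute_all_of_involutive h2 ⟨a, ha⟩ ⟨b, hb⟩
    exact congrArg (fun z : f.ker => ((z : Γ) : K)) this.eq
  · rintro r hr _ ⟨q, hq, rfl⟩
    obtain ⟨φ, h1, h2, h3⟩ := hinvert r hr
    have := h3 ⟨q, hq⟩
    rw [h1.coe_eq_inv_of_involutive h2] at this
    simpa using this.symm

/-- Commuting involutions non-trivial on `T` agree on `T`. -/
theorem mul_smul_eq {r s : K} (hr : Moves Γ T r) (hs : Moves Γ T s) (hc : Commute r s) {v : V}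
    (hv : v ∈ T) : (r * s) • v = v := by
  by_contra hne
  have hrs : Moves Γ T (r * s) :=
    ⟨Γ.mul_mem hr.1 hs.1, by rw [hc.mul_pow, hr.2.1, hs.2.1, one_mul], v, hv, hne⟩
  obtain ⟨Q, -, hQ, -, -, hinv⟩ := exists_oddPart S hp D
  obtain ⟨u, hu, huo, hu1⟩ := D.exists_odd
  have hm := hQ u hu huo
  have h1 := hinv r hr u hm
  have h2 := hinv s hs u hm
  have h3 := hinv _ hrs u hm
  rw [mul_inv_rev, show r * s * u * (s⁻¹ * r⁻¹) = r * (s * u * s⁻¹) * r⁻¹ by group, h2] at h3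
  rw [show r * u⁻¹ * r⁻¹ = (r * u * r⁻¹)⁻¹ by group, h1, inv_inv] at h3
  exact hu1 (eq_one_of_odd_of_sq huo (by rw [sq]; nth_rewrite 1 [h3]; rw [inv_mul_cancel]))

/-- An element trivial on `T` commutes with every element of odd order. -/
theorem commute_of_trivial {k u : K} (hk : k ∈ Γ) (hkT : ∀ v ∈ T, k • v = v) (hu : u ∈ Γ)
    (huo : Odd (orderOf u)) : Commute k u := by
  refine (commute_of_commute_sq huo ?_).symm
  have hk2 : k ^ 2 = 1 := by
    obtain ⟨v, hv, hvR⟩ := exists_mem_not_mem S hp D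
    exact sq_eq_one_of_fixed S hp D hk hv hvR (hkT v hv)
  have key : ∀ i ∈ Γ, i ^ 2 = 1 → Commute i k := by
    intro i hi hi2
    refine commute_of_sq_eq_one hi2 hk2 (S.sq_eq_one_of_pow_four hp ?_)
    have hiT : ∀ a ∈ T, i • a ∈ T := fun a ha => by simpa using add_mem (D.mov_le i hi a) ha
    have hm : (i * k) ^ 2 ∈ Γ := Γ.pow_mem (Γ.mul_mem hi hk) 2
    have hfix : ∀ v ∈ T, (i * k) ^ 2 • v = v := fun v hv => by
      rw [sq, mul_smul, mul_smul, mul_smul, hkT v hv, hkT _ (hiT v hv), smul_smul_of_sq hi2]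
    obtain ⟨v, hv, hvR⟩ := exists_mem_not_mem S hp D
    rw [show (4 : ℕ) = 2 * 2 from rfl, pow_mul]
    exact sq_eq_one_of_fixed S hp D hm hv hvR (hfix v hv)
  by_cases hu1 : u = 1
  · rw [hu1, one_pow]; exact Commute.one_left k
  obtain ⟨v, hv, hvR⟩ := exists_mem_not_mem S hp D
  obtain ⟨r, hr, hrv, hru⟩ := D.inverter u hu huo hu1 v
  have hr2 := sq_eq_one_of_fixed S hp D hr hv hvR hrv
  have hfix : (u * r * u) • v = v := by rw [mul_smul, mul_smul, hru, smul_inv_smul]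
  have hmem := Γ.mul_mem (Γ.mul_mem hu hr) hu
  have hc1 := key _ hmem (sq_eq_one_of_fixed S hp D hmem hv hvR hfix)
  have hc2 := key (u * r⁻¹ * u⁻¹) (Γ.mul_mem (Γ.mul_mem hu (Γ.inv_mem hr)) (Γ.inv_mem hu))
    (by rw [conj_pow, inv_pow, hr2, inv_one, mul_one, mul_inv_cancel])
  rw [show u ^ 2 = (u * r⁻¹ * u⁻¹) * (u * r * u) by rw [sq]; group]
  exact hc2.mul_left hc1

end CoreData

end CfsgLib.BinaryAffine
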