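import Cfsg.Agent.Lib.BinaryAffine.Field

/-!
# Consequences of the coordinates on a plane
-/

set_option autoImplicit false

namespace CfsgLib.BinaryAffine

variable {K V : Type*} [Group K] [AddCommGroup V] [DistribMulAction K V] {p : ℕ}
  {C : AddSubgroup V}

/-- What is used about a single plane. -/
structure Facts (K : Type*) [Group K] {V : Type*} [AddCommGroup V] [DistribMulAction K V]
    (C : AddSubgroup V) (q : ℕ) : Prop where
  one_lt : 1 < q
  cardU : Nat.card (planeU K C) = q * q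
  cardC : Nat.card C * (q * q) = Nat.card V
  disj : ∀ v ∈ C, v ∈ planeU K C → v = 0
  span : ∀ v : V, ∃ c ∈ C, ∃ u ∈ planeU K C, v = c + u
  card_mov : ∀ r : K, IsRefl C r → Nat.card (movV V r) = q
  card_fix : ∀ r : K, IsRefl C r → Nat.card (fixV V r ⊓ planeU K C : AddSubgroup V) = q
  fix_eq_mov : ∀ r : K, IsRefl C r →
    ∃ s : K, IsRefl C s ∧ Commute r s ∧ movV V s = fixV V r ⊓ planeU K C
  mirror_ex : ∀ u ∈ planeU K C, u ≠ 0 → ∃ r : K, IsRefl C r ∧ u ∈ movV V r
  mirror_unique : ∀ r s : K, IsRefl C r → IsRefl C s → ∀ u : V, u ≠ 0 → u ∈ movV V r →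
    u ∈ movV V s → r = s
  partner : ∀ r : K, IsRefl C r → ∃ s : K, IsRefl C s ∧ ¬ Commute r s
  scalar : ∀ s x y : K, s ^ 2 = 1 → IsRefl C x → IsRefl C y → ¬ Commute x y → Commute s x →
    Commute s y → (∀ u ∈ planeU K C, s • u = u) ∨ ∀ u ∈ planeU K C, s • u = -u

variable [Finite K] [Finite V] [FaithfulSMul K V] (S : Setup K V p) (hC : IsMaxFix K C)
  (P : PlaneProp K p C) {E : Type} [Field E] [Finite E] (D : Coord K C E)
include S hC P D

omit [Finite K] [Finite V] [Finite E] S hC in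
theorem coord_ext {g h : K} (hg : g ∈ fixing K C) (hh : h ∈ fixing K C)
    (he : ∀ u, D.e (planeEnd C ⟨g, hg⟩ u) = D.e (planeEnd C ⟨h, hh⟩ u)) : g = h :=
  eq_of_forall_smul fun v => by
    obtain ⟨c, hc, u, hu, rfl⟩ := P.span v
    rw [smul_add, smul_add, hg c hc, hh c hc]
    exact congrArg (c + ·) (congrArg Subtype.val (D.e.injective (he ⟨u, hu⟩)))

theorem facts_of_coord : Facts K C (Nat.card (fixF D.σ)) := by
  classical
  obtain ⟨g₀, hg₀, hg₀C, -⟩ := id hC
  have hq2 := card_fixF_sq D.invol D.moved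
  set q := Nat.card (fixF D.σ) with hq
  have hq1 : 1 < q := Finite.one_lt_card
  have hσ0 : ∀ {c : E}, c ≠ 0 → D.σ c ≠ 0 := fun {c} hc h =>
    hc (by rw [← D.invol c, h, map_zero])
  have hcardU : Nat.card (planeU K C) = q * q := by
    rw [hq2]; exact Nat.card_congr D.e.toEquiv
  -- the fixed line of a reflection
  have hline : ∀ n : E, n * D.σ n = 1 →
      Nat.card {x : E // n * D.σ x = x} = q := by
    intro n hn
    obtain ⟨c, hc0, hc⟩ := exists_mul_conj_eq D.invol D.moved hn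
    refine Nat.card_congr
      { toFun := fun x => ⟨x.1 / c, (mul_conj_eq_iff D.invol hc0 hc x.1).1 x.2⟩
        invFun := fun y => ⟨(y : E) * c, (mul_conj_eq_iff D.invol hc0 hc _).2
          (by rw [mul_div_cancel_right₀ _ hc0]; exact y.2)⟩
        left_inv := fun x => Subtype.ext (div_mul_cancel₀ x.1 hc0)
        right_inv := fun y => Subtype.ext (mul_div_cancel_right₀ (y : E) hc0) }
  have hneg : ∀ {n : E}, n * D.σ n = 1 → -n * D.σ (-n) = 1 := fun {n} hn => by
    rw [map_neg, neg_mul_neg, hn]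
  -- what a reflection moves
  have hmov : ∀ (r : K) (hr : IsRefl C r) (n : E), n * D.σ n = 1 →
      (∀ u, D.e (planeEnd C ⟨r, hr.1⟩ u) = n * D.σ (D.e u)) →
      (∀ v : V, v ∈ fixV V r ⊓ planeU K C ↔ ∃ h : v ∈ planeU K C,
        n * D.σ (D.e ⟨v, h⟩) = D.e ⟨v, h⟩) ∧
      ∀ v : V, v ∈ movV V r ↔ ∃ h : v ∈ planeU K C,
        -n * D.σ (D.e ⟨v, h⟩) = D.e ⟨v, h⟩ := by
    intro r hr n hn hrn
    have hfix : ∀ (v : V) (h : v ∈ planeU K C),
        r • v = v ↔ n * D.σ (D.e ⟨v, h⟩) = D.e ⟨v, h⟩ := by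
      intro v h
      rw [← hrn ⟨v, h⟩, D.e.injective.eq_iff]
      exact ⟨fun e => Subtype.ext e, fun e => congrArg Subtype.val e⟩
    refine ⟨fun v => ?_, fun v => ?_⟩
    · rw [AddSubgroup.mem_inf, mem_fixV]
      exact ⟨fun h => ⟨h.2, (hfix v h.2).1 h.1⟩, fun ⟨h, h'⟩ => ⟨(hfix v h).2 h', h⟩⟩
    · constructor
      · intro hv
        have hvU := movV_le_planeU hr.1 hv
        refine ⟨hvU, ?_⟩
        obtain ⟨w, rfl⟩ := mem_movV.1 hv
        obtain ⟨c, hc, m, hm, rfl⟩ := P.span w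
        have e : (⟨r • (c + m) - (c + m), hvU⟩ : planeU K C) =
            planeEnd C ⟨r, hr.1⟩ ⟨m, hm⟩ - ⟨m, hm⟩ :=
          Subtype.ext (by
            show r • (c + m) - (c + m) = r • m - m
            rw [smul_add, hr.1 c hc, add_sub_add_left_eq_sub])
        rw [e, map_sub, hrn, map_sub, map_mul, D.invol]
        linear_combination (-(D.e ⟨m, hm⟩)) * hn
      · rintro ⟨h, hv⟩
        obtain ⟨b, hb⟩ := D.moved
        -- solve `r m - m = v`
        set d := D.e ⟨v, h⟩
        have hbσ : b - D.σ b ≠ 0 := sub_ne_zero.2 (Ne.symm hb)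
        set y := D.σ b / (b - D.σ b) * d with hy
        have hval : n * D.σ y - y = d := by
          rw [hy, map_mul, map_div₀, map_sub, D.invol]
          have hd : n * D.σ d = -d := by linear_combination -hv
          have hbσ' : D.σ b - b ≠ 0 := sub_ne_zero.2 hb
          field_simp
          linear_combination ((b - D.σ b) * b) * hd
        refine mem_movV.2 ⟨(D.e.symm y : planeU K C), ?_⟩
        have : planeEnd C ⟨r, hr.1⟩ (D.e.symm y) - D.e.symm y = ⟨v, h⟩ := D.e.injective (by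
          rw [map_sub, hrn, D.e.apply_symm_apply]; exact hval)
        exact congrArg Subtype.val this
  have hcard : ∀ n : E, n * D.σ n = 1 → ∀ X : AddSubgroup V,
      (∀ v : V, v ∈ X ↔ ∃ h : v ∈ planeU K C, n * D.σ (D.e ⟨v, h⟩) = D.e ⟨v, h⟩) →
      Nat.card X = q := by
    intro n hn X hX
    rw [← hline n hn]
    exact Nat.card_congr
      { toFun := fun v => ⟨D.e ⟨v, ((hX v).1 v.2).1⟩, ((hX v).1 v.2).2⟩
        invFun := fun x => ⟨(D.e.symm x.1 : planeU K C), (hX _).2 ⟨(D.e.symm x.1).2, by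
          rw [Subtype.coe_eta, D.e.apply_symm_apply]; exact x.2⟩⟩
        left_inv := fun v => Subtype.ext (by simp)
        right_inv := fun x => Subtype.ext (by simp) }
  have hpartner : ∀ r : K, IsRefl C r → ∃ s : K, IsRefl C s ∧ ¬ Commute r s := by
    intro r hr
    obtain ⟨n, hn, hrn⟩ := D.refl r hr.1 hr
    have hg₀M : g₀ ∈ fixing K C := hg₀C ▸ mem_fixing_fixV g₀
    have hg₀r : IsRot C g₀ := ⟨hg₀M, Or.inr hg₀C⟩
    have hrr : r * r = 1 := by rw [← sq]; exact hC.refl_sq hr
    have hs : IsRefl C (g₀ * r) := (isRot_or_isRefl (mul_mem hg₀M hr.1)).resolve_left fun h => by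
      have := P.rot_mul _ _ hg₀r.inv h
      rw [inv_mul_cancel_left] at this
      exact this.not_isRefl hr
    refine ⟨g₀ * r, hs, fun hc => hg₀ ?_⟩
    have h1 := P.refl_inv r g₀ hr hg₀r
    have h2 : r * g₀ = g₀ * r := by
      have := hc.eq
      rw [← mul_assoc] at this
      exact mul_right_cancel this
    rw [h2, mul_inv_cancel_right] at h1
    rw [sq]; nth_rewrite 1 [h1]; rw [inv_mul_cancel]
  refine ⟨hq1, hcardU, ?_, P.disj, P.span, ?_, ?_, ?_, ?_, ?_, hpartner, ?_⟩
  · rw [← hcardU, ← Nat.card_prod]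
    refine Nat.card_congr (Equiv.ofBijective
      (fun cu : C × planeU K C => (cu.1 : V) + cu.2) ⟨?_, fun v => ?_⟩)
    · rintro ⟨c, u⟩ ⟨c', u'⟩ h
      have h1 : (c : V) - c' = u' - u := by
        rw [sub_eq_sub_iff_add_eq_add]; exact h.trans (add_comm _ _)
      have h2 := P.disj _ (sub_mem c.2 c'.2) (h1 ▸ sub_mem u'.2 u.2)
      rw [h2, eq_comm, sub_eq_zero] at h1
      exact Prod.ext (Subtype.ext (sub_eq_zero.1 h2)) (Subtype.ext h1.symm)
    · obtain ⟨c, hc, u, hu, rfl⟩ := P.span v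
      exact ⟨(⟨c, hc⟩, ⟨u, hu⟩), rfl⟩
  · intro r hr
    obtain ⟨n, hn, hrn⟩ := D.refl r hr.1 hr
    exact hcard (-n) (hneg hn) _ (hmov r hr n hn hrn).2
  · intro r hr
    obtain ⟨n, hn, hrn⟩ := D.refl r hr.1 hr
    exact hcard n hn _ (hmov r hr n hn hrn).1
  · intro r hr
    obtain ⟨n, hn, hrn⟩ := D.refl r hr.1 hr
    obtain ⟨s, hs, hsR, hsn⟩ := D.refl_surj (-n) (hneg hn)
    refine ⟨s, hsR, coord_ext P D (mul_mem hr.1 hs) (mul_mem hs hr.1) fun u => ?_, ?_⟩
    · rw [show (⟨r * s, mul_mem hr.1 hs⟩ : fixing K C) = ⟨r, hr.1⟩ * ⟨s, hs⟩ from rfl,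
        show (⟨s * r, mul_mem hs hr.1⟩ : fixing K C) = ⟨s, hs⟩ * ⟨r, hr.1⟩ from rfl,
        planeEnd_mul, planeEnd_mul]
      show D.e (planeEnd C _ (planeEnd C _ u)) = D.e (planeEnd C _ (planeEnd C _ u))
      rw [hrn, hsn, hsn, hrn]
      simp [D.invol]
    · ext v
      rw [(hmov s hsR (-n) (hneg hn) hsn).2 v, (hmov r hr n hn hrn).1 v]
      simp only [neg_neg]
  · intro u hu hu0
    have hd : D.e ⟨u, hu⟩ ≠ 0 := fun h => hu0 (congrArg Subtype.val
      (D.e.injective (h.trans (map_zero D.e).symm)))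
    set d := D.e ⟨u, hu⟩ with hd'
    obtain ⟨r, hr, hrR, hrn⟩ := D.refl_surj (-(d / D.σ d)) (hneg (by
      rw [map_div₀, D.invol]; field_simp [hσ0 hd]))
    refine ⟨r, hrR, ((hmov r hrR _ (hneg (by
      rw [map_div₀, D.invol]; field_simp [hσ0 hd])) hrn).2 u).2 ⟨hu, ?_⟩⟩
    rw [neg_neg, ← hd', div_mul_cancel₀ _ (hσ0 hd)]
  · intro r s hr hs u hu0 hur hus
    obtain ⟨n, hn, hrn⟩ := D.refl r hr.1 hr
    obtain ⟨m, hm, hsm⟩ := D.refl s hs.1 hs
    obtain ⟨hu, h1⟩ := ((hmov r hr n hn hrn).2 u).1 hur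
    obtain ⟨hu', h2⟩ := ((hmov s hs m hm hsm).2 u).1 hus
    have hd : D.e ⟨u, hu⟩ ≠ 0 := fun h => hu0 (congrArg Subtype.val
      (D.e.injective (h.trans (map_zero D.e).symm)))
    have hnm : n = m := neg_injective (mul_right_cancel₀ (hσ0 hd) (h1.trans h2.symm))
    subst hnm
    exact coord_ext P D hr.1 hs.1 fun w => by rw [hrn, hsm]
  · intro s x y hs2 hx hy hxy hsx hsy
    have hg : IsRot C (x * y) := P.refl_mul x y hx hy
    have hg2 : (x * y) ^ 2 ≠ 1 := fun h => hxy (by
      have e1 : x⁻¹ = x := inv_eq_of_mul_eq_one_right (by rw [← sq, hC.refl_sq hx])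
      have e2 : y⁻¹ = y := inv_eq_of_mul_eq_one_right (by rw [← sq, hC.refl_sq hy])
      have e3 : (x * y)⁻¹ = x * y := inv_eq_of_mul_eq_one_right (by rw [← sq, h])
      rw [mul_inv_rev, e1, e2] at e3
      exact e3.symm)
    have hsC : ∀ c ∈ C, s • c ∈ C := by
      intro c hc
      rw [← hC.fixV_eq hg.1 hg2] at hc ⊢
      exact smul_mem_fixV_of_commute (hsx.mul_right hsy) hc
    have hs' : s⁻¹ = s := inv_eq_of_mul_eq_one_right (by rw [← sq, hs2])
    have hss : ∀ v : V, s • s • v = v := fun v => by rw [← mul_smul, ← sq, hs2, one_smul]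
    have hconjM : ∀ h ∈ fixing K C, s * h * s ∈ fixing K C := fun h hh c hc => by
      rw [mul_smul, mul_smul, hh _ (hsC c hc), hss]
    have hconjR : ∀ h : K, IsRot C h → IsRot C (s * h * s) := by
      rintro h ⟨hh, h1 | h1⟩
      · refine ⟨hconjM h hh, Or.inl ?_⟩; rw [h1, mul_one, ← sq, hs2]
      · refine ⟨hconjM h hh, Or.inr ?_⟩
        ext v
        rw [mem_fixV, mul_smul, mul_smul]
        constructor
        · intro hv
          have : h • s • v = s • v := by rw [← hss (h • s • v), hv]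
          have hmem : s • v ∈ C := h1 ▸ mem_fixV.2 this
          have := hsC _ hmem
          rwa [hss] at this
        · intro hv
          rw [hh _ (hsC v hv), hss]
    have hsU : ∀ u ∈ planeU K C, s • u ∈ planeU K C := by
      intro u hu
      refine (planeU_le (X := (planeU K C).comap (DistribSMul.toAddMonoidHom V s))
        fun h hh v => ?_) hu
      show s • (h • v - v) ∈ planeU K C
      have : s • (h • v - v) = (s * h * s) • (s • v) - s • v := by
        rw [mul_smul, mul_smul, hss, smul_sub]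
      rw [this]
      exact movV_le_planeU (hconjM h hh) (sub_mem_movV _ _)
    let f : E →+ E :=
      { toFun := fun a => D.e ⟨s • (D.e.symm a : V), hsU _ (D.e.symm a).2⟩
        map_zero' := by simp
        map_add' := fun a b => by
          rw [← map_add]; congr 1
          exact Subtype.ext (by simp [smul_add]) }
    have hfe : ∀ (u : V) (hu : u ∈ planeU K C), f (D.e ⟨u, hu⟩) = D.e ⟨s • u, hsU u hu⟩ := by
      intro u hu
      show D.e _ = _
      congr 1
      exact Subtype.ext (by rw [D.e.symm_apply_apply])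
    have hff : ∀ a, f (f a) = a := by
      intro a
      show f (D.e _) = a
      rw [hfe, ← D.e.apply_symm_apply a]
      congr 1
      exact Subtype.ext (by simp only [D.e.symm_apply_apply]; exact hss _)
    let T : Subring E :=
      { carrier := {a | ∃ a', ∀ z, f (a * z) = a' * f z}
        zero_mem' := ⟨0, fun z => by simp⟩
        one_mem' := ⟨1, fun z => by simp⟩
        add_mem' := fun {a b} ⟨a', ha⟩ ⟨b', hb⟩ =>
          ⟨a' + b', fun z => by rw [add_mul, map_add, ha, hb, add_mul]⟩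
        mul_mem' := fun {a b} ⟨a', ha⟩ ⟨b', hb⟩ =>
          ⟨a' * b', fun z => by rw [mul_assoc, ha, hb, mul_assoc]⟩
        neg_mem' := fun {a} ⟨a', ha⟩ => ⟨-a', fun z => by rw [neg_mul, map_neg, ha, neg_mul]⟩ }
    have hrotconj : ∀ (g : K) (hg : IsRot C g) (n n' : E),
        (∀ u, D.e (planeEnd C ⟨g, hg.1⟩ u) = n * D.e u) →
        (∀ u, D.e (planeEnd C ⟨s * g * s, hconjM g hg.1⟩ u) = n' * D.e u) →
        ∀ z, f (n * z) = n' * f z := by
      intro g hg n n' hn hn'
      intro z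
      conv_lhs => rw [← D.e.apply_symm_apply z, ← hn]
      show f (D.e ⟨g • (D.e.symm z : V), _⟩) = _
      rw [hfe, show f z = D.e ⟨s • (D.e.symm z : V), hsU _ (D.e.symm z).2⟩ from rfl, ← hn']
      congr 1
      refine Subtype.ext ?_
      show s • g • (D.e.symm z : V) = (s * g * s) • s • (D.e.symm z : V)
      rw [mul_smul, mul_smul, hss]
    have hT : T = ⊤ := by
      rw [eq_top_iff, ← D.gen, Subring.closure_le]
      intro n hn
      obtain ⟨g, hg, hgR, hgn⟩ := D.rot_surj n hn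
      obtain ⟨n', -, hn'⟩ := D.rot _ (hconjM g hg) (hconjR g hgR)
      exact ⟨n', hrotconj g hgR n n' hgn hn'⟩
    choose φ₀ hφ₀ using fun a : E => (show a ∈ T from hT ▸ Subring.mem_top a)
    have huniq : ∀ a a' : E, (∀ z, f (a * z) = a' * f z) → φ₀ a = a' := fun a a' h => by
      have h1 := hφ₀ a (f 1)
      rw [h, hff, mul_one] at h1
      rw [mul_one] at h1
      exact h1.symm
    let φ : E ≃+* E :=
      { toFun := φ₀
        invFun := φ₀
        left_inv := fun a => huniq _ a fun z => by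
          have := hφ₀ a (f z)
          rw [hff] at this
          rw [← this, hff]
        right_inv := fun a => huniq _ a fun z => by
          have := hφ₀ a (f z)
          rw [hff] at this
          rw [← this, hff]
        map_mul' := fun a b => huniq _ _ fun z => by rw [mul_assoc, hφ₀, hφ₀, mul_assoc]
        map_add' := fun a b => huniq _ _ fun z => by rw [add_mul, map_add, hφ₀, hφ₀, add_mul] }
    obtain ⟨n, hn, hgn⟩ := D.rot _ hg.1 hg
    have hfixn : φ n = n := huniq n n fun z => hrotconj _ hg n n hgn (fun u => by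
      rw [← hgn]
      congr 2
      refine congrArg (planeEnd C) (Subtype.ext ?_)
      show s * (x * y) * s = x * y
      rw [(hsx.mul_right hsy).eq, mul_assoc, ← sq, hs2, mul_one]) z
    have hid : ∀ a, φ a = a := by
      by_contra hne
      push Not at hne
      have hinvφ : ∀ a, φ (φ a) = a := fun a => φ.left_inv a
      have h1 : n ∈ fixF φ := hfixn
      rw [fixF_eq hinvφ hne D.invol D.moved, mem_fixF] at h1
      rw [h1] at hn
      refine hg2 (coord_ext P D (pow_mem hg.1 2) (one_mem _) fun u => ?_)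
      rw [show (⟨(x * y) ^ 2, pow_mem hg.1 2⟩ : fixing K C) =
        ⟨x * y, hg.1⟩ * ⟨x * y, hg.1⟩ from Subtype.ext (sq _), planeEnd_mul,
        show (⟨1, one_mem _⟩ : fixing K C) = 1 from rfl, planeEnd_one]
      show D.e (planeEnd C _ (planeEnd C _ u)) = D.e u
      rw [hgn, hgn, ← mul_assoc, hn, one_mul]
    have hlin : ∀ a, f a = a * f 1 := fun a => by
      have h1 := hφ₀ a 1
      rw [mul_one] at h1
      rw [h1]; exact congrArg (· * f 1) (hid a)
    have he : f 1 * f 1 = 1 := by rw [← hlin (f 1), hff]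
    rcases mul_self_eq_one_iff.1 he with h | h
    · refine Or.inl fun u hu => congrArg Subtype.val (D.e.injective (a₁ := ⟨s • u, hsU u hu⟩)
        (a₂ := ⟨u, hu⟩) ?_)
      rw [← hfe u hu, hlin, h, mul_one]
    · refine Or.inr fun u hu => congrArg Subtype.val (D.e.injective (a₁ := ⟨s • u, hsU u hu⟩)
        (a₂ := -⟨u, hu⟩) ?_)
      rw [← hfe u hu, hlin, h, map_neg, mul_neg, mul_one]

end CfsgLib.BinaryAffine
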