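import Mathlib

/-!
# Involutive automorphisms of finite fields
-/

set_option autoImplicit false

namespace CfsgLib.BinaryAffine

variable {E : Type*} [Field E]

/-- The fixed subfield of a ring automorphism. -/
def fixF (τ : E ≃+* E) : Subfield E :=
  (τ : E →+* E).eqLocusField (RingHom.id E)

@[simp] theorem mem_fixF {τ : E ≃+* E} {x : E} : x ∈ fixF τ ↔ τ x = x := Iff.rfl

variable [Finite E] {τ : E ≃+* E} (h2 : ∀ a, τ (τ a) = a) (h1 : ∃ a, τ a ≠ a)
include h2 h1

omit [Finite E] in
theorem card_fixF_sq : Nat.card (fixF τ) * Nat.card (fixF τ) = Nat.card E := by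
  obtain ⟨b, hb⟩ := h1
  rw [← Nat.card_prod]
  refine Nat.card_congr (Equiv.ofBijective
    (fun xy : fixF τ × fixF τ => (xy.1 : E) + xy.2 * b) ⟨?_, ?_⟩)
  · rintro ⟨x, y⟩ ⟨x', y'⟩ h
    dsimp only at h
    have h' := congrArg τ h
    simp only [map_add, map_mul, mem_fixF.1 x.2, mem_fixF.1 y.2, mem_fixF.1 x'.2,
      mem_fixF.1 y'.2] at h'
    have e : ((y : E) - y') * (τ b - b) = 0 := by linear_combination h' - h
    have ey : (y : E) = y' := sub_eq_zero.1
      ((mul_eq_zero.1 e).resolve_right (sub_ne_zero.2 hb))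
    rw [ey, add_left_inj] at h
    exact Prod.ext (Subtype.ext h) (Subtype.ext ey)
  · intro a
    have hb' : τ b - b ≠ 0 := sub_ne_zero.2 hb
    have hy : (τ a - a) / (τ b - b) ∈ fixF τ := by
      rw [mem_fixF, map_div₀, map_sub, map_sub, h2, h2, ← neg_sub (τ a), ← neg_sub (τ b),
        neg_div_neg_eq]
    have hx : a - (τ a - a) / (τ b - b) * b ∈ fixF τ := by
      rw [mem_fixF] at hy ⊢
      rw [map_sub, map_mul, hy, eq_comm, sub_eq_sub_iff_sub_eq_sub]
      field_simp
      ring
    exact ⟨(⟨_, hx⟩, ⟨_, hy⟩), by simp⟩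

omit h2 h1 in
theorem mem_fixF_iff_pow (x : E) : x ∈ fixF τ ↔ x ^ Nat.card (fixF τ) = x := by
  have hpow : ∀ y : E, y ∈ fixF τ → y ^ Nat.card (fixF τ) = y := by
    intro y hy
    let _ : Fintype (fixF τ) := Fintype.ofFinite _
    have := congrArg Subtype.val (FiniteField.pow_card (⟨y, hy⟩ : fixF τ))
    rw [SubmonoidClass.coe_pow, ← Nat.card_eq_fintype_card] at this
    exact this
  refine ⟨hpow x, fun hx => ?_⟩
  by_contra hxF
  classical
  have hq : 1 < Nat.card (fixF τ) := Finite.one_lt_card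
  set P : Polynomial E := Polynomial.X ^ Nat.card (fixF τ) - Polynomial.X with hP
  have hdeg : P.natDegree = Nat.card (fixF τ) := FiniteField.X_pow_card_sub_X_natDegree_eq E hq
  have hP0 : P ≠ 0 := fun h => by rw [h, Polynomial.natDegree_zero] at hdeg; omega
  let _ : Fintype E := Fintype.ofFinite E
  let s : Finset E := Finset.univ.filter fun y => y ∈ fixF τ
  have hsub : (insert x s).val ⊆ P.roots := by
    intro y hy
    rw [Polynomial.mem_roots hP0, Polynomial.IsRoot.def]
    simp only [hP, Polynomial.eval_sub, Polynomial.eval_pow, Polynomial.eval_X, sub_eq_zero]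
    rcases Finset.mem_insert.1 hy with rfl | hy
    · exact hx
    · exact hpow y (Finset.mem_filter.1 hy).2
  have hle := Polynomial.card_le_degree_of_subset_roots hsub
  rw [Finset.card_insert_of_notMem (by simp [s, mem_fixF] at hxF ⊢; exact hxF), hdeg] at hle
  have hs : s.card = Nat.card (fixF τ) := by
    rw [Nat.card_eq_fintype_card]
    exact (Fintype.card_subtype _).symm
  omega

/-- Two non-trivial involutive automorphisms of a finite field have the same fixed points. -/
theorem fixF_eq {τ' : E ≃+* E} (h2' : ∀ a, τ' (τ' a) = a) (h1' : ∃ a, τ' a ≠ a) :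
    fixF τ = fixF τ' := by
  have e : Nat.card (fixF τ) = Nat.card (fixF τ') :=
    Nat.mul_self_inj.1 ((card_fixF_sq h2 h1).trans (card_fixF_sq h2' h1').symm)
  ext x
  rw [mem_fixF_iff_pow, mem_fixF_iff_pow, e]

omit [Finite E] in
/-- Every element of norm one is a quotient `c / τ c`. -/
theorem exists_mul_conj_eq {n : E} (hn : n * τ n = 1) : ∃ c : E, c ≠ 0 ∧ n * τ c = c := by
  by_cases h : 1 + n = 0
  · obtain ⟨b, hb⟩ := h1
    refine ⟨b - τ b, sub_ne_zero.2 (Ne.symm hb), ?_⟩
    rw [map_sub, h2, eq_neg_of_add_eq_zero_right h]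
    ring
  · exact ⟨1 + n, h, by rw [map_add, map_one, mul_add, hn, mul_one, add_comm]⟩

omit h1 [Finite E] in
/-- The solutions of `n * τ x = x` are the multiples of a non-zero one by fixed elements. -/
theorem mul_conj_eq_iff {n c : E} (hc0 : c ≠ 0) (hc : n * τ c = c) (x : E) :
    n * τ x = x ↔ x / c ∈ fixF τ := by
  have hτc : τ c ≠ 0 := fun h => hc0 (by rw [← h2 c, h, map_zero])
  rw [mem_fixF, map_div₀, div_eq_div_iff hτc hc0]
  have hn : n ≠ 0 := fun h => hc0 (by rw [← hc, h, zero_mul])
  constructor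
  · intro h
    linear_combination τ c * h - τ x * hc
  · intro h
    refine mul_right_cancel₀ hτc ?_
    linear_combination h + τ x * hc

end CfsgLib.BinaryAffine
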