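import Cfsg.Agent.Lib.BinaryAffine.Plane
import Cfsg.Agent.Lib.BinaryAffine.Involution

/-!
# Coordinates on the plane of a maximal fixed subgroup

The rotations generate a finite field `E` acting on the plane, the reflections act semilinearly
through the involutive automorphism `σ` of `E`, and the rotations are exactly the multiplications
by the elements `n` with `n * σ n = 1`.
-/

set_option autoImplicit false

namespace CfsgLib.BinaryAffine

variable {K V : Type*} [Group K] [AddCommGroup V] [DistribMulAction K V] {p : ℕ}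
  {C : AddSubgroup V}

/-- An element fixing `C` pointwise, as an endomorphism of the plane. -/
def planeEnd (C : AddSubgroup V) (h : fixing K C) : AddMonoid.End (planeU K C) where
  toFun u := ⟨(h : K) • (u : V), smul_mem_planeU h.2 u.2⟩
  map_zero' := Subtype.ext (smul_zero _)
  map_add' a b := Subtype.ext (smul_add (h : K) (a : V) b)

theorem planeEnd_mul (g h : fixing K C) : planeEnd C (g * h) = planeEnd C g * planeEnd C h := by
  refine AddMonoidHom.ext fun u => Subtype.ext ?_
  exact mul_smul (g : K) (h : K) (u : V)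

theorem planeEnd_one : planeEnd C (1 : fixing K C) = 1 :=
  AddMonoidHom.ext fun u => Subtype.ext (one_smul K (u : V))

theorem IsRot.inv {g : K} (hg : IsRot C g) : IsRot C g⁻¹ := by
  refine ⟨inv_mem hg.1, hg.2.imp (fun h => by rw [h, inv_one]) fun h => ?_⟩
  rw [← h]
  ext v
  rw [mem_fixV, mem_fixV, inv_smul_eq_iff, eq_comm]

variable (S : Setup K V p) (hC : IsMaxFix K C) (P : PlaneProp K p C)

/-- Coordinates on the plane of `C`. -/
structure Coord (K : Type*) [Group K] {V : Type*} [AddCommGroup V] [DistribMulAction K V]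
    (C : AddSubgroup V) (E : Type) [Field E] where
  /-- the conjugation -/
  σ : E ≃+* E
  /-- the coordinate map -/
  e : planeU K C ≃+ E
  invol : ∀ a, σ (σ a) = a
  moved : ∃ a, σ a ≠ a
  gen : Subring.closure {n : E | n * σ n = 1} = ⊤
  rot : ∀ (g : K) (hg : g ∈ fixing K C), IsRot C g →
    ∃ n : E, n * σ n = 1 ∧ ∀ u, e (planeEnd C ⟨g, hg⟩ u) = n * e u
  refl : ∀ (r : K) (hr : r ∈ fixing K C), IsRefl C r →
    ∃ n : E, n * σ n = 1 ∧ ∀ u, e (planeEnd C ⟨r, hr⟩ u) = n * σ (e u)
  rot_surj : ∀ n : E, n * σ n = 1 → ∃ (g : K) (hg : g ∈ fixing K C), IsRot C g ∧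
    ∀ u, e (planeEnd C ⟨g, hg⟩ u) = n * e u
  refl_surj : ∀ n : E, n * σ n = 1 → ∃ (r : K) (hr : r ∈ fixing K C), IsRefl C r ∧
    ∀ u, e (planeEnd C ⟨r, hr⟩ u) = n * σ (e u)

variable [Finite K] [Finite V] [FaithfulSMul K V]
include S hC P

omit [Finite K] in
theorem rot_irred {W : AddSubgroup V} (hW : W ≤ planeU K C) (hne : W ≠ ⊥)
    (hinv : ∀ g : K, IsRot C g → ∀ w ∈ W, g • w ∈ W) : planeU K C ≤ W := by
  obtain ⟨x, hxW, hx0⟩ := W.bot_or_exists_ne_zero.resolve_left hne
  obtain ⟨t₀, ht₀, ht₀x⟩ := P.refl_ex x (hW hxW) hx0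
  -- the span of the orbit of `x` under rotations
  set W' := AddSubgroup.closure {v | ∃ g : K, IsRot C g ∧ g • x = v} with hW'
  have hW'le : W' ≤ W := (AddSubgroup.closure_le _).2 fun v hv => by
    obtain ⟨g, hg, rfl⟩ := hv
    exact hinv g hg x hxW
  have hxW' : x ∈ W' := AddSubgroup.subset_closure ⟨1, isRot_one C, one_smul K x⟩
  have hW'inv : ∀ h ∈ fixing K C, ∀ w ∈ W', h • w ∈ W' := by
    intro h hh w hw
    induction hw using AddSubgroup.closure_induction with
    | mem v hv =>
      obtain ⟨g, hg, rfl⟩ := hv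
      rw [← mul_smul]
      rcases isRot_or_isRefl hh with h' | h'
      · exact AddSubgroup.subset_closure ⟨h * g, P.rot_mul h g h' hg, rfl⟩
      · -- a reflection maps `g • x` to a rotated copy of `x`
        have hkey : h * g = (h * t₀) * g⁻¹ * t₀ := by
          have := P.refl_inv t₀ g ht₀ hg
          rw [← this]
          have e : t₀ * t₀ = 1 := by rw [← sq]; exact hC.refl_sq ht₀
          have e' : t₀⁻¹ = t₀ := inv_eq_of_mul_eq_one_right e
          rw [e']
          simp only [mul_assoc]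
          rw [e, mul_one, ← mul_assoc t₀ t₀, e, one_mul]
        refine AddSubgroup.subset_closure
          ⟨h * t₀ * g⁻¹, P.rot_mul _ _ (P.refl_mul h t₀ h' ht₀) hg.inv, ?_⟩
        rw [hkey, mul_smul (h * t₀ * g⁻¹), ht₀x]
    | zero => rw [smul_zero]; exact zero_mem _
    | add a b _ _ ha hb => rw [smul_add]; exact add_mem ha hb
    | neg a _ ha => rw [smul_neg]; exact neg_mem ha
  refine le_trans (fun y hy => ?_) hW'le
  by_contra hyW
  have hy0 : y ≠ 0 := fun h => hyW (h ▸ zero_mem _)
  obtain ⟨t, ht, hty⟩ := P.refl_ex y hy hy0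
  -- the reflection `t` is trivial on `W'`
  have htriv : ∀ w ∈ W', t • w = w := by
    intro w hw
    have hyw : y + w ∈ planeU K C := add_mem hy (hW (hW'le hw))
    have hyw0 : y + w ≠ 0 := fun h => hyW (eq_neg_of_add_eq_zero_left h ▸ neg_mem hw)
    obtain ⟨s, hs, hsy⟩ := P.refl_ex _ hyw hyw0
    have hn := P.refl_mul s t hs ht
    have hmod : (s * t) • y - y ∈ W' := by
      have h1 : s • y = y + w - s • w := by rw [eq_sub_iff_add_eq, ← smul_add, hsy]
      rw [mul_smul, hty, h1]
      rw [add_sub_assoc, add_sub_cancel_left]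
      exact sub_mem hw (hW'inv s hs.1 w hw)
    set n := s * t with hn'
    by_cases hn1 : n = 1
    · have hst : s = t := by
        rw [eq_inv_of_mul_eq_one_left (show s * t = 1 from hn1)]
        exact inv_eq_of_mul_eq_one_right (by rw [← sq]; exact hC.refl_sq ht)
      rw [hst, smul_add, hty, add_right_inj] at hsy
      exact hsy
    · exfalso
      set m := orderOf n
      set ys := ∑ i ∈ Finset.range m, n ^ i • y with hsum
      have h1 : ys - m • y ∈ W' := by
        have : ∀ i, n ^ i • y - y ∈ W' := by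
          intro i
          induction i with
          | zero => simp
          | succ i ih =>
            have := add_mem (hW'inv n hn.1 _ ih) hmod
            rw [smul_sub, ← mul_smul, ← pow_succ'] at this
            simpa using this
        rw [hsum, show m • y = ∑ _i ∈ Finset.range m, y by simp, ← Finset.sum_sub_distrib]
        exact sum_mem fun i _ => this i
      have h2 : n • ys = ys := by
        rw [hsum, Finset.smul_sum]
        have e1 := Finset.sum_range_succ' (fun i => n ^ i • y) m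
        have e2 := Finset.sum_range_succ (fun i => n ^ i • y) m
        rw [e2, pow_orderOf_eq_one, pow_zero] at e1
        simp only [← mul_smul, ← pow_succ']
        exact (add_right_cancel e1).symm
      have h3 : ys = 0 := P.disj _ ((hn.2.resolve_left hn1) ▸ mem_fixV.2 h2)
        (sum_mem fun i _ => smul_mem_planeU (pow_mem hn.1 i) hy)
      rw [h3, zero_sub, neg_mem_iff] at h1
      have hcop := P.rot_coprime n hn
      have h4 : (AddSubgroup.zmultiples y : AddSubgroup V) ≤ AddSubgroup.zmultiples (m • y) := by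
        rw [AddSubgroup.zmultiples_le]
        have hbez := Nat.gcd_eq_gcd_ab m p
        rw [hcop, Nat.cast_one] at hbez
        refine AddSubgroup.mem_zmultiples_iff.2 ⟨Nat.gcdA m p, ?_⟩
        conv_rhs => rw [← one_zsmul y, hbez]
        rw [add_zsmul, mul_comm (m : ℤ), mul_zsmul, natCast_zsmul, mul_comm (p : ℤ), mul_zsmul,
          natCast_zsmul y p, S.exp, smul_zero, add_zero]
      exact hyW ((AddSubgroup.zmultiples_le.2 h1) (h4 (AddSubgroup.mem_zmultiples y)))
  -- so every rotation squares to one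
  obtain ⟨g, hg, hgC, -⟩ := id hC
  have hgM : g ∈ fixing K C := hgC ▸ mem_fixing_fixV g
  have hgrot : IsRot C g := ⟨hgM, Or.inr hgC⟩
  have h1 := P.refl_inv t g ht hgrot
  have hgx : g • x ∈ W' := AddSubgroup.subset_closure ⟨g, hgrot, rfl⟩
  have h2 : g⁻¹ • x = g • x := by
    rw [← h1, mul_smul, mul_smul, inv_smul_eq_iff.2 (htriv x hxW').symm, htriv _ hgx]
  have h3 : g ^ 2 • x = x := by rw [sq, mul_smul, ← h2, smul_inv_smul]
  rcases (P.rot_mul g g hgrot hgrot).2 with h5 | h5
  · exact hg (by rw [sq, h5])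
  · exact hx0 (P.disj x (h5 ▸ mem_fixV.2 (by rw [← sq, h3])) (hW hxW))

/-- Coordinates exist. -/
theorem exists_coord : ∃ (E : Type) (_ : Field E) (_ : Finite E), Nonempty (Coord K C E) := by
  classical
  obtain ⟨g₀, hg₀, hg₀C, -⟩ := id hC
  have hg₀M : g₀ ∈ fixing K C := hg₀C ▸ mem_fixing_fixV g₀
  have hg₀r : IsRot C g₀ := ⟨hg₀M, Or.inr hg₀C⟩
  obtain ⟨w, hw, hw0⟩ : ∃ w ∈ planeU K C, w ≠ 0 := by
    obtain ⟨v, hv⟩ := exists_moved (V := V) (h := g₀) (fun e => hg₀ (by rw [e, one_pow]))
    exact ⟨g₀ • v - v, movV_le_planeU hg₀M (sub_mem_movV g₀ v), sub_ne_zero.2 hv⟩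
  obtain ⟨t, ht, htw⟩ := P.refl_ex w hw hw0
  let gens : Set (AddMonoid.End (planeU K C)) :=
    {f | ∃ g : fixing K C, IsRot C (g : K) ∧ planeEnd C g = f}
  let A := Subring.closure gens
  have hcomm : ∀ x ∈ gens, ∀ y ∈ gens, x * y = y * x := by
    rintro _ ⟨a, ha, rfl⟩ _ ⟨b, hb, rfl⟩
    rw [← planeEnd_mul, ← planeEnd_mul,
      Subtype.ext (a1 := a * b) (a2 := b * a) (P.rot_comm _ _ ha hb).eq]
  have hAc : IsMulCommutative A := Subring.isMulCommutative_closure hcomm
  let iA : CommRing A :=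
    { (inferInstance : Ring A) with mul_comm := fun a b => mul_comm' a b }
  -- kernels and images
  have hinv : ∀ (a : A) (g : K) (hg : g ∈ fixing K C), IsRot C g → ∀ u,
      (a : AddMonoid.End (planeU K C)) (planeEnd C ⟨g, hg⟩ u) =
        planeEnd C ⟨g, hg⟩ ((a : AddMonoid.End (planeU K C)) u) := by
    intro a g hg hgr u
    have := mul_comm' a ⟨planeEnd C ⟨g, hg⟩, Subring.subset_closure ⟨⟨g, hg⟩, hgr, rfl⟩⟩
    exact DFunLike.congr_fun (congrArg Subtype.val this) u
  have hker : ∀ (a : A) (u : (planeU K C)), (a : AddMonoid.End (planeU K C)) u = 0 → u ≠ 0 → a = 0 := by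
    intro a u hu hu0
    have := rot_irred S hC P
      (W := (AddMonoidHom.ker (a : AddMonoid.End (planeU K C))).map (planeU K C).subtype)
      (fun v hv => by obtain ⟨y, -, rfl⟩ := hv; exact y.2)
      (fun h => hu0 (Subtype.ext (AddSubgroup.mem_bot.1 (h ▸ ⟨u, hu, rfl⟩))))
      (fun g hg v hv => by
        obtain ⟨y, hy, rfl⟩ := hv
        refine ⟨planeEnd C ⟨g, hg.1⟩ y, ?_, rfl⟩
        show (a : AddMonoid.End (planeU K C)) _ = 0
        rw [hinv a g hg.1 hg, (show (a : AddMonoid.End (planeU K C)) y = 0 from hy), map_zero])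
    refine Subtype.ext (AddMonoidHom.ext fun v => ?_)
    obtain ⟨y, hy, hyv⟩ := this v.2
    rw [Subtype.ext hyv] at hy
    exact hy
  set v₀ : (planeU K C) := ⟨w, hw⟩ with hv₀
  have hv₀0 : v₀ ≠ 0 := fun h => hw0 (congrArg Subtype.val h)
  have : Nontrivial A := by
    refine ⟨0, 1, fun h => hv₀0 ?_⟩
    exact (DFunLike.congr_fun (congrArg Subtype.val h) v₀).symm
  have : NoZeroDivisors A := by
    refine ⟨fun {a b} hab => or_iff_not_imp_right.2 fun hb => ?_⟩
    by_cases hbv : (b : AddMonoid.End (planeU K C)) v₀ = 0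
    · exact absurd (hker b v₀ hbv hv₀0) hb
    · exact hker a _ (DFunLike.congr_fun (congrArg Subtype.val hab) v₀) hbv
  have : IsDomain A := NoZeroDivisors.to_isDomain A
  have : Finite (AddMonoid.End (planeU K C)) := Finite.of_injective (fun f : AddMonoid.End (planeU K C) => (f : (planeU K C) → (planeU K C)))
    DFunLike.coe_injective
  let _ : Field A := (Finite.isField_of_domain A).toField
  -- evaluation at `v₀`
  let ev : A →+ (planeU K C) :=
    { toFun := fun a => (a : AddMonoid.End (planeU K C)) v₀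
      map_zero' := rfl
      map_add' := fun a b => rfl }
  have hevi : Function.Injective ev := by
    rw [injective_iff_map_eq_zero]
    exact fun a ha => hker a v₀ ha hv₀0
  have hevs : Function.Surjective ev := by
    intro u
    have := rot_irred S hC P (W := ev.range.map (planeU K C).subtype)
      (fun v hv => by obtain ⟨y, -, rfl⟩ := hv; exact y.2)
      (fun h => hw0 (AddSubgroup.mem_bot.1 (h ▸ ⟨v₀, ⟨1, rfl⟩, rfl⟩)))
      (fun g hg v hv => by
        obtain ⟨y, ⟨a, rfl⟩, rfl⟩ := hv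
        exact ⟨planeEnd C ⟨g, hg.1⟩ (ev a), ⟨⟨_, Subring.subset_closure ⟨⟨g, hg.1⟩, hg, rfl⟩⟩ * a,
          rfl⟩, rfl⟩)
    obtain ⟨y, hy, hyu⟩ := this u.2
    rw [Subtype.ext hyu] at hy
    exact hy
  -- conjugation by the reflection
  have ht2 : planeEnd C ⟨t, ht.1⟩ * planeEnd C ⟨t, ht.1⟩ = 1 := by
    rw [← planeEnd_mul, Subtype.ext (a1 := (⟨t, ht.1⟩ * ⟨t, ht.1⟩ : fixing K C)) (a2 := 1)
      (by rw [Subgroup.coe_mul, ← sq]; exact hC.refl_sq ht), planeEnd_one]
  set τ := planeEnd C ⟨t, ht.1⟩ with hτ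
  have hconj_gen : ∀ g : fixing K C, IsRot C (g : K) →
      τ * planeEnd C g * τ = planeEnd C g⁻¹ := by
    intro g hg
    rw [hτ, ← planeEnd_mul, ← planeEnd_mul]
    congr 1
    refine Subtype.ext ?_
    rw [Subgroup.coe_inv, ← P.refl_inv t g ht hg, Subgroup.coe_mul, Subgroup.coe_mul,
      inv_eq_of_mul_eq_one_right (show t * t = 1 by rw [← sq]; exact hC.refl_sq ht)]
  have hconj : ∀ a ∈ A, τ * a * τ ∈ A := by
    intro a ha
    induction ha using Subring.closure_induction with
    | mem x hx =>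
      obtain ⟨g, hg, rfl⟩ := hx
      rw [hconj_gen g hg]
      exact Subring.subset_closure ⟨g⁻¹, hg.inv, rfl⟩
    | zero => simp
    | one => rw [mul_one, ht2]; exact one_mem _
    | add x y _ _ hx hy => rw [mul_add, add_mul]; exact add_mem hx hy
    | neg x _ hx =>
      have e : τ * -x * τ = -(τ * x * τ) := AddMonoidHom.ext fun u => map_neg τ (x (τ u))
      exact e ▸ neg_mem hx
    | mul x y _ _ hx hy =>
      have : τ * (x * y) * τ = τ * x * τ * (τ * y * τ) := by
        simp only [mul_assoc]; rw [← mul_assoc τ τ, ht2, one_mul]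
      rw [this]; exact mul_mem hx hy
  let c : A → A := fun a => ⟨τ * a * τ, hconj a a.2⟩
  have hcc : ∀ a, c (c a) = a := fun a => Subtype.ext (by
    show τ * (τ * (a : AddMonoid.End (planeU K C)) * τ) * τ = a
    simp only [mul_assoc]; rw [ht2, mul_one, ← mul_assoc, ht2, one_mul])
  let σA : A ≃+* A :=
    { toFun := c
      invFun := c
      left_inv := hcc
      right_inv := hcc
      map_mul' := fun a b => Subtype.ext (by
        show τ * ((a : AddMonoid.End (planeU K C)) * b) * τ = τ * a * τ * (τ * b * τ)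
        simp only [mul_assoc]; rw [← mul_assoc τ τ, ht2, one_mul])
      map_add' := fun a b => Subtype.ext (by
        show τ * ((a : AddMonoid.End (planeU K C)) + b) * τ = τ * a * τ + τ * b * τ
        rw [mul_add, add_mul]) }
  -- transport to a small type
  have : Small.{0} A := inferInstance
  let E := Shrink.{0} A
  let φ : E ≃+* A := Shrink.ringEquiv A
  let evE : A ≃+ (planeU K C) := AddEquiv.ofBijective ev ⟨hevi, hevs⟩
  let co : (planeU K C) ≃+ E := evE.symm.trans φ.symm.toAddEquiv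
  let σ : E ≃+* E := (φ.trans σA).trans φ.symm
  have hσ : ∀ a, σ a = φ.symm (σA (φ a)) := fun a => rfl
  have hcoeq : ∀ (u : (planeU K C)), ((φ (co u) : A) : AddMonoid.End (planeU K C)) v₀ = u := fun u => by
    show ((φ (φ.symm (evE.symm u)) : A) : AddMonoid.End (planeU K C)) v₀ = u
    rw [RingEquiv.apply_symm_apply]
    exact evE.apply_symm_apply u
  have hco : ∀ (x : E) (u : (planeU K C)), ((φ x : A) : AddMonoid.End (planeU K C)) v₀ = u → co u = x := by
    intro x u h
    exact φ.injective (hevi (show ev _ = ev _ from (hcoeq u).trans h.symm))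
  have hτv : τ v₀ = v₀ := Subtype.ext htw
  have hrotE : ∀ g : fixing K C, IsRot C (g : K) → ∃ n : E, n * σ n = 1 ∧
      (φ n : AddMonoid.End (planeU K C)) = planeEnd C g := by
    intro g hg
    refine ⟨φ.symm ⟨_, Subring.subset_closure ⟨g, hg, rfl⟩⟩, φ.injective ?_, by simp⟩
    rw [map_mul, hσ, RingEquiv.apply_symm_apply, RingEquiv.apply_symm_apply, map_one]
    refine Subtype.ext ?_
    show planeEnd C g * (τ * planeEnd C g * τ) = 1
    rw [hconj_gen g hg, ← planeEnd_mul, mul_inv_cancel, planeEnd_one]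
  have hrefl : ∀ (r : K) (hr : r ∈ fixing K C), IsRefl C r → ∃ n : E, n * σ n = 1 ∧
      ((φ n : AddMonoid.End (planeU K C)) = planeEnd C ⟨r * t, mul_mem hr ht.1⟩ ∧
        ∀ u, co (planeEnd C ⟨r, hr⟩ u) = n * σ (co u)) := by
    intro r hr hrr
    obtain ⟨n, hn, hnr⟩ := hrotE ⟨r * t, mul_mem hr ht.1⟩ (P.refl_mul r t hrr ht)
    refine ⟨n, hn, hnr, fun u => hco _ _ ?_⟩
    rw [map_mul, Subring.coe_mul, hσ, RingEquiv.apply_symm_apply, hnr]
    show planeEnd C _ ((τ * (φ (co u) : AddMonoid.End (planeU K C)) * τ) v₀) = _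
    show planeEnd C _ (τ ((φ (co u) : AddMonoid.End (planeU K C)) (τ v₀))) = _
    rw [hτv, hcoeq]
    refine Subtype.ext ?_
    show (r * t) • t • (u : V) = r • (u : V)
    rw [mul_smul, ← mul_smul t t, ← sq, hC.refl_sq ht, one_smul]
  have hrot : ∀ (g : K) (hg : g ∈ fixing K C), IsRot C g → ∃ n : E, n * σ n = 1 ∧
      ∀ u, co (planeEnd C ⟨g, hg⟩ u) = n * co u := by
    intro g hg hgr
    obtain ⟨n, hn, hng⟩ := hrotE ⟨g, hg⟩ hgr
    refine ⟨n, hn, fun u => hco _ _ ?_⟩
    rw [map_mul, Subring.coe_mul, hng]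
    show planeEnd C _ ((φ (co u) : AddMonoid.End (planeU K C)) v₀) = _
    rw [hcoeq]
  have hinvol : ∀ a, σ (σ a) = a := fun a => by
    rw [hσ, hσ, RingEquiv.apply_symm_apply]
    show φ.symm (c (c (φ a))) = a
    rw [hcc, RingEquiv.symm_apply_apply]
  have hmoved : ∃ a, σ a ≠ a := by
    obtain ⟨n, hn, hng⟩ := hrotE ⟨g₀, hg₀M⟩ hg₀r
    refine ⟨n, fun h => hg₀ ?_⟩
    rw [h] at hn
    have h1 := congrArg (fun x : E => (φ x : AddMonoid.End (planeU K C))) hn
    simp only [map_mul, map_one, Subring.coe_mul, Subring.coe_one, hng] at h1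
    refine eq_one_of_forall_smul (V := V) fun v => ?_
    obtain ⟨c', hc', u, hu, rfl⟩ := P.span v
    have h2 := congrArg Subtype.val (DFunLike.congr_fun h1 ⟨u, hu⟩)
    rw [smul_add, (pow_mem hg₀M 2) c' hc', sq, mul_smul]
    exact congrArg (c' + ·) h2
  have hsurj : ∀ n : E, n * σ n = 1 → ∃ (r : K) (hr : r ∈ fixing K C), IsRefl C r ∧
      (φ n : AddMonoid.End (planeU K C)) = planeEnd C ⟨r * t, mul_mem hr ht.1⟩ ∧
      ∀ u, co (planeEnd C ⟨r, hr⟩ u) = n * σ (co u) := by
    intro n hn
    obtain ⟨x, hx0, hx⟩ := exists_mul_conj_eq hinvol hmoved hn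
    have hu0 : co.symm x ≠ 0 := fun h => hx0 (by
      rw [← co.apply_symm_apply x, h, map_zero])
    obtain ⟨r, hr, hrx⟩ := P.refl_ex _ (co.symm x).2 fun h => hu0 (Subtype.ext h)
    obtain ⟨m, -, hmr, hm⟩ := hrefl r hr.1 hr
    have h1 := hm (co.symm x)
    rw [show planeEnd C ⟨r, hr.1⟩ (co.symm x) = co.symm x from Subtype.ext hrx,
      co.apply_symm_apply] at h1
    have hmn : m = n := by
      refine mul_right_cancel₀ (b := σ x) (fun h => hx0 (by rw [← hinvol x, h, map_zero])) ?_
      rw [← h1, hx]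
    subst hmn
    exact ⟨r, hr.1, hr, hmr, hm⟩
  refine ⟨E, inferInstance, Finite.of_equiv A φ.symm.toEquiv, ⟨
    { σ := σ
      e := co
      invol := hinvol
      moved := hmoved
      gen := ?_
      rot := hrot
      refl := fun r hr hrr => by
        obtain ⟨n, hn, -, h⟩ := hrefl r hr hrr
        exact ⟨n, hn, h⟩
      rot_surj := fun n hn => by
        obtain ⟨r, hr, hrr, hnr, -⟩ := hsurj n hn
        refine ⟨r * t, mul_mem hr ht.1, P.refl_mul r t hrr ht, fun u => hco _ _ ?_⟩
        rw [map_mul, Subring.coe_mul, hnr]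
        show planeEnd C _ ((φ (co u) : AddMonoid.End (planeU K C)) v₀) = _
        rw [hcoeq]
      refl_surj := fun n hn => by
        obtain ⟨r, hr, hrr, -, h⟩ := hsurj n hn
        exact ⟨r, hr, hrr, h⟩ }⟩⟩
  rw [eq_top_iff]
  intro x _
  have key : ∀ a, ∀ ha : a ∈ A,
      φ.symm ⟨a, ha⟩ ∈ Subring.closure {n : E | n * σ n = 1} := by
    intro a ha
    induction ha using Subring.closure_induction with
    | mem y hy =>
      obtain ⟨g, hg, rfl⟩ := hy
      obtain ⟨n, hn, hng⟩ := hrotE g hg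
      rw [show φ.symm ⟨planeEnd C g, _⟩ = n from φ.injective (by
        rw [RingEquiv.apply_symm_apply]; exact Subtype.ext hng.symm)]
      exact Subring.subset_closure hn
    | zero => exact (map_zero φ.symm).symm ▸ zero_mem _
    | one => exact (map_one φ.symm).symm ▸ one_mem _
    | add y z hy hz ihy ihz =>
      exact (map_add φ.symm ⟨y, hy⟩ ⟨z, hz⟩).symm ▸ add_mem ihy ihz
    | neg y hy ihy => exact (map_neg φ.symm ⟨y, hy⟩).symm ▸ neg_mem ihy
    | mul y z hy hz ihy ihz =>
      exact (map_mul φ.symm ⟨y, hy⟩ ⟨z, hz⟩).symm ▸ mul_mem ihy ihz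
  have := key _ (φ x).2
  rwa [Subtype.coe_eta, RingEquiv.symm_apply_apply] at this

end CfsgLib.BinaryAffine
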