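import Cfsg.Agent.Lib.BinaryAffine.Plane

/-!
# The plane of a maximal fixed subgroup in odd characteristic
-/

set_option autoImplicit false

namespace CfsgLib.BinaryAffine

variable {K V : Type*} [Group K] [AddCommGroup V] [DistribMulAction K V] {p : ℕ}

/-- The data used in odd characteristic: `z` is `-1` on `U` and trivial on `C`. -/
structure NegData (S : Setup K V p) (C : AddSubgroup V) (z : K) : Prop where
  odd : p ≠ 2
  max : IsMaxFix K C
  mem : z ∈ fixing K C
  neg : ∀ u ∈ planeU K C, z • u = -u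
  disj : ∀ v ∈ C, v ∈ planeU K C → v = 0
  span : ∀ v : V, ∃ c ∈ C, ∃ u ∈ planeU K C, v = c + u

set_option synthInstance.maxSize 2000 in
theorem bool_pair_comb : ∀ q q' : Bool × Bool, q ≠ q' →
    (∀ s, s ≠ q → s ≠ q' → s.1 = true) ∨ (∀ s, s ≠ q → s ≠ q' → s.1 = false) ∨
    (∀ s, s ≠ q → s ≠ q' → s.2 = true) ∨ (∀ s, s ≠ q → s ≠ q' → s.2 = false) ∨
    (∀ s, s ≠ q → s ≠ q' → s.1 = s.2) ∨ (∀ s, s ≠ q → s ≠ q' → s.1 ≠ s.2) := by
  decide

namespace NegData

/-- A decomposition of the plane into subgroups on which independent signs are realised. -/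
structure Sep (K : Type*) [Group K] {V : Type*} [AddCommGroup V] [DistribMulAction K V]
    (C : AddSubgroup V) {ι : Type*} [Fintype ι] (A : ι → AddSubgroup V) : Prop where
  le : ∀ i, A i ≤ planeU K C
  ne_bot : ∀ i, A i ≠ ⊥
  span : ∀ u ∈ planeU K C, ∃ a : ι → V, (∀ i, a i ∈ A i) ∧ u = ∑ i, a i
  sep : ∀ i j, i ≠ j → ∃ h ∈ fixing K C, (∀ a ∈ A i, h • a = -a) ∧ ∀ a ∈ A j, h • a = a

variable [Finite K] [Finite V] [FaithfulSMul K V] {S : Setup K V p} {C : AddSubgroup V} {z : K}
  (D : NegData S C z)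
include D

omit [Finite K] [Finite V] [FaithfulSMul K V] in
theorem eq_zero_of_neg {u : V} (h : -u = u) : u = 0 := by
  refine S.eq_zero_of_coprime (n := 2)
    ((Nat.coprime_primes Nat.prime_two S.prime).2 (Ne.symm D.odd)) ?_
  rw [two_nsmul]; exact add_eq_zero_iff_neg_eq.2 h

omit [Finite K] [Finite V] [FaithfulSMul K V] in
theorem eq_zero_of_double {u : V} (h : u + u = 0) : u = 0 :=
  D.eq_zero_of_neg (add_eq_zero_iff_neg_eq.1 h)

omit [Finite K] [Finite V] [FaithfulSMul K V] in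
theorem exists_half (X : AddSubgroup V) {u : V} (hu : u ∈ X) : ∃ w ∈ X, w + w = u := by
  refine ⟨((p + 1) / 2) • u, nsmul_mem hu _, ?_⟩
  obtain ⟨k, hk⟩ := S.prime.odd_of_ne_two D.odd
  rw [← add_nsmul, show (p + 1) / 2 + (p + 1) / 2 = p + 1 by omega, succ_nsmul, S.exp, zero_add]

omit [Finite K] [Finite V] in
theorem ext_plane {g h : K} (hg : g ∈ fixing K C) (hh : h ∈ fixing K C)
    (he : ∀ u ∈ planeU K C, g • u = h • u) : g = h :=
  eq_of_forall_smul fun v => by
    obtain ⟨c, hc, u, hu, rfl⟩ := D.span v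
    rw [smul_add, smul_add, hg c hc, hh c hc, he u hu]

omit [Finite K] [Finite V] in
theorem z_comm {h : K} (hh : h ∈ fixing K C) : Commute z h :=
  D.ext_plane (mul_mem D.mem hh) (mul_mem hh D.mem) fun u hu => by
    rw [mul_smul, mul_smul, D.neg u hu, D.neg _ (smul_mem_planeU hh hu), smul_neg]

omit [Finite K] [Finite V] in
theorem z_sq : z ^ 2 = 1 :=
  D.ext_plane (pow_mem D.mem 2) (one_mem _) fun u hu => by
    rw [sq, mul_smul, D.neg u hu, smul_neg, D.neg u hu, neg_neg, one_smul]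

omit [Finite K] [Finite V] [FaithfulSMul K V] in
theorem neg_of_no_fixed {r : K} (hr : r ∈ fixing K C) (hr2 : r ^ 2 = 1)
    (h : ∀ u ∈ planeU K C, r • u = u → u = 0) : ∀ u ∈ planeU K C, r • u = -u := by
  intro u hu
  have h0 := h (r • u + u) (add_mem (smul_mem_planeU hr hu) hu)
    (by rw [smul_add, ← mul_smul, ← sq, hr2, one_smul, add_comm])
  exact eq_neg_of_add_eq_zero_left h0

omit [Finite K] in
theorem sq_eq_one {h : K} (hh : h ∈ fixing K C) {x : V} (hx : x ∈ planeU K C) (hx0 : x ≠ 0)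
    (hfix : h • x = x) : h ^ 2 = 1 :=
  D.max.sq_eq_one_of_fixed hh (fun hC => hx0 (D.disj x hC hx)) hfix

omit [Finite K] in
theorem commute_fixed {g h : K} (hg : g ∈ fixing K C) (hh : h ∈ fixing K C) {x : V}
    (hx : x ∈ planeU K C) (hx0 : x ≠ 0) (hgx : g • x = x) (hhx : h • x = x) : Commute g h := by
  have h1 := D.sq_eq_one hg hx hx0 hgx
  have h2 := D.sq_eq_one hh hx hx0 hhx
  have h3 := D.sq_eq_one (mul_mem hg hh) hx hx0 (by rw [mul_smul, hhx, hgx])
  have e1 : g⁻¹ = g := inv_eq_of_mul_eq_one_right (by rw [← sq, h1])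
  have e2 : h⁻¹ = h := inv_eq_of_mul_eq_one_right (by rw [← sq, h2])
  have e3 : (g * h)⁻¹ = g * h := inv_eq_of_mul_eq_one_right (by rw [← sq, h3])
  rw [mul_inv_rev, e1, e2] at e3
  exact e3.symm

omit [Finite K] [Finite V] in
theorem exists_fixed {r : K} (hr : r ∈ fixing K C) (hr2 : r ^ 2 = 1) (hrz : r ≠ z) :
    ∃ u ∈ planeU K C, u ≠ 0 ∧ r • u = u := by
  by_contra hne
  push Not at hne
  refine hrz (D.ext_plane hr D.mem fun u hu => ?_)
  rw [D.neg u hu]
  exact D.neg_of_no_fixed hr hr2 (fun w hw hwf => by_contra fun hw0 => hne w hw hw0 hwf) u hu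

omit [Finite K] in
theorem eq_z_of_four {g : K} (hg : g ∈ fixing K C) (h4 : g ^ 4 = 1) (h2 : g ^ 2 ≠ 1) :
    g ^ 2 = z := by
  by_contra hne
  obtain ⟨x, hx, hx0, hxf⟩ :=
    D.exists_fixed (pow_mem hg 2) (by rw [← pow_mul]; exact h4) hne
  have hx2 : g • g • x = x := by rw [← mul_smul, ← sq, hxf]
  by_cases h0 : g • x + x = 0
  · refine h2 ?_
    have := D.sq_eq_one (mul_mem D.mem hg) hx hx0
      (by rw [mul_smul, eq_neg_of_add_eq_zero_left h0, smul_neg, D.neg x hx, neg_neg])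
    rwa [(D.z_comm hg).mul_pow, D.z_sq, one_mul] at this
  · exact h2 (D.sq_eq_one hg (add_mem (smul_mem_planeU hg hx) hx) h0
      (by rw [smul_add, hx2, add_comm]))

omit [Finite K] in
theorem sq_smul_ne {g : K} (hg : g ∈ fixing K C) (h2 : g ^ 2 ≠ 1) {x : V}
    (hx : x ∈ planeU K C) (hx0 : x ≠ 0) : g ^ 2 • x ≠ x := by
  intro hfix
  have h4 : g ^ 4 = 1 := by
    rw [show (4 : ℕ) = 2 * 2 from rfl, pow_mul]; exact D.sq_eq_one (pow_mem hg 2) hx hx0 hfix
  rw [D.eq_z_of_four hg h4 h2, D.neg x hx] at hfix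
  exact hx0 (D.eq_zero_of_neg hfix)

/-! ### Separated decompositions -/

variable {ι : Type*} [Fintype ι] {A : ι → AddSubgroup V} (hA : Sep K C A)

omit [Finite K] [FaithfulSMul K V] in
include hA in
theorem exists_signFlip (i₀ : ι) : ∃ h ∈ fixing K C, (∀ a ∈ A i₀, h • a = -a) ∧
    ∀ i, i ≠ i₀ → ∀ a ∈ A i, h • a = a := by
  classical
  let f : ι → V → V := fun i a => if i = i₀ then -a else a
  have key : ∀ i j, ∃ h ∈ fixing K C, (∀ a ∈ A i, h • a = f i a) ∧ ∀ a ∈ A j, h • a = f j a := by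
    intro i j
    by_cases hi : i = i₀ <;> by_cases hj : j = i₀
    · exact ⟨z, D.mem, fun a ha => by simp [f, hi, D.neg a (hA.le i ha)],
        fun a ha => by simp [f, hj, D.neg a (hA.le j ha)]⟩
    · obtain ⟨h, hh, h1, h2⟩ := hA.sep i j (fun e => hj (e ▸ hi))
      exact ⟨h, hh, fun a ha => by simp [f, hi, h1 a ha], fun a ha => by simp [f, hj, h2 a ha]⟩
    · obtain ⟨h, hh, h1, h2⟩ := hA.sep j i (fun e => hi (e ▸ hj))
      exact ⟨h, hh, fun a ha => by simp [f, hi, h2 a ha], fun a ha => by simp [f, hj, h1 a ha]⟩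
    · exact ⟨1, one_mem _, fun a _ => by simp [f, hi], fun a _ => by simp [f, hj]⟩
  obtain ⟨h, hh⟩ := S.bin.exists_of_finite (ι := C ⊕ (Σ i, A i))
    (Sum.elim (fun c => (c : V)) fun a => (a.2 : V))
    (Sum.elim (fun c => (c : V)) fun a => f a.1 a.2)
    (by
      rintro (c | ⟨i, a⟩)
      · exact Rel.refl _
      · obtain ⟨h, -, h1, -⟩ := key i i
        exact ⟨h, h1 a a.2⟩)
    (by
      rintro (c | ⟨i, a⟩) (c' | ⟨j, b⟩) <;> simp only [Sum.elim_inl, Sum.elim_inr]
      · exact Rel.refl _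
      · obtain ⟨h, hh, h1, -⟩ := key j j
        exact ⟨h, by rw [smul_sub, hh c c.2, h1 b b.2]⟩
      · obtain ⟨h, hh, h1, -⟩ := key i i
        exact ⟨h, by rw [smul_sub, hh c' c'.2, h1 a a.2]⟩
      · obtain ⟨h, hh, h1, h2⟩ := key i j
        exact ⟨h, by rw [smul_sub, h1 a a.2, h2 b b.2]⟩)
  refine ⟨h, fun c hc => hh (Sum.inl ⟨c, hc⟩), fun a ha => ?_, fun i hi a ha => ?_⟩
  · simpa [f] using hh (Sum.inr ⟨i₀, a, ha⟩)
  · simpa [f, hi] using hh (Sum.inr ⟨i, a, ha⟩)

omit [Finite K] [FaithfulSMul K V] in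
include hA in
theorem sep_unique {a : ι → V} (ha : ∀ i, a i ∈ A i) (h0 : ∑ i, a i = 0) (i : ι) : a i = 0 := by
  classical
  obtain ⟨h, -, h1, h2⟩ := D.exists_signFlip hA i
  have hs : ∑ j, h • a j = 0 := by rw [← Finset.smul_sum, h0, smul_zero]
  have e1 := Finset.sum_erase_add Finset.univ a (Finset.mem_univ i)
  have e2 := Finset.sum_erase_add Finset.univ (fun j => h • a j) (Finset.mem_univ i)
  rw [Finset.sum_congr rfl fun j hj => h2 j (Finset.ne_of_mem_erase hj) _ (ha j), h1 _ (ha i),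
    hs] at e2
  rw [h0] at e1
  refine D.eq_zero_of_double ?_
  linear_combination (norm := abel) e1 - e2

omit [Finite K] [FaithfulSMul K V] in
include hA in
theorem sep_ext {a b : ι → V} (ha : ∀ i, a i ∈ A i) (hb : ∀ i, b i ∈ A i)
    (h : ∑ i, a i = ∑ i, b i) : a = b := by
  funext i
  exact sub_eq_zero.1 (D.sep_unique hA (a := fun j => a j - b j) (fun j => sub_mem (ha j) (hb j))
    (by rw [Finset.sum_sub_distrib, h, sub_self]) i)

omit [Finite K] [FaithfulSMul K V] in
include hA in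
theorem sep_card_le : Fintype.card ι ≤ Nat.card V := by
  classical
  choose a ha ha0 using fun i => (A i).bot_or_exists_ne_zero.resolve_left (hA.ne_bot i)
  rw [← Nat.card_eq_fintype_card]
  refine Nat.card_le_card_of_injective a fun i j hij => ?_
  by_contra hne
  obtain ⟨h, -, h1, h2⟩ := D.exists_signFlip hA i
  have := h2 j (Ne.symm hne) _ (ha j)
  rw [← hij, h1 _ (ha i)] at this
  exact ha0 i (D.eq_zero_of_neg this)

omit [Finite K] [FaithfulSMul K V] in
include hA in
/-- The subgroup `A i` consists of the vectors of the plane negated by a sign flip at `i`. -/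
theorem mem_iff_neg {i : ι} {h : K} (h1 : ∀ a ∈ A i, h • a = -a)
    (h2 : ∀ j, j ≠ i → ∀ a ∈ A j, h • a = a) {u : V} (hu : u ∈ planeU K C) :
    u ∈ A i ↔ h • u = -u := by
  classical
  refine ⟨h1 u, fun hneg => ?_⟩
  obtain ⟨a, ha, rfl⟩ := hA.span u hu
  have e : ∑ j, h • a j = ∑ j, -a j := by rw [← Finset.smul_sum, hneg, Finset.sum_neg_distrib]
  have := D.sep_ext hA (a := fun j => h • a j) (b := fun j => -a j)
    (fun j => by
      by_cases hj : j = i
      · subst hj; rw [h1 _ (ha j)]; exact neg_mem (ha j)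
      · rw [h2 j hj _ (ha j)]; exact ha j)
    (fun j => neg_mem (ha j)) e
  rw [Finset.sum_eq_single i (fun j _ hj => ?_) (by simp)]
  · exact ha i
  · have h' := congrFun this j
    simp only [h2 j hj _ (ha j)] at h'
    exact D.eq_zero_of_neg h'.symm

omit [Finite K] in
/-- A pair of non-commuting involutions has no common eigenvector in the plane. -/
theorem no_common {a b : K} (ha : a ∈ fixing K C) (hb : b ∈ fixing K C) (hab : ¬ Commute a b)
    {u : V} (hu : u ∈ planeU K C) (h1 : a • u = u ∨ a • u = -u) (h2 : b • u = u ∨ b • u = -u) :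
    u = 0 := by
  by_contra hu0
  have hza : ∀ g ∈ fixing K C, (g • u = u ∨ g • u = -u) →
      ∃ g' ∈ fixing K C, g' • u = u ∧ (g = g' ∨ g = z * g') := by
    rintro g hg (h | h)
    · exact ⟨g, hg, h, Or.inl rfl⟩
    · exact ⟨z * g, mul_mem D.mem hg, by rw [mul_smul, h, smul_neg, D.neg u hu, neg_neg],
        Or.inr (by rw [← mul_assoc, ← sq, D.z_sq, one_mul])⟩
  obtain ⟨a', ha', hau, ha''⟩ := hza a ha h1
  obtain ⟨b', hb', hbu, hb''⟩ := hza b hb h2
  have hc := D.commute_fixed ha' hb' hu hu0 hau hbu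
  have hza' : Commute z a' := D.z_comm ha'
  have hzb' : Commute z b' := D.z_comm hb'
  refine hab ?_
  rcases ha'' with rfl | rfl <;> rcases hb'' with rfl | rfl
  · exact hc
  · exact hza'.symm.mul_right hc
  · exact hzb'.mul_left hc
  · exact ((Commute.refl z).mul_left hza'.symm).mul_right (hzb'.mul_left hc)

/-- The eigen subgroup for the sign given by `s`. -/
def eig (z : K) (C : AddSubgroup V) (r : K) (s : Bool) : AddSubgroup V :=
  planeU K C ⊓ fixV V (if s then r else z * r)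

omit [Finite K] [Finite V] [FaithfulSMul K V] in
theorem mem_eig {r : K} (hr : r ∈ fixing K C) {s : Bool} {u : V} :
    u ∈ eig z C r s ↔ u ∈ planeU K C ∧ r • u = if s then u else -u := by
  rw [eig, AddSubgroup.mem_inf, mem_fixV]
  refine and_congr_right fun hu => ?_
  cases s
  · simp only [Bool.false_eq_true, if_false]
    rw [mul_smul, D.neg _ (smul_mem_planeU hr hu), neg_eq_iff_eq_neg]
  · simp

omit [Finite K] [Finite V] [FaithfulSMul K V] in
theorem eig_span {r : K} (hr : r ∈ fixing K C) (hr2 : r ^ 2 = 1) {X : AddSubgroup V}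
    (hXU : X ≤ planeU K C) (hX : ∀ v ∈ X, r • v ∈ X) {u : V} (hu : u ∈ X) :
    ∃ a ∈ X ⊓ eig z C r true, ∃ b ∈ X ⊓ eig z C r false, u = a + b := by
  obtain ⟨w, hw, rfl⟩ := D.exists_half X hu
  have hrr : r • r • w = w := by rw [← mul_smul, ← sq, hr2, one_smul]
  refine ⟨w + r • w, AddSubgroup.mem_inf.2 ⟨add_mem hw (hX w hw),
    (D.mem_eig hr).2 ⟨hXU (add_mem hw (hX w hw)), ?_⟩⟩, w - r • w,
    AddSubgroup.mem_inf.2 ⟨sub_mem hw (hX w hw),
    (D.mem_eig hr).2 ⟨hXU (sub_mem hw (hX w hw)), ?_⟩⟩, by abel⟩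
  · rw [smul_add, hrr, if_pos rfl, add_comm]
  · rw [smul_sub, hrr, if_neg Bool.false_ne_true, neg_sub]

omit [Finite K] in
/-- Non-commuting involutions have eigen subgroups of equal size. -/
theorem card_eig {a b : K} (ha : a ∈ fixing K C) (hb : b ∈ fixing K C) (ha2 : a ^ 2 = 1)
    (hb2 : b ^ 2 = 1) (hab : ¬ Commute a b) (s : Bool) :
    Nat.card (eig z C b s) * Nat.card (eig z C b s) = Nat.card (planeU K C) := by
  have hcross : ∀ s t, Nat.card (eig z C a s) * Nat.card (eig z C b t) ≤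
      Nat.card (planeU K C) := fun s t =>
    card_mul_le_of_disjoint inf_le_left inf_le_left (by
      rw [eq_bot_iff]
      intro u hu
      obtain ⟨h1, h2⟩ := AddSubgroup.mem_inf.1 hu
      rw [D.mem_eig ha] at h1
      rw [D.mem_eig hb] at h2
      refine AddSubgroup.mem_bot.2 (D.no_common ha hb hab h1.1 ?_ ?_)
      · cases s
        · exact Or.inr (by simpa using h1.2)
        · exact Or.inl (by simpa using h1.2)
      · cases t
        · exact Or.inr (by simpa using h2.2)
        · exact Or.inl (by simpa using h2.2))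
  have hprod : ∀ r : K, r ∈ fixing K C → r ^ 2 = 1 →
      Nat.card (eig z C r true) * Nat.card (eig z C r false) = Nat.card (planeU K C) := by
    intro r hr hr2
    refine le_antisymm (card_mul_le_of_disjoint inf_le_left inf_le_left ?_) ?_
    · rw [eq_bot_iff]
      intro u hu
      obtain ⟨h1, h2⟩ := AddSubgroup.mem_inf.1 hu
      rw [D.mem_eig hr] at h1 h2
      exact AddSubgroup.mem_bot.2 (D.eq_zero_of_neg (by
        have := h1.2.symm.trans h2.2; simpa using this.symm))
    · rw [← Nat.card_prod]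
      refine Nat.card_le_card_of_surjective
        (fun ab : eig z C r true × eig z C r false =>
          (⟨ab.1 + ab.2, add_mem (inf_le_left (b := fixV V _) ab.1.2)
            (inf_le_left (b := fixV V _) ab.2.2)⟩ : planeU K C)) fun v => ?_
      obtain ⟨x, hx, y, hy, hv⟩ :=
        D.eig_span hr hr2 le_rfl (fun w hw => smul_mem_planeU hr hw) v.2
      exact ⟨(⟨x, (AddSubgroup.mem_inf.1 hx).2⟩, ⟨y, (AddSubgroup.mem_inf.1 hy).2⟩),
        Subtype.ext hv.symm⟩
  have h1 := hcross true true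
  have h2 := hcross false true
  have h3 := hcross true false
  have h4 := hcross false false
  have pa := hprod a ha ha2
  have pb := hprod b hb hb2
  have pos : ∀ X : AddSubgroup V, 0 < Nat.card X := fun X => Nat.card_pos
  have hle : ∀ s t, Nat.card (eig z C b s) ≤ Nat.card (eig z C a t) := by
    intro s t
    cases t
    · refine Nat.le_of_mul_le_mul_left ?_ (pos (eig z C a true))
      rw [pa]; exact hcross true s
    · refine Nat.le_of_mul_le_mul_right ?_ (pos (eig z C a false))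
      rw [pa, mul_comm]; exact hcross false s
  have hle' : ∀ s t, Nat.card (eig z C a s) ≤ Nat.card (eig z C b t) := by
    intro s t
    cases t
    · refine Nat.le_of_mul_le_mul_left ?_ (pos (eig z C b true))
      rw [pb, mul_comm]; exact hcross s true
    · refine Nat.le_of_mul_le_mul_right ?_ (pos (eig z C b false))
      rw [pb]; exact hcross s false
  have e : Nat.card (eig z C b true) = Nat.card (eig z C b false) :=
    le_antisymm ((hle true true).trans (hle' true false)) ((hle false true).trans (hle' true true))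
  cases s
  · nth_rewrite 1 [← e]; exact pb
  · nth_rewrite 2 [e]; exact pb

omit [Finite K] in
include hA in
/-- An involution fails to commute with at most one sign flip, as soon as there are three
components. -/
theorem card_noncommute_le (h3 : 3 ≤ Fintype.card ι) {r : K} (hr : r ∈ fixing K C)
    (hr2 : r ^ 2 = 1) (h : ι → K) (hh : ∀ i, h i ∈ fixing K C)
    (h1 : ∀ i, ∀ a ∈ A i, h i • a = -a) (h2 : ∀ i j, j ≠ i → ∀ a ∈ A j, h i • a = a)
    {i j : ι} (hi : ¬ Commute r (h i)) (hj : ¬ Commute r (h j)) : i = j := by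
  classical
  by_contra hne
  have hsq : ∀ i, (h i) ^ 2 = 1 := fun i => D.ext_plane (pow_mem (hh i) 2) (one_mem _) fun u hu => by
    obtain ⟨a, ha, rfl⟩ := hA.span u hu
    rw [one_smul, Finset.smul_sum]
    refine Finset.sum_congr rfl fun j _ => ?_
    rw [sq, mul_smul]
    by_cases hji : j = i
    · subst hji; rw [h1 j _ (ha j), smul_neg, h1 j _ (ha j), neg_neg]
    · rw [h2 i j hji _ (ha j), h2 i j hji _ (ha j)]
  have heig : ∀ i, A i = eig z C (h i) false := fun i => by
    ext u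
    rw [D.mem_eig (hh i)]
    simp only [Bool.false_eq_true, if_false]
    exact ⟨fun hu => ⟨hA.le i hu, h1 i u hu⟩,
      fun hu => (D.mem_iff_neg hA (h1 i) (h2 i) hu.1).2 hu.2⟩
  have ci := D.card_eig hr (hh i) hr2 (hsq i) hi false
  have cj := D.card_eig hr (hh j) hr2 (hsq j) hj false
  rw [← heig] at ci cj
  have hij : Nat.card (A i) = Nat.card (A j) := Nat.mul_self_inj.1 (ci.trans cj.symm)
  obtain ⟨k, hki, hkj⟩ : ∃ k, k ≠ i ∧ k ≠ j := by
    by_contra hno
    push Not at hno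
    have : (Finset.univ : Finset ι) ⊆ {i, j} := fun k _ => by
      by_cases hki : k = i
      · simp [hki]
      · simp [hno k hki]
    have := Finset.card_le_card this
    rw [Finset.card_univ, Finset.card_pair hne] at this
    omega
  obtain ⟨a, ha, ha0⟩ := (A k).bot_or_exists_ne_zero.resolve_left (hA.ne_bot k)
  have hdis : A i ⊓ A j = ⊥ := by
    rw [eq_bot_iff]
    intro u hu
    obtain ⟨h1', h2'⟩ := AddSubgroup.mem_inf.1 hu
    exact AddSubgroup.mem_bot.2 (D.eq_zero_of_neg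
      ((h1 i u h1').symm.trans (h2 i j (Ne.symm hne) u h2')))
  obtain ⟨x, hx, y, hy, hxy⟩ := exists_add_of_disjoint_card (hA.le i) (hA.le j) hdis
    (by rw [← hij, ci]) (hA.le k ha)
  have e := h2 k i (Ne.symm hki) x hx
  have e' := h2 k j (Ne.symm hkj) y hy
  have := h1 k a ha
  rw [hxy, smul_add, e, e'] at this
  exact ha0 (hxy ▸ D.eq_zero_of_neg this.symm)

include hA in
/-- A separated decomposition with three parts can be refined. -/
theorem exists_refine (h3 : 3 ≤ Fintype.card ι) :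
    ∃ (m : ℕ) (B : Fin m → AddSubgroup V), Fintype.card ι < m ∧ Sep K C B := by
  classical
  choose h hh h1 h2 using D.exists_signFlip hA
  choose a ha ha0 using fun i => (A i).bot_or_exists_ne_zero.resolve_left (hA.ne_bot i)
  have hne : Nonempty ι := Fintype.card_pos_iff.1 (by omega)
  set x := ∑ i, a i with hx
  have hxU : x ∈ planeU K C := sum_mem fun i _ => hA.le i (ha i)
  obtain ⟨i₁⟩ := hne
  have hx0 : x ≠ 0 := fun h => ha0 i₁ (D.sep_unique hA ha h i₁)
  obtain ⟨g, hg, hgC, -⟩ := id D.max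
  have hgM : g ∈ fixing K C := hgC ▸ mem_fixing_fixV g
  obtain ⟨r, hr, hrx, hru⟩ := S.exists_inverter' g x
  rw [hgC] at hr
  have hr1 : r ≠ 1 := fun e => D.sq_smul_ne hgM hg hxU hx0 (by
    rw [e, one_smul] at hru
    rw [sq, mul_smul, hru, smul_inv_smul])
  have hr2 := D.sq_eq_one hr hxU hx0 hrx
  obtain ⟨i₀, hi₀⟩ : ∃ i₀, ∀ i, i ≠ i₀ → Commute r (h i) := by
    by_cases hall : ∃ i, ¬ Commute r (h i)
    · obtain ⟨i, hi⟩ := hall
      exact ⟨i, fun j hj => by_contra fun hj' =>
        hj (D.card_noncommute_le hA h3 hr hr2 h hh h1 h2 hj' hi)⟩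
    · exact ⟨i₁, fun i _ => not_not.1 (not_exists.1 hall i)⟩
  -- `r` preserves every component
  have hpres : ∀ i, ∀ v ∈ A i, r • v ∈ A i := by
    intro i v hv
    have hvU := smul_mem_planeU hr (hA.le i hv)
    by_cases hi : i = i₀
    · subst hi
      obtain ⟨b, hb, hbv⟩ := hA.span _ hvU
      rw [hbv, Finset.sum_eq_single i (fun j _ hj => ?_) (by simp)]
      · exact hb i
      have hfix : h j • (r • v) = r • v := by
        rw [← smul_comm_of_commute (hi₀ j hj), h2 j i (Ne.symm hj) v hv]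
      rw [hbv, Finset.smul_sum] at hfix
      have := congrFun (D.sep_ext hA (a := fun k => h j • b k) (b := b)
        (fun k => by
          by_cases hk : k = j
          · subst hk; rw [h1 k _ (hb k)]; exact neg_mem (hb k)
          · rw [h2 j k hk _ (hb k)]; exact hb k) hb hfix) j
      simp only [h1 j _ (hb j)] at this
      exact D.eq_zero_of_neg this
    · refine (D.mem_iff_neg hA (h1 i) (h2 i) hvU).2 ?_
      rw [← smul_comm_of_commute (hi₀ i hi), h1 i v hv, smul_neg]
  have hra : ∀ i, r • a i = a i := congrFun (D.sep_ext hA (a := fun i => r • a i) (b := a)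
    (fun i => hpres i _ (ha i)) ha (by rw [← Finset.smul_sum, ← hx, hrx]))
  -- the refinement
  let B : ι × Bool → AddSubgroup V := fun q => A q.1 ⊓ eig z C r q.2
  have htrue : ∀ i, B (i, true) ≠ ⊥ := fun i h0 => ha0 i (AddSubgroup.mem_bot.1 (h0 ▸
    (AddSubgroup.mem_inf.2 ⟨ha i, (D.mem_eig hr).2 ⟨hA.le i (ha i), by simp [hra i]⟩⟩ :
      a i ∈ B (i, true))))
  obtain ⟨i₂, hi₂⟩ : ∃ i, B (i, false) ≠ ⊥ := by
    by_contra hno
    push Not at hno
    refine hr1 (D.ext_plane hr (one_mem _) fun u hu => ?_)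
    obtain ⟨b, hb, rfl⟩ := hA.span u hu
    rw [one_smul, Finset.smul_sum]
    refine Finset.sum_congr rfl fun i _ => ?_
    obtain ⟨c, hc, d, hd, hcd⟩ := D.eig_span hr hr2 (hA.le i) (hpres i) (hb i)
    have hd' : d ∈ B (i, false) := hd
    rw [hno i, AddSubgroup.mem_bot] at hd'
    rw [hcd, hd', add_zero]
    simpa using ((D.mem_eig hr).1 (AddSubgroup.mem_inf.1 hc).2).2
  let ι' := {q : ι × Bool // B q ≠ ⊥}
  have hsep : Sep K C (fun q : ι' => B q.1) := by
    refine ⟨fun q => inf_le_left.trans (hA.le q.1.1), fun q => q.2, fun u hu => ?_, ?_⟩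
    · obtain ⟨b, hb, rfl⟩ := hA.span u hu
      choose c hc d hd hcd using fun i => D.eig_span hr hr2 (hA.le i) (hpres i) (hb i)
      let F : ι × Bool → V := fun q => if q.2 then c q.1 else d q.1
      have hF : ∀ q, F q ∈ B q := by
        rintro ⟨i, _ | _⟩
        · exact hd i
        · exact hc i
      refine ⟨fun q => F q.1, fun q => hF q.1, ?_⟩
      rw [← Finset.sum_subtype (Finset.univ.filter fun q => B q ≠ ⊥) (fun q => by simp) F,
        Finset.sum_filter_of_ne]
      · rw [Fintype.sum_prod_type]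
        exact Finset.sum_congr rfl fun i _ => by simp [F, hcd i]
      · intro q _ hq hbot
        exact hq (AddSubgroup.mem_bot.1 (hbot ▸ hF q))
    · rintro ⟨⟨i, s⟩, hq⟩ ⟨⟨j, t⟩, hq'⟩ hne
      by_cases hij : i = j
      · subst hij
        have hst : s ≠ t := fun e => hne (by subst e; rfl)
        cases s <;> cases t
        · exact absurd rfl hst
        · exact ⟨r, hr, fun v hv => by simpa using ((D.mem_eig hr).1 (AddSubgroup.mem_inf.1 hv).2).2,
            fun v hv => by simpa using ((D.mem_eig hr).1 (AddSubgroup.mem_inf.1 hv).2).2⟩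
        · refine ⟨z * r, mul_mem D.mem hr, fun v hv => ?_, fun v hv => ?_⟩
          · obtain ⟨hvU, hv'⟩ := (D.mem_eig hr).1 (AddSubgroup.mem_inf.1 hv).2
            rw [mul_smul, hv', if_pos rfl, D.neg v hvU]
          · obtain ⟨hvU, hv'⟩ := (D.mem_eig hr).1 (AddSubgroup.mem_inf.1 hv).2
            rw [mul_smul, hv', if_neg Bool.false_ne_true, smul_neg, D.neg v hvU, neg_neg]
        · exact absurd rfl hst
      · exact ⟨h i, hh i, fun v hv => h1 i v (AddSubgroup.mem_inf.1 hv).1,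
          fun v hv => h2 i j (Ne.symm hij) v (AddSubgroup.mem_inf.1 hv).1⟩
  have hcard : Fintype.card ι < Fintype.card ι' := by
    have := Fintype.card_le_of_injective
      (fun o : Option ι => o.elim (⟨(i₂, false), hi₂⟩ : ι') fun i => ⟨(i, true), htrue i⟩)
      (by
        rintro (_ | i) (_ | j) e
        · rfl
        · simp at e
        · simp at e
        · simpa using e)
    rw [Fintype.card_option] at this
    exact Nat.lt_of_succ_le this
  refine ⟨Fintype.card ι', fun k => B ((Fintype.equivFin ι').symm k).1, hcard,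
    fun k => hsep.le _, fun k => hsep.ne_bot _, fun u hu => ?_,
    fun k l hkl => hsep.sep _ _ fun e => hkl (by simpa using e)⟩
  obtain ⟨b, hb, hub⟩ := hsep.span u hu
  exact ⟨fun k => b ((Fintype.equivFin ι').symm k), fun k => hb _,
    hub.trans (Equiv.sum_comp (Fintype.equivFin ι').symm b).symm⟩

include hA in
theorem card_lt_three : Fintype.card ι < 3 := by
  by_contra h3
  push Not at h3
  have : ∀ k, ∃ (m : ℕ) (B : Fin m → AddSubgroup V), 3 + k ≤ m ∧ Sep K C B := by
    intro k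
    induction k with
    | zero =>
      obtain ⟨m, B, hm, hB⟩ := D.exists_refine hA h3
      exact ⟨m, B, by omega, hB⟩
    | succ k ih =>
      obtain ⟨m, B, hm, hB⟩ := ih
      obtain ⟨m', B', hm', hB'⟩ := D.exists_refine hB (by rw [Fintype.card_fin]; omega)
      rw [Fintype.card_fin] at hm'
      exact ⟨m', B', by omega, hB'⟩
  obtain ⟨m, B, hm, hB⟩ := this (Nat.card V)
  have := D.sep_card_le hB
  rw [Fintype.card_fin] at this
  omega

omit hA in
set_option maxHeartbeats 1000000 in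
/-- An involution commuting with a reflection is one of four elements. -/
theorem split {r t : K} (hr : r ∈ fixing K C) (ht : t ∈ fixing K C) (hr2 : r ^ 2 = 1)
    (ht2 : t ^ 2 = 1) (hr1 : r ≠ 1) (hrz : r ≠ z) (hc : Commute r t) :
    t = 1 ∨ t = z ∨ t = r ∨ t = z * r := by
  classical
  by_contra hno
  simp only [not_or] at hno
  obtain ⟨ht1, htz, htr, htzr⟩ := hno
  let B : Bool × Bool → AddSubgroup V := fun q => eig z C r q.1 ⊓ eig z C t q.2
  have hspan : ∀ u ∈ planeU K C, ∃ F : Bool × Bool → V, (∀ q, F q ∈ B q) ∧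
      u = F (true, true) + F (true, false) + (F (false, true) + F (false, false)) := by
    intro u hu
    obtain ⟨a, ha, b, hb, rfl⟩ :=
      D.eig_span hr hr2 le_rfl (fun w hw => smul_mem_planeU hr hw) hu
    have hstab : ∀ s, ∀ v ∈ eig z C r s, t • v ∈ eig z C r s := by
      intro s v hv
      rw [D.mem_eig hr] at hv ⊢
      refine ⟨smul_mem_planeU ht hv.1, ?_⟩
      rw [smul_comm_of_commute hc, hv.2]
      cases s <;> simp
    obtain ⟨a1, ha1, a2, ha2, rfl⟩ := D.eig_span ht ht2 (inf_le_left) (hstab true)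
      (AddSubgroup.mem_inf.1 ha).2
    obtain ⟨b1, hb1, b2, hb2, rfl⟩ := D.eig_span ht ht2 (inf_le_left) (hstab false)
      (AddSubgroup.mem_inf.1 hb).2
    refine ⟨fun q => if q.1 then (if q.2 then a1 else a2) else (if q.2 then b1 else b2), ?_,
      by simp⟩
    rintro ⟨_ | _, _ | _⟩ <;> simpa [B]
  have hval : ∀ q, ∀ v ∈ B q, v ∈ planeU K C ∧ r • v = (if q.1 then v else -v) ∧
      t • v = (if q.2 then v else -v) := by
    intro q v hv
    obtain ⟨h1, h2⟩ := AddSubgroup.mem_inf.1 hv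
    rw [D.mem_eig hr] at h1
    rw [D.mem_eig ht] at h2
    exact ⟨h1.1, h1.2, h2.2⟩
  have kill : ∀ {g g' : K}, g ∈ fixing K C → g' ∈ fixing K C →
      (∀ q, B q ≠ ⊥ → ∀ v ∈ B q, g • v = g' • v) → g = g' := by
    intro g g' hg hg' hs
    refine D.ext_plane hg hg' fun u hu => ?_
    obtain ⟨F, hF, rfl⟩ := hspan u hu
    have : ∀ q, g • F q = g' • F q := by
      intro q
      by_cases h1 : B q = ⊥
      · rw [(AddSubgroup.eq_bot_iff_forall _).1 h1 _ (hF q), smul_zero, smul_zero]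
      · exact hs q h1 _ (hF q)
    simp only [smul_add, this]
  have f1 : ¬ ∀ q : Bool × Bool, B q ≠ ⊥ → q.1 = true := fun hq =>
    hr1 (kill hr (one_mem _) fun q h v hv => by
      rw [one_smul, (hval q v hv).2.1, if_pos (hq q h)])
  have f2 : ¬ ∀ q : Bool × Bool, B q ≠ ⊥ → q.1 = false := fun hq =>
    hrz (kill hr D.mem fun q h v hv => by
      obtain ⟨e0, e1, -⟩ := hval q v hv
      rw [D.neg v e0, e1, hq q h, if_neg Bool.false_ne_true])
  have f3 : ¬ ∀ q : Bool × Bool, B q ≠ ⊥ → q.2 = true := fun hq =>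
    ht1 (kill ht (one_mem _) fun q h v hv => by
      rw [one_smul, (hval q v hv).2.2, if_pos (hq q h)])
  have f4 : ¬ ∀ q : Bool × Bool, B q ≠ ⊥ → q.2 = false := fun hq =>
    htz (kill ht D.mem fun q h v hv => by
      obtain ⟨e0, -, e2⟩ := hval q v hv
      rw [D.neg v e0, e2, hq q h, if_neg Bool.false_ne_true])
  have f5 : ¬ ∀ q : Bool × Bool, B q ≠ ⊥ → q.1 = q.2 := fun hq =>
    htr (kill ht hr fun q h v hv => by
      obtain ⟨-, e1, e2⟩ := hval q v hv
      rw [e1, e2, hq q h])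
  have f6 : ¬ ∀ q : Bool × Bool, B q ≠ ⊥ → q.1 ≠ q.2 := fun hq =>
    htzr (kill ht (mul_mem D.mem hr) fun q h v hv => by
      obtain ⟨e0, e1, e2⟩ := hval q v hv
      have := hq q h
      rw [mul_smul, e1, e2]
      rcases q with ⟨_ | _, _ | _⟩ <;> simp_all [D.neg v e0])
  have hone : ∀ q q', B q = ⊥ → B q' = ⊥ → q = q' := by
    intro q q' h h'
    by_contra hne
    have e1 : ∀ s, B s ≠ ⊥ → s ≠ q := fun s hs e => hs (e ▸ h)
    have e2 : ∀ s, B s ≠ ⊥ → s ≠ q' := fun s hs e => hs (e ▸ h')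
    rcases bool_pair_comb q q' hne with hc | hc | hc | hc | hc | hc
    · exact f1 fun s hs => hc s (e1 s hs) (e2 s hs)
    · exact f2 fun s hs => hc s (e1 s hs) (e2 s hs)
    · exact f3 fun s hs => hc s (e1 s hs) (e2 s hs)
    · exact f4 fun s hs => hc s (e1 s hs) (e2 s hs)
    · exact f5 fun s hs => hc s (e1 s hs) (e2 s hs)
    · exact f6 fun s hs => hc s (e1 s hs) (e2 s hs)
  let ι' := {q : Bool × Bool // B q ≠ ⊥}
  have hsep : Sep K C (fun q : ι' => B q.1) := by
    refine ⟨fun q => inf_le_left.trans inf_le_left, fun q => q.2, fun u hu => ?_, ?_⟩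
    · obtain ⟨F, hF, rfl⟩ := hspan u hu
      refine ⟨fun q => F q.1, fun q => hF q.1, ?_⟩
      rw [← Finset.sum_subtype (Finset.univ.filter fun q => B q ≠ ⊥) (fun q => by simp) F,
        Finset.sum_filter_of_ne]
      · rw [Fintype.sum_prod_type, Fintype.sum_bool, Fintype.sum_bool, Fintype.sum_bool]
      · intro q _ hq hbot
        exact hq (AddSubgroup.mem_bot.1 (hbot ▸ hF q))
    · rintro ⟨⟨s1, s2⟩, hq⟩ ⟨⟨t1, t2⟩, hq'⟩ hne
      by_cases hs : s1 = t1
      · subst hs
        have hst : s2 ≠ t2 := fun e => hne (by subst e; rfl)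
        cases s2 <;> cases t2
        · exact absurd rfl hst
        · exact ⟨t, ht, fun v hv => by simpa using (hval _ v hv).2.2,
            fun v hv => by simpa using (hval _ v hv).2.2⟩
        · refine ⟨z * t, mul_mem D.mem ht, fun v hv => ?_, fun v hv => ?_⟩
          · obtain ⟨e0, -, e2⟩ := hval _ v hv
            rw [mul_smul, e2, if_pos rfl, D.neg v e0]
          · obtain ⟨e0, -, e2⟩ := hval _ v hv
            rw [mul_smul, e2, if_neg Bool.false_ne_true, smul_neg, D.neg v e0, neg_neg]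
        · exact absurd rfl hst
      · cases s1 <;> cases t1
        · exact absurd rfl hs
        · exact ⟨r, hr, fun v hv => by simpa using (hval _ v hv).2.1,
            fun v hv => by simpa using (hval _ v hv).2.1⟩
        · refine ⟨z * r, mul_mem D.mem hr, fun v hv => ?_, fun v hv => ?_⟩
          · obtain ⟨e0, e1, -⟩ := hval _ v hv
            rw [mul_smul, e1, if_pos rfl, D.neg v e0]
          · obtain ⟨e0, e1, -⟩ := hval _ v hv
            rw [mul_smul, e1, if_neg Bool.false_ne_true, smul_neg, D.neg v e0, neg_neg]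
        · exact absurd rfl hs
  have h3 := D.card_lt_three hsep
  have : (Finset.univ.filter fun q => ¬ B q ≠ ⊥).card ≤ 1 :=
    Finset.card_le_one.2 fun q hq q' hq' =>
      hone q q' (not_not.1 (Finset.mem_filter.1 hq).2) (not_not.1 (Finset.mem_filter.1 hq').2)
  have h4 := Finset.card_filter_add_card_filter_not (s := Finset.univ)
    (fun q : Bool × Bool => B q ≠ ⊥)
  rw [Fintype.card_subtype] at h3
  simp only [Finset.card_univ, Fintype.card_prod, Fintype.card_bool] at h4
  omega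

omit hA in
omit [Finite K] [Finite V] [FaithfulSMul K V] in
theorem refl_ne_z {r : K} (hr : IsRefl C r) : r ≠ z := by
  intro e
  subst e
  refine hr.2.2 (le_antisymm (fun v hv => ?_) (mem_fixing.1 hr.1))
  obtain ⟨c, hc, u, hu, rfl⟩ := D.span v
  rw [mem_fixV, smul_add, hr.1 c hc, D.neg u hu, add_right_inj] at hv
  rw [D.eq_zero_of_neg hv, add_zero]
  exact hc

omit hA in
omit [Finite K] [Finite V] [FaithfulSMul K V] in
theorem isRefl_of_fixed {r : K} (hr : r ∈ fixing K C) (hr1 : r ≠ 1) {x : V}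
    (hx : x ∈ planeU K C) (hx0 : x ≠ 0) (hrx : r • x = x) : IsRefl C r :=
  ⟨hr, hr1, fun e => hx0 (D.disj x (e ▸ mem_fixV.2 hrx) hx)⟩

omit hA in
theorem isRot_iff {h : K} : IsRot C h ↔ h ∈ fixing K C ∧ (h ^ 2 ≠ 1 ∨ h = 1 ∨ h = z) := by
  constructor
  · rintro ⟨hh, h1⟩
    refine ⟨hh, ?_⟩
    by_contra hne
    simp only [not_or, not_not] at hne
    obtain ⟨h2, h3, h4⟩ := hne
    obtain ⟨u, hu, hu0, hf⟩ := D.exists_fixed hh h2 h4
    exact (IsRot.not_isRefl ⟨hh, h1⟩) (D.isRefl_of_fixed hh h3 hu hu0 hf)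
  · rintro ⟨hh, h2 | h2 | h2⟩
    · exact ⟨hh, Or.inr (D.max.fixV_eq hh h2)⟩
    · exact ⟨hh, Or.inl h2⟩
    · exact (isRot_or_isRefl hh).resolve_right fun h => D.refl_ne_z h h2

omit hA in
theorem refl_inv {r g : K} (hr : IsRefl C r) (hg : g ∈ fixing K C) (h2 : g ^ 2 ≠ 1) :
    r * g * r⁻¹ = g⁻¹ := by
  have hr2 := D.max.refl_sq hr
  have hrinv : r⁻¹ = r := inv_eq_of_mul_eq_one_right (by rw [← sq, hr2])
  obtain ⟨x, hx, hx0, hrx⟩ := D.exists_fixed hr.1 hr2 (D.refl_ne_z hr)
  have honly : ∀ s ∈ fixing K C, s • x = x → s = 1 ∨ s = r := by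
    intro s hs hsx
    rcases D.split hr.1 hs hr2 (D.sq_eq_one hs hx hx0 hsx) hr.2.1 (D.refl_ne_z hr)
      (D.commute_fixed hr.1 hs hx hx0 hrx hsx) with h | h | h | h
    · exact Or.inl h
    · rw [h, D.neg x hx] at hsx; exact absurd (D.eq_zero_of_neg hsx) hx0
    · exact Or.inr h
    · rw [h, mul_smul, hrx, D.neg x hx] at hsx; exact absurd (D.eq_zero_of_neg hsx) hx0
  obtain ⟨r', hr', hr'x, hr'g⟩ := S.exists_inverter' g x
  rw [D.max.fixV_eq hg h2] at hr'
  rcases honly r' hr' hr'x with h | h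
  · rw [h, one_smul] at hr'g
    exact absurd (by rw [sq, mul_smul, hr'g, smul_inv_smul]) (D.sq_smul_ne hg h2 hx hx0)
  rw [h] at hr'g
  rcases honly (g * r * g) (mul_mem (mul_mem hg hr.1) hg)
      (by rw [mul_smul, mul_smul, hr'g, smul_inv_smul]) with e | e
  · exfalso
    have h1 : r = g⁻¹ * g⁻¹ := by
      calc r = g⁻¹ * (g * r * g) * g⁻¹ := by group
        _ = g⁻¹ * g⁻¹ := by rw [e, mul_one]
    have h4 : g ^ 4 = 1 := by
      have : (g⁻¹ * g⁻¹) ^ 2 = 1 := h1 ▸ hr2
      rwa [← sq, ← pow_mul, inv_pow, inv_eq_one] at this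
    refine D.refl_ne_z hr ?_
    rw [h1, ← sq, inv_pow, D.eq_z_of_four hg h4 h2]
    exact inv_eq_of_mul_eq_one_right (by rw [← sq, D.z_sq])
  · rw [hrinv]
    calc r * g * r = g⁻¹ * (g * r * g) * r := by group
      _ = g⁻¹ * (r * r) := by rw [e, mul_assoc]
      _ = g⁻¹ := by rw [← sq, hr2, mul_one]

omit hA in
theorem refl_ex {x : V} (hx : x ∈ planeU K C) (hx0 : x ≠ 0) :
    ∃ r : K, IsRefl C r ∧ r • x = x := by
  obtain ⟨g, hg, hgC, -⟩ := id D.max
  have hgM : g ∈ fixing K C := hgC ▸ mem_fixing_fixV g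
  obtain ⟨r, hr, hrx, hrg⟩ := S.exists_inverter' g x
  rw [hgC] at hr
  exact ⟨r, D.isRefl_of_fixed hr (fun e => D.sq_smul_ne hgM hg hx hx0 (by
    rw [e, one_smul] at hrg
    rw [sq, mul_smul, hrg, smul_inv_smul])) hx hx0 hrx, hrx⟩

omit hA in
theorem rot_mul_comm {g h : K} (hg : IsRot C g) (hh : IsRot C h) :
    IsRot C (g * h) ∧ Commute g h := by
  obtain ⟨hgM, hg'⟩ := D.isRot_iff.1 hg
  obtain ⟨hhM, hh'⟩ := D.isRot_iff.1 hh
  have hzmul : ∀ {a : K}, IsRot C a → IsRot C (z * a) := by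
    intro a ha
    obtain ⟨haM, ha'⟩ := D.isRot_iff.1 ha
    rw [D.isRot_iff]
    refine ⟨mul_mem D.mem haM, ?_⟩
    rcases ha' with h | h | h
    · exact Or.inl (by rwa [(D.z_comm haM).mul_pow, D.z_sq, one_mul])
    · exact Or.inr (Or.inr (by rw [h, mul_one]))
    · exact Or.inr (Or.inl (by rw [h, ← sq, D.z_sq]))
  rcases hg' with hg2 | hg1 | hgz
  swap
  · subst hg1; exact ⟨by rwa [one_mul], Commute.one_left h⟩
  swap
  · subst hgz; exact ⟨hzmul hh, D.z_comm hhM⟩
  rcases hh' with hh2 | hh1 | hhz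
  swap
  · subst hh1; exact ⟨by rwa [mul_one], Commute.one_right g⟩
  swap
  · subst hhz
    exact ⟨by rw [← (D.z_comm hgM).eq]; exact hzmul hg, (D.z_comm hgM).symm⟩
  have hghM := mul_mem hgM hhM
  obtain ⟨u, hu, hu0⟩ : ∃ u ∈ planeU K C, u ≠ 0 := by
    obtain ⟨v, hv⟩ := exists_moved (V := V) (h := g) (fun e => hg2 (by rw [e, one_pow]))
    exact ⟨g • v - v, movV_le_planeU hgM (sub_mem_movV g v), sub_ne_zero.2 hv⟩
  obtain ⟨r, hr, -⟩ := D.refl_ex hu hu0
  by_cases hgh : (g * h) ^ 2 = 1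
  · by_cases hcase : g * h = 1 ∨ g * h = z
    · refine ⟨D.isRot_iff.2 ⟨hghM, Or.inr hcase⟩, ?_⟩
      have hhe : h = g⁻¹ * (g * h) := by group
      rw [hhe]
      rcases hcase with e | e <;> rw [e]
      · rw [mul_one]; exact (Commute.refl g).inv_right
      · exact (Commute.refl g).inv_right.mul_right (D.z_comm hgM).symm
    · exfalso
      rw [not_or] at hcase
      obtain ⟨x, hx, hx0, hxf⟩ := D.exists_fixed hghM hgh hcase.2
      have hw := D.isRefl_of_fixed hghM hcase.1 hx hx0 hxf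
      have h1 := D.refl_inv hw hgM hg2
      rw [inv_eq_of_mul_eq_one_right (show g * h * (g * h) = 1 by rw [← sq, hgh])] at h1
      have h2 : h * g * h = g⁻¹ := by
        rw [eq_inv_iff_mul_eq_one, mul_eq_one_comm]
        rw [sq] at hgh
        simpa only [mul_assoc] using hgh
      have h3 : h⁻¹ = h := by
        have h4 : g * h * g * (g * h) = g * (h * g) * g * h := by group
        have h5 : h * g = g⁻¹ * h⁻¹ := by rw [← h2]; group
        rw [h4, h5] at h1
        have h6 : g * (g⁻¹ * h⁻¹) * g * h = h⁻¹ * g * h := by group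
        rw [h6, ← h2] at h1
        exact mul_right_cancel (mul_right_cancel h1)
      refine hh2 ?_
      rw [sq]; nth_rewrite 1 [← h3]; rw [inv_mul_cancel]
  · refine ⟨D.isRot_iff.2 ⟨hghM, Or.inl hgh⟩, ?_⟩
    have e1 := D.refl_inv hr hgM hg2
    have e2 := D.refl_inv hr hhM hh2
    have e3 := D.refl_inv hr hghM hgh
    rw [show r * (g * h) * r⁻¹ = r * g * r⁻¹ * (r * h * r⁻¹) by group, e1, e2, mul_inv_rev] at e3
    exact Commute.inv_inv_iff.1 e3

omit hA in
theorem refl_mul {r s : K} (hr : IsRefl C r) (hs : IsRefl C s) : IsRot C (r * s) := by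
  rw [D.isRot_iff]
  refine ⟨mul_mem hr.1 hs.1, or_iff_not_imp_left.2 fun h2 => ?_⟩
  rw [not_not] at h2
  have hr2 := D.max.refl_sq hr
  have hs2 := D.max.refl_sq hs
  have e : Commute r s := by
    have e1 : r⁻¹ = r := inv_eq_of_mul_eq_one_right (by rw [← sq, hr2])
    have e2 : s⁻¹ = s := inv_eq_of_mul_eq_one_right (by rw [← sq, hs2])
    have e3 : (r * s)⁻¹ = r * s := inv_eq_of_mul_eq_one_right (by rw [← sq, h2])
    rw [mul_inv_rev, e1, e2] at e3
    exact e3.symm
  rcases D.split hr.1 hs.1 hr2 hs2 hr.2.1 (D.refl_ne_z hr) e with h | h | h | h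
  · exact absurd h hs.2.1
  · exact absurd h (D.refl_ne_z hs)
  · exact Or.inl (by rw [h, ← sq, hr2])
  · exact Or.inr (by rw [h, (D.z_comm hr.1).eq, ← mul_assoc, ← sq, hr2, one_mul])

end NegData

/-- In odd characteristic some element fixing `C` pointwise negates the plane. -/
theorem exists_negData [Finite K] [Finite V] [FaithfulSMul K V] (S : Setup K V p) (hp : p ≠ 2)
    {C : AddSubgroup V} (hC : IsMaxFix K C) : ∃ z : K, NegData S C z := by
  obtain ⟨g, hg, hgC, -⟩ := id hC
  have hgM : g ∈ fixing K C := hgC ▸ mem_fixing_fixV g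
  have hco := S.coprime_orderOf hp g
  let _ : Fintype (fixing K C) := Fintype.ofFinite _
  let sumMap : V →+ V := ∑ h : fixing K C, DistribSMul.toAddMonoidHom V (h : K)
  have hsum : ∀ v, sumMap v = ∑ h : fixing K C, (h : K) • v := fun v => by
    simp [sumMap]
  have hdisj : ∀ v ∈ C, sumMap v = 0 → v = 0 := by
    intro v hv h0
    rw [hsum, Finset.sum_congr rfl fun (h : fixing K C) _ => h.2 v hv, Finset.sum_const,
      Finset.card_univ, ← Nat.card_eq_fintype_card] at h0
    refine S.eq_zero_of_coprime (Nat.Coprime.symm ((S.prime.coprime_iff_not_dvd).2 ?_)) h0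
    intro hd
    obtain ⟨k, hk⟩ := exists_prime_orderOf_dvd_card' (hp := ⟨S.prime⟩) p hd
    exact S.not_orderOf_eq_prime hp (k : K) (by rw [Subgroup.orderOf_coe, hk])
  have hle : planeU K C ≤ sumMap.ker := planeU_le fun h hh v => by
    rw [AddMonoidHom.mem_ker, map_sub, hsum, hsum, sub_eq_zero]
    refine (Finset.sum_congr rfl fun (a : fixing K C) _ => (mul_smul (a : K) h v).symm).trans
      (Equiv.sum_comp (Equiv.mulRight (⟨h, hh⟩ : fixing K C)) fun a : fixing K C => (a : K) • v)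
  have hdec : ∀ v : V, ∃ c ∈ C, ∃ m ∈ movV V g, v = c + m := by
    rw [← hgC]; exact S.exists_fix_add_mov hco
  have hU : ∀ v ∈ planeU K C, v ∈ movV V g := by
    intro v hv
    obtain ⟨c, hc, m, hm, rfl⟩ := hdec v
    have h1 := hle hv
    rw [AddMonoidHom.mem_ker, map_add, AddMonoidHom.mem_ker.1 (hle (movV_le_planeU hgM hm)),
      add_zero] at h1
    rw [hdisj c hc h1, zero_add]
    exact hm
  have hnegU : ∀ u ∈ planeU K C, ∃ h ∈ fixing K C, h • u = -u := by
    intro u hu
    obtain ⟨y, rfl⟩ := mem_movV.1 (hU u hu)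
    obtain ⟨r, hr, hry, hrg⟩ := S.exists_inverter' g y
    rw [hgC] at hr
    refine ⟨g * r, mul_mem hgM hr, ?_⟩
    rw [mul_smul, smul_sub, hrg, hry, smul_sub, smul_inv_smul, neg_sub]
  have hdisj' : ∀ v ∈ C, v ∈ planeU K C → v = 0 := fun v hv hv' => hdisj v hv (hle hv')
  obtain ⟨z, hz⟩ := S.bin.exists_of_finite (ι := C ⊕ planeU K C)
    (Sum.elim (fun c => (c : V)) fun u => (u : V))
    (Sum.elim (fun c => (c : V)) fun u => -(u : V))
    (by
      rintro (c | u)
      · exact Rel.refl _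
      · obtain ⟨h, -, hh⟩ := hnegU u u.2
        exact ⟨h, hh⟩)
    (by
      rintro (c | u) (c' | u') <;> simp only [Sum.elim_inl, Sum.elim_inr]
      · exact Rel.refl _
      · obtain ⟨h, hh, hh'⟩ := hnegU u' u'.2
        exact ⟨h, by rw [smul_sub, hh c c.2, hh']⟩
      · obtain ⟨h, hh, hh'⟩ := hnegU u u.2
        exact ⟨h, by rw [smul_sub, hh c' c'.2, hh']⟩
      · obtain ⟨h, -, hh'⟩ := hnegU _ (sub_mem u.2 u'.2)
        exact ⟨h, by rw [hh', neg_sub]; abel⟩)
  refine ⟨z, hp, hC, fun c hc => hz (Sum.inl ⟨c, hc⟩), fun u hu => hz (Sum.inr ⟨u, hu⟩),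
    hdisj', fun v => ?_⟩
  obtain ⟨c, hc, m, hm, rfl⟩ := hdec v
  exact ⟨c, hc, m, movV_le_planeU hgM hm, rfl⟩

theorem planeProp_odd [Finite K] [Finite V] [FaithfulSMul K V] (S : Setup K V p) (hp : p ≠ 2)
    {C : AddSubgroup V} (hC : IsMaxFix K C) : PlaneProp K p C := by
  obtain ⟨z, D⟩ := exists_negData S hp hC
  refine ⟨D.disj, D.span, fun g h hg hh => (D.rot_mul_comm hg hh).1,
    fun g h hg hh => (D.rot_mul_comm hg hh).2, fun g _ => S.coprime_orderOf hp g,
    fun r s hr hs => D.refl_mul hr hs, fun r g hr hg => ?_, fun x hx hx0 => D.refl_ex hx hx0⟩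
  obtain ⟨hgM, h2 | h1 | hz⟩ := D.isRot_iff.1 hg
  · exact D.refl_inv hr hgM h2
  · subst h1; simp
  · subst hz
    rw [(D.z_comm hr.1).symm.eq, mul_inv_cancel_right]
    exact (inv_eq_of_mul_eq_one_right (by rw [← sq, D.z_sq])).symm

end CfsgLib.BinaryAffine
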