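import Cfsg.Agent.Lib.BinaryAffine.PlaneTwo
import Cfsg.Agent.Lib.BinaryAffine.PlaneOdd
import Cfsg.Agent.Lib.BinaryAffine.Facts

/-!
# Reflections of different planes
-/

set_option autoImplicit false

namespace CfsgLib.BinaryAffine

variable {K V : Type*} [Group K] [AddCommGroup V] [DistribMulAction K V] {p : ℕ}

theorem planeProp [Finite K] [Finite V] [FaithfulSMul K V] (S : Setup K V p) {C : AddSubgroup V}
    (hC : IsMaxFix K C) : PlaneProp K p C := by
  by_cases hp : p = 2
  · exact planeProp_two S hp hC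
  · exact planeProp_odd S hp hC

theorem card_mul_card_le [Finite V] (A B : AddSubgroup V) :
    Nat.card A * Nat.card B ≤ Nat.card V * Nat.card (A ⊓ B : AddSubgroup V) := by
  rw [← Nat.card_prod]
  let f : A × B → V := fun ab => (ab.1 : V) - ab.2
  have h1 : Nat.card (A × B) = ∑ᶠ v : V, Nat.card {ab : A × B // f ab = v} := by
    have := Fintype.ofFinite V
    rw [finsum_eq_sum_of_fintype, ← Nat.card_sigma]
    exact Nat.card_congr (Equiv.sigmaFiberEquiv f).symm
  have := Fintype.ofFinite V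
  rw [h1, finsum_eq_sum_of_fintype, Nat.card_eq_fintype_card (α := V)]
  refine (Finset.sum_le_card_nsmul _ _ _ fun v _ => ?_).trans_eq (smul_eq_mul _ _)
  by_cases hv : Nonempty {ab : A × B // f ab = v}
  · obtain ⟨⟨⟨a₀, b₀⟩, h0⟩⟩ := hv
    refine Nat.card_le_card_of_injective (fun ab => (⟨(ab.1.1 : V) - a₀,
      AddSubgroup.mem_inf.2 ⟨sub_mem ab.1.1.2 a₀.2, ?_⟩⟩ : (A ⊓ B : AddSubgroup V))) ?_
    · have : (ab.1.1 : V) - a₀ = ab.1.2 - b₀ := by
        rw [sub_eq_sub_iff_sub_eq_sub]; exact ab.2.trans h0.symm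
      exact this ▸ sub_mem ab.1.2.2 b₀.2
    · intro x y h
      have h' : (x.1.1 : V) = y.1.1 := sub_left_inj.1 (congrArg Subtype.val h)
      have h'' : (x.1.2 : V) = y.1.2 := by
        have := x.2.trans y.2.symm
        simp only [f, h'] at this
        exact sub_right_inj.1 this
      exact Subtype.ext (Prod.ext (Subtype.ext h') (Subtype.ext h''))
  · rw [not_nonempty_iff] at hv
    rw [Nat.card_of_isEmpty]
    exact Nat.zero_le _

/-- A subgroup inside the union of two subgroups lies in one of them. -/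
theorem le_or_le_of_forall_mem {X A B : AddSubgroup V} (h : ∀ v ∈ X, v ∈ A ∨ v ∈ B) :
    X ≤ A ∨ X ≤ B := by
  by_contra hne
  rw [not_or, SetLike.not_le_iff_exists, SetLike.not_le_iff_exists] at hne
  obtain ⟨⟨a, ha, ha'⟩, b, hb, hb'⟩ := hne
  rcases h _ (add_mem ha hb) with h1 | h1
  · exact ha' (by simpa using sub_mem h1 ((h b hb).resolve_right hb'))
  · exact hb' (by simpa using sub_mem h1 ((h a ha).resolve_left ha'))

theorem smul_eq_neg_of_mem_movV {r : K} (hr : r ^ 2 = 1) {v : V} (hv : v ∈ movV V r) :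
    r • v = -v := by
  obtain ⟨w, rfl⟩ := mem_movV.1 hv
  rw [smul_sub, ← mul_smul, ← sq, hr, one_smul, neg_sub]

/-- `r` is a reflection of some plane. -/
def IsRefl0 (V : Type*) [AddCommGroup V] {K : Type*} [Group K] [DistribMulAction K V] (r : K) :
    Prop :=
  ∃ C : AddSubgroup V, IsMaxFix K C ∧ IsRefl C r

/-- All planes have the same size `q * q`. -/
structure Glob (K V : Type*) [Group K] [AddCommGroup V] [DistribMulAction K V] (p q : ℕ) :
    Prop where
  setup : Setup K V p
  prop : ∀ C : AddSubgroup V, IsMaxFix K C → PlaneProp K p C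
  facts : ∀ C : AddSubgroup V, IsMaxFix K C → Facts K C q

theorem exists_glob [Finite K] [Finite V] [FaithfulSMul K V] (S : Setup K V p)
    {C : AddSubgroup V} (hC : IsMaxFix K C) : ∃ q, Glob K V p q := by
  have key : ∀ D : AddSubgroup V, IsMaxFix K D → ∃ q, Facts K D q := by
    intro D hD
    obtain ⟨E, _, _, ⟨co⟩⟩ := exists_coord S hD (planeProp S hD)
    exact ⟨_, facts_of_coord S hD (planeProp S hD) co⟩
  obtain ⟨q, hq⟩ := key C hC
  refine ⟨q, S, fun D hD => planeProp S hD, fun D hD => ?_⟩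
  obtain ⟨q', hq'⟩ := key D hD
  have hcard : Nat.card D = Nat.card C := by
    obtain ⟨g, hg, rfl, hmax⟩ := hD
    obtain ⟨g', hg', rfl, hmax'⟩ := hC
    exact le_antisymm (hmax' g hg) (hmax g' hg')
  have : q' = q := by
    refine Nat.mul_self_inj.1 (Nat.eq_of_mul_eq_mul_left (Nat.card_pos (α := C)) ?_)
    rw [hq.cardC, ← hcard, hq'.cardC]
  exact this ▸ hq'

namespace Glob

variable [Finite K] [Finite V] [FaithfulSMul K V] {q : ℕ} (G : Glob K V p q)
include G

omit [Finite K] [FaithfulSMul K V] in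
theorem refl0_sq {r : K} (hr : IsRefl0 V r) : r ^ 2 = 1 := by
  obtain ⟨C, hC, h⟩ := hr
  exact hC.refl_sq h

omit [Finite K] [FaithfulSMul K V] in
theorem refl0_card_mov {r : K} (hr : IsRefl0 V r) : Nat.card (movV V r) = q := by
  obtain ⟨C, hC, h⟩ := hr
  exact (G.facts C hC).card_mov r h

omit [Finite K] [FaithfulSMul K V] in
/-- A reflection fixing `C` pointwise is a reflection of the plane of `C`. -/
theorem isRefl_of_mem {C : AddSubgroup V} (hC : IsMaxFix K C) {r : K} (hr : IsRefl0 V r)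
    (hrC : r ∈ fixing K C) : IsRefl C r := by
  have hq := (G.facts C hC).one_lt
  refine ⟨hrC, fun h => ?_, fun h => ?_⟩
  · have h1 := G.refl0_card_mov hr
    have h2 : movV V r = ⊥ := by
      rw [eq_bot_iff]
      intro v hv
      obtain ⟨w, rfl⟩ := mem_movV.1 hv
      simp [h]
    rw [h2, AddSubgroup.card_bot] at h1
    omega
  · have h1 := card_fixV_mul_movV (V := V) r
    rw [h, G.refl0_card_mov hr, ← (G.facts C hC).cardC] at h1
    have h2 := Nat.eq_of_mul_eq_mul_left Nat.card_pos h1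
    have h3 : q * 1 < q * q := Nat.mul_lt_mul_of_pos_left hq (by omega)
    omega

omit [Finite K] in
/-- Non-commuting reflections are reflections of a common plane. -/
theorem exists_common {r s : K} (hr : IsRefl0 V r) (hs : IsRefl0 V s) (h : ¬ Commute r s) :
    ∃ C : AddSubgroup V, IsMaxFix K C ∧ IsRefl C r ∧ IsRefl C s := by
  obtain ⟨C₀, hC₀, hr₀⟩ := id hr
  set g := r * s
  have hg2 : g ^ 2 ≠ 1 := fun he => h (by
    have e1 : r⁻¹ = r := inv_eq_of_mul_eq_one_right (by rw [← sq, G.refl0_sq hr])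
    have e2 : s⁻¹ = s := inv_eq_of_mul_eq_one_right (by rw [← sq, G.refl0_sq hs])
    have e3 : (r * s)⁻¹ = r * s := inv_eq_of_mul_eq_one_right (by rw [← sq]; exact he)
    rw [mul_inv_rev, e1, e2] at e3
    exact e3.symm)
  set I := fixV V r ⊓ fixV V s
  have hIg : I ≤ fixV V g := fun v hv => by
    obtain ⟨h1, h2⟩ := AddSubgroup.mem_inf.1 hv
    rw [mem_fixV] at h1 h2 ⊢
    rw [mul_smul, h2, h1]
  have hle : Nat.card C₀ ≤ Nat.card I := by
    have h1 := card_mul_card_le (fixV V r) (fixV V s)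
    have e1 := card_fixV_mul_movV (V := V) r
    have e2 := card_fixV_mul_movV (V := V) s
    rw [G.refl0_card_mov hr] at e1
    rw [G.refl0_card_mov hs] at e2
    have e3 := (G.facts C₀ hC₀).cardC
    have hq := (G.facts C₀ hC₀).one_lt
    refine Nat.le_of_mul_le_mul_left ?_ (Nat.mul_pos (Nat.zero_lt_of_lt hq) (Nat.zero_lt_of_lt hq))
    rw [mul_comm (q * q) (Nat.card C₀), e3]
    refine Nat.le_of_mul_le_mul_left ?_ (Nat.card_pos (α := V))
    calc Nat.card V * Nat.card V
        = Nat.card (fixV V r) * q * (Nat.card (fixV V s) * q) := by rw [e1, e2]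
      _ = q * q * (Nat.card (fixV V r) * Nat.card (fixV V s)) := by ring
      _ ≤ q * q * (Nat.card V * Nat.card I) := Nat.mul_le_mul_left _ h1
      _ = Nat.card V * (q * q * Nat.card I) := by ring
  obtain ⟨g₀, hg₀, hg₀C, hmax⟩ := id hC₀
  have hmaxg := hmax g hg2
  rw [hg₀C] at hmaxg
  have heq : I = fixV V g := AddSubgroup.eq_of_le_of_card_ge hIg (hmaxg.trans hle)
  refine ⟨fixV V g, ⟨g, hg2, rfl, fun g' hg' => ?_⟩, ?_⟩
  · rw [← heq]
    exact ((hmax g' hg').trans_eq (congrArg (fun X : AddSubgroup V => Nat.card X) hg₀C)).trans hle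
  have hC : IsMaxFix K (fixV V g) := ⟨g, hg2, rfl, fun g' hg' => by
    rw [← heq]
    exact ((hmax g' hg').trans_eq (congrArg (fun X : AddSubgroup V => Nat.card X) hg₀C)).trans hle⟩
  exact ⟨G.isRefl_of_mem hC hr (mem_fixing.2 (heq ▸ inf_le_left)),
    G.isRefl_of_mem hC hs (mem_fixing.2 (heq ▸ inf_le_right))⟩

omit [Finite K] [FaithfulSMul K V] in
/-- Two reflections of a plane span it. -/
theorem plane_span {C : AddSubgroup V} (hC : IsMaxFix K C) {r s : K} (hr : IsRefl C r)
    (hs : IsRefl C s) (hrs : r ≠ s) {u : V} (hu : u ∈ planeU K C) :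
    ∃ a ∈ movV V r, ∃ b ∈ movV V s, u = a + b := by
  have F := G.facts C hC
  refine exists_add_of_disjoint_card (movV_le_planeU hr.1) (movV_le_planeU hs.1) ?_
    (by rw [F.card_mov r hr, F.card_mov s hs, F.cardU]) hu
  rw [eq_bot_iff]
  intro v hv
  obtain ⟨h1, h2⟩ := AddSubgroup.mem_inf.1 hv
  by_contra h0
  exact hrs (F.mirror_unique r s hr hs v (fun e => h0 (AddSubgroup.mem_bot.2 e)) h1 h2)

omit [Finite K] [FaithfulSMul K V] in
/-- Commuting distinct reflections of one plane. -/
theorem mov_le_fix_same {C : AddSubgroup V} (hC : IsMaxFix K C) {y z : K} (hy : IsRefl C y)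
    (hz : IsRefl C z) (hc : Commute y z) (hne : y ≠ z) :
    movV V y = fixV V z ⊓ planeU K C := by
  have F := G.facts C hC
  refine AddSubgroup.eq_of_le_of_card_ge (fun u hu => ?_)
    (by rw [F.card_fix z hz, F.card_mov y hy])
  have huU := movV_le_planeU hy.1 hu
  refine AddSubgroup.mem_inf.2 ⟨mem_fixV.2 ?_, huU⟩
  have hg := (G.prop C hC).refl_mul y z hy hz
  have hy2 := hC.refl_sq hy
  have hg1 : y * z ≠ 1 := fun e => hne (by
    rw [eq_inv_of_mul_eq_one_left e]
    exact inv_eq_of_mul_eq_one_right (by rw [← sq, hC.refl_sq hz]))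
  have hg2 : (y * z) ^ 2 = 1 := by rw [hc.mul_pow, hy2, hC.refl_sq hz, one_mul]
  have h1 : (y * z) • u + u = 0 := by
    refine F.disj _ ((hg.2.resolve_left hg1) ▸ mem_fixV.2 ?_)
      (add_mem (smul_mem_planeU hg.1 huU) huU)
    rw [smul_add, ← mul_smul, ← sq, hg2, one_smul, add_comm]
  rw [mul_smul, ← eq_neg_iff_add_eq_zero] at h1
  rw [← smul_eq_neg_of_mem_movV hy2 hu] at h1
  exact smul_left_cancel y h1

omit [Finite K] [FaithfulSMul K V] in
/-- In a plane, a commuting partner is unique. -/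
theorem comm_unique {C : AddSubgroup V} (hC : IsMaxFix K C) {y z z' : K} (hy : IsRefl C y)
    (hz : IsRefl C z) (hz' : IsRefl C z') (hc : Commute y z) (hc' : Commute y z') (hne : y ≠ z)
    (hne' : y ≠ z') : z = z' := by
  have F := G.facts C hC
  have h1 := G.mov_le_fix_same hC hz hy hc.symm hne.symm
  have h2 := G.mov_le_fix_same hC hz' hy hc'.symm hne'.symm
  obtain ⟨v, hv, hv0⟩ := (movV V z).bot_or_exists_ne_zero.resolve_left (fun hb => by
    have := F.card_mov z hz
    rw [hb, AddSubgroup.card_bot] at this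
    have := F.one_lt
    omega)
  exact F.mirror_unique z z' hz hz' v hv0 hv (h2.trans h1.symm ▸ hv)

/-- How a foreign reflection meets a plane. -/
theorem dichotomy {C : AddSubgroup V} (hC : IsMaxFix K C) {s : K} (hs : IsRefl0 V s)
    (hsC : ¬ IsRefl C s) :
    ((∀ u ∈ planeU K C, s • u = u) ∧ ∀ x : K, IsRefl C x → Commute s x) ∨
      ∃ x₀ : K, IsRefl C x₀ ∧ Commute s x₀ ∧ (∀ x : K, IsRefl C x → Commute s x → x = x₀) ∧
        fixV V s ⊓ planeU K C = movV V x₀ := by
  have S := G.setup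
  have F := G.facts C hC
  have hs2 := G.refl0_sq hs
  by_cases hpair : ∃ x y, IsRefl C x ∧ IsRefl C y ∧ Commute s x ∧ Commute s y ∧ ¬ Commute x y
  · obtain ⟨x, y, hx, hy, hsx, hsy, hxy⟩ := hpair
    left
    have hid : ∀ u ∈ planeU K C, s • u = u := by
      rcases F.scalar s x y hs2 hx hy hxy hsx hsy with h | h
      · exact h
      by_cases hp : p = 2
      · intro u hu
        rw [h u hu, neg_eq_of_add_eq_zero_left (S.add_self hp u)]
      exfalso
      have hle : planeU K C ≤ movV V s := by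
        intro u hu
        obtain ⟨k, hk⟩ := S.prime.odd_of_ne_two hp
        refine mem_movV.2 ⟨-((k + 1) • u), ?_⟩
        rw [smul_neg, h _ (nsmul_mem hu _), neg_neg, sub_neg_eq_add, ← add_nsmul,
          show k + 1 + (k + 1) = p + 1 by omega, succ_nsmul, S.exp, zero_add]
      have h1 := Nat.card_le_card_of_injective _ (AddSubgroup.inclusion_injective hle)
      rw [G.refl0_card_mov hs, F.cardU] at h1
      have := Nat.mul_lt_mul_of_pos_left F.one_lt (Nat.zero_lt_of_lt F.one_lt)
      omega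
    refine ⟨hid, fun w hw => eq_of_forall_smul (V := V) fun v => ?_⟩
    obtain ⟨g, hg, hgC⟩ : ∃ g, Commute s g ∧ fixV V g = C := by
      refine ⟨x * y, hsx.mul_right hsy, hC.fixV_eq (mul_mem hx.1 hy.1) fun he => hxy ?_⟩
      have e1 : x⁻¹ = x := inv_eq_of_mul_eq_one_right (by rw [← sq, hC.refl_sq hx])
      have e2 : y⁻¹ = y := inv_eq_of_mul_eq_one_right (by rw [← sq, hC.refl_sq hy])
      have e3 : (x * y)⁻¹ = x * y := inv_eq_of_mul_eq_one_right (by rw [← sq, he])
      rw [mul_inv_rev, e1, e2] at e3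
      exact e3.symm
    obtain ⟨c, hc, u, hu, rfl⟩ := F.span v
    have hsc : s • c ∈ C := hgC ▸ smul_mem_fixV_of_commute hg (hgC.symm ▸ hc)
    rw [mul_smul, mul_smul, smul_add w, smul_add s, smul_add s, hid u hu, hw.1 c hc,
      hid _ (smul_mem_planeU hw.1 hu), smul_add, hw.1 _ hsc]
  right
  push Not at hpair
  set X := fixV V s ⊓ planeU K C with hX
  -- the mirrors meeting the fixed space of `s` belong to commuting reflections
  have hmir : ∀ u ∈ X, u ≠ 0 → ∃ x, IsRefl C x ∧ Commute s x ∧ u ∈ movV V x := by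
    intro u hu hu0
    obtain ⟨hus, huU⟩ := AddSubgroup.mem_inf.1 hu
    obtain ⟨x, hx, hux⟩ := F.mirror_ex u huU hu0
    refine ⟨x, hx, ?_, hux⟩
    by_contra hc
    obtain ⟨C', hC', hsC', hxC'⟩ := G.exists_common hs ⟨C, hC, hx⟩ hc
    have F' := G.facts C' hC'
    obtain ⟨s', hs', hss', hs'm⟩ := F'.fix_eq_mov s hsC'
    have : x = s' := F'.mirror_unique x s' hxC' hs' u hu0 hux
      (hs'm ▸ AddSubgroup.mem_inf.2 ⟨hus, movV_le_planeU hxC'.1 hux⟩)
    exact hc (this ▸ hss')
  have hXcard : q ≤ Nat.card X := by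
    have h1 := card_mul_card_le (fixV V s) (planeU K C)
    have e1 := card_fixV_mul_movV (V := V) s
    rw [G.refl0_card_mov hs] at e1
    rw [F.cardU, ← mul_assoc, e1] at h1
    exact Nat.le_of_mul_le_mul_left h1 Nat.card_pos
  obtain ⟨u, hu, hu0⟩ := X.bot_or_exists_ne_zero.resolve_left (fun hb => by
    rw [hb, AddSubgroup.card_bot] at hXcard
    exact absurd F.one_lt (not_lt.2 hXcard))
  obtain ⟨a, ha, hsa, -⟩ := hmir u hu hu0
  have huniq : ∀ x, IsRefl C x → Commute s x → x = a := by
    intro b hb hsb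
    by_contra hne
    have hab : Commute a b := hpair a b ha hb hsa hsb
    have hT : ∀ x, IsRefl C x → Commute s x → x = a ∨ x = b := by
      intro x hx hsx
      by_contra hno
      rw [not_or] at hno
      exact hno.2 (G.comm_unique hC ha hx hb (hpair a x ha hx hsa hsx) hab (Ne.symm hno.1)
        (Ne.symm hne))
    have hp : p ≠ 2 := fun hp => by
      have h1 := G.mov_le_fix_same hC hb ha hab.symm hne
      have h2 : movV V a ≤ movV V b := fun v hv => by
        rw [h1]
        exact AddSubgroup.mem_inf.2 ⟨mem_fixV.2 (by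
          rw [smul_eq_neg_of_mem_movV (hC.refl_sq ha) hv,
            neg_eq_of_add_eq_zero_left (S.add_self hp v)]), movV_le_planeU ha.1 hv⟩
      obtain ⟨v, hv, hv0⟩ := (movV V a).bot_or_exists_ne_zero.resolve_left (fun hb' => by
        have := F.card_mov a ha
        rw [hb', AddSubgroup.card_bot] at this
        have := F.one_lt
        omega)
      exact hne (F.mirror_unique b a hb ha v hv0 (h2 hv) hv)
    -- one of the two mirrors is fixed by `s`, the other one is the mirror of `s`
    have key : ∀ a b : K, IsRefl C a → IsRefl C b → Commute a b → a ≠ b → Commute s b →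
        X ≤ movV V a → False := by
      intro a b ha hb hab hne hsb hle
      have hXa : X = movV V a :=
        AddSubgroup.eq_of_le_of_card_ge hle (by rw [F.card_mov a ha]; exact hXcard)
      have hb2 := hC.refl_sq hb
      have hnegm : ∀ m ∈ movV V b, s • m = -m := by
        intro m hm
        have h1 : s • m + m ∈ movV V b := add_mem (smul_mem_movV_of_commute hsb hm) hm
        have h2 : s • m + m ∈ X := AddSubgroup.mem_inf.2 ⟨mem_fixV.2 (by
          rw [smul_add, ← mul_smul, ← sq, hs2, one_smul, add_comm]), movV_le_planeU hb.1 h1⟩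
        rw [hXa] at h2
        by_contra h3
        exact hne (F.mirror_unique a b ha hb _ (fun h => h3 (eq_neg_of_add_eq_zero_left h)) h2 h1)
      have hmb : movV V b = movV V s := by
        refine AddSubgroup.eq_of_le_of_card_ge (fun m hm => ?_)
          (by rw [G.refl0_card_mov hs, F.card_mov b hb])
        obtain ⟨k, hk⟩ := S.prime.odd_of_ne_two hp
        refine mem_movV.2 ⟨-((k + 1) • m), ?_⟩
        rw [smul_neg, hnegm _ (nsmul_mem hm _), neg_neg, sub_neg_eq_add, ← add_nsmul,
          show k + 1 + (k + 1) = p + 1 by omega, succ_nsmul, S.exp, zero_add]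
      have hco := S.coprime_orderOf hp s
      refine hsC ((eq_of_forall_smul (V := V) fun v => ?_ : b = s) ▸ hb)
      obtain ⟨f, hf, m, hm, rfl⟩ := S.exists_fix_add_mov hco v
      rw [mem_fixV] at hf
      have h1 : b • f = f := sub_eq_zero.1 (S.eq_zero_of_fix_mov hco (by
        rw [smul_sub, smul_comm_of_commute hsb, hf]) (hmb ▸ sub_mem_movV b f))
      rw [smul_add, smul_add, h1, hf, smul_eq_neg_of_mem_movV hs2 hm,
        smul_eq_neg_of_mem_movV hb2 (hmb ▸ hm)]
    rcases le_or_le_of_forall_mem (X := X) (A := movV V a) (B := movV V b) (fun v hv => by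
      by_cases hv0 : v = 0
      · exact Or.inl (hv0 ▸ zero_mem _)
      obtain ⟨x, hx, hsx, hvx⟩ := hmir v hv hv0
      rcases hT x hx hsx with rfl | rfl
      · exact Or.inl hvx
      · exact Or.inr hvx) with hle | hle
    · exact key a b ha hb hab (Ne.symm hne) hsb hle
    · exact key b a hb ha hab.symm hne hsa hle
  refine ⟨a, ha, hsa, huniq, AddSubgroup.eq_of_le_of_card_ge (fun v hv => ?_)
    (by rw [F.card_mov a ha]; exact hXcard)⟩
  by_cases hv0 : v = 0
  · exact hv0 ▸ zero_mem _
  obtain ⟨x, hx, hsx, hvx⟩ := hmir v hv hv0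
  exact huniq x hx hsx ▸ hvx

/-- Commuting distinct reflections fix each other's mirrors. -/
theorem mov_le_fix {y z : K} (hy : IsRefl0 V y) (hz : IsRefl0 V z) (hc : Commute y z)
    (hne : y ≠ z) {u : V} (hu : u ∈ movV V y) : z • u = u := by
  obtain ⟨C, hC, hyC⟩ := id hy
  by_cases hzC : IsRefl C z
  · rw [G.mov_le_fix_same hC hyC hzC hc hne] at hu
    exact mem_fixV.1 (AddSubgroup.mem_inf.1 hu).1
  rcases G.dichotomy hC hz hzC with ⟨h, -⟩ | ⟨x₀, -, -, huniq, hX⟩
  · exact h u (movV_le_planeU hyC.1 hu)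
  · rw [huniq y hyC hc.symm, ← hX] at hu
    exact mem_fixV.1 (AddSubgroup.mem_inf.1 hu).1

/-- Distinct mirrors are disjoint in odd characteristic. -/
theorem mov_disjoint (hp : p ≠ 2) {y z : K} (hy : IsRefl0 V y) (hz : IsRefl0 V z) (hne : y ≠ z)
    {u : V} (h1 : u ∈ movV V y) (h2 : u ∈ movV V z) : u = 0 := by
  by_cases hc : Commute y z
  · exact G.setup.eq_zero_of_fix_mov (G.setup.coprime_orderOf hp z)
      (G.mov_le_fix hy hz hc hne h1) h2
  · obtain ⟨C, hC, hyC, hzC⟩ := G.exists_common hy hz hc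
    by_contra h0
    exact hne ((G.facts C hC).mirror_unique y z hyC hzC u h0 h1 h2)

end Glob

end CfsgLib.BinaryAffine
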