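import Cfsg.Agent.Lib.BinaryAffine.Planes

/-!
# Irreducible binary affine actions

Either the module has prime order and at most two linear parts occur, or it is a field with an
involutive automorphism and the linear parts are the semilinear maps of norm one.
-/

set_option autoImplicit false

namespace CfsgLib.BinaryAffine

variable {K V : Type*} [Group K] [AddCommGroup V] [DistribMulAction K V] {p : ℕ}

theorem trivial_case [Finite K] [Finite V] [Nontrivial V] [FaithfulSMul K V] (S : Setup K V p)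
    (hirr : ∀ W : AddSubgroup V, W ≠ ⊥ → (∀ h : K, ∀ w ∈ W, h • w ∈ W) → W = ⊤)
    (hsq : ∀ h : K, h ^ 2 = 1) : (Nat.card V).Prime ∧ Nat.card K ≤ 2 := by
  have hcomm : ∀ a b : K, Commute a b := fun a b =>
    commute_of_sq_eq_one (hsq a) (hsq b) (hsq _)
  have hneg : ∀ h : K, h ≠ 1 → ∀ v : V, h • v = -v := by
    intro h hh v
    have hfix : fixV V h = ⊥ := by
      by_contra hb
      refine hh (eq_one_of_forall_smul (V := V) fun x => mem_fixV.1 ?_)
      rw [hirr _ hb fun g w hw => smul_mem_fixV_of_commute (hcomm g h) hw]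
      exact AddSubgroup.mem_top x
    have : v + h • v ∈ fixV V h :=
      mem_fixV.2 (by rw [smul_add, ← mul_smul, ← sq, hsq, one_smul, add_comm])
    rw [hfix, AddSubgroup.mem_bot] at this
    exact eq_neg_of_add_eq_zero_right this
  refine ⟨?_, ?_⟩
  · obtain ⟨v, hv⟩ := exists_ne (0 : V)
    have htop : AddSubgroup.zmultiples v = ⊤ := by
      refine hirr _ (by simpa using hv) fun g w hw => ?_
      by_cases hg : g = 1
      · rw [hg, one_smul]; exact hw
      · rw [hneg g hg]; exact neg_mem hw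
    rw [← AddSubgroup.card_top (G := V), ← htop, Nat.card_zmultiples,
      addOrderOf_eq_prime (hp := ⟨S.prime⟩) (S.exp v) hv]
    exact S.prime
  · classical
    let _ : Fintype K := Fintype.ofFinite K
    rw [Nat.card_eq_fintype_card]
    refine (Finset.card_le_card_of_injOn (fun h : K => if h = 1 then (0 : Fin 2) else 1)
      (fun _ _ => Finset.mem_univ _) ?_).trans_eq (Finset.card_univ.trans (Fintype.card_fin 2))
    intro a _ b _ hab
    by_cases ha : a = 1 <;> by_cases hb : b = 1 <;> simp [ha, hb] at hab ⊢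
    exact eq_of_forall_smul (V := V) fun v => (hneg a ha v).trans (hneg b hb v).symm

/-- The classification of irreducible binary affine actions. -/
theorem classify [Finite K] [Finite V] [Nontrivial V] [FaithfulSMul K V] (S : Setup K V p)
    (hirr : ∀ W : AddSubgroup V, W ≠ ⊥ → (∀ h : K, ∀ w ∈ W, h • w ∈ W) → W = ⊤) :
    ((Nat.card V).Prime ∧ Nat.card K ≤ 2) ∨
      ∃ (E : Type) (_ : Field E) (_ : Finite E) (σ : E ≃+* E) (e : V ≃+ E),
        (∀ a, σ (σ a) = a) ∧ (∃ a, σ a ≠ a) ∧
        (∀ h : K, ∃ n, n * σ n = 1 ∧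
          ((∀ v, e (h • v) = n * e v) ∨ ∀ v, e (h • v) = n * σ (e v))) ∧
        ∀ n, n * σ n = 1 →
          (∃ h : K, ∀ v, e (h • v) = n * e v) ∧ ∃ h : K, ∀ v, e (h • v) = n * σ (e v) := by
  by_cases hsq : ∀ h : K, h ^ 2 = 1
  · exact Or.inl (trivial_case S hirr hsq)
  right
  obtain ⟨C, hC⟩ := exists_isMaxFix (V := V) (K := K) (not_forall.1 hsq)
  obtain ⟨q, G⟩ := exists_glob S hC
  obtain ⟨E, hE, hfin, ⟨D⟩⟩ := exists_coord S hC (G.prop C hC)
  have F := G.facts C hC
  have hU : planeU K C = ⊤ := hirr _ (fun hb => by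
    have h1 := F.cardU
    rw [hb, AddSubgroup.card_bot] at h1
    have := Nat.eq_one_of_mul_eq_one_right h1.symm
    have := F.one_lt
    omega) fun h w hw => G.smul_mem hC h hw
  have hmem : ∀ h : K, h ∈ fixing K C := fun h c hc => by
    rw [F.disj c hc (hU ▸ AddSubgroup.mem_top c), smul_zero]
  let e : V ≃+ E := ((AddEquiv.addSubgroupCongr hU).trans AddSubgroup.topEquiv).symm.trans D.e
  have he : ∀ (h : K) (v : V),
      e (h • v) = D.e (planeEnd C ⟨h, hmem h⟩ ⟨v, hU ▸ AddSubgroup.mem_top v⟩) := fun _ _ => rfl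
  have he' : ∀ v : V, e v = D.e ⟨v, hU ▸ AddSubgroup.mem_top v⟩ := fun _ => rfl
  refine ⟨E, hE, hfin, D.σ, e, D.invol, D.moved, fun h => ?_, fun n hn => ⟨?_, ?_⟩⟩
  · rcases isRot_or_isRefl (hmem h) with hr | hr
    · obtain ⟨n, hn, hnh⟩ := D.rot h (hmem h) hr
      exact ⟨n, hn, Or.inl fun v => by rw [he, hnh, he']⟩
    · obtain ⟨n, hn, hnh⟩ := D.refl h (hmem h) hr
      exact ⟨n, hn, Or.inr fun v => by rw [he, hnh, he']⟩
  · obtain ⟨h, hh, -, hnh⟩ := D.rot_surj n hn
    exact ⟨h, fun v => by rw [he, hnh, he']⟩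
  · obtain ⟨h, hh, -, hnh⟩ := D.refl_surj n hn
    exact ⟨h, fun v => by rw [he, hnh, he']⟩

end CfsgLib.BinaryAffine
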