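import Cfsg.Agent.Lib.BinaryAffine.Global

/-!
# A reflection cannot meet a foreign plane in a single mirror

In characteristic two the core lemma applies; in odd characteristic the mirrors inside the sum of
the plane and the mirror would give an adjacency matrix `A` over `ZMod p` with `A ^ 2` the all-one
matrix, contradicting `trace (A ^ p) = trace A ^ p`.
-/

set_option autoImplicit false

namespace CfsgLib.BinaryAffine

variable {K V : Type*} [Group K] [AddCommGroup V] [DistribMulAction K V] {p : ℕ}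

theorem prime_dvd_card [Finite V] (S : Setup K V p) {X : AddSubgroup V} (hX : X ≠ ⊥) :
    p ∣ Nat.card X := by
  obtain ⟨v, hv, hv0⟩ := X.bot_or_exists_ne_zero.resolve_left hX
  have h := addOrderOf_dvd_natCard (⟨v, hv⟩ : X)
  rw [← AddSubgroup.addOrderOf_coe] at h
  exact (addOrderOf_eq_prime (hp := ⟨S.prime⟩) (S.exp v) hv0) ▸ h

namespace Glob

variable [Finite K] [Finite V] [FaithfulSMul K V] {q : ℕ} (G : Glob K V p q)
include G

theorem no_exact_two (hp : p = 2) {C : AddSubgroup V} (hC : IsMaxFix K C) {s x₀ : K}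
    (hs : IsRefl0 V s) (hsC : ¬ IsRefl C s) (hx : IsRefl C x₀) (hsx : Commute s x₀)
    (hX : fixV V s ⊓ planeU K C = movV V x₀) : False := by
  have S := G.setup
  have F := G.facts C hC
  set U := planeU K C with hU
  set T := U ⊔ movV V s with hT
  set R := C ⊓ T with hR
  have hs2 := G.refl0_sq hs
  have hx2 := hC.refl_sq hx
  have hne : x₀ ≠ s := fun h => hsC (h ▸ hx)
  have hms : ∀ v ∈ movV V s, s • v = v := fun v hv => by
    rw [smul_eq_neg_of_mem_movV hs2 hv, neg_eq_of_add_eq_zero_left (S.add_self hp v)]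
  -- `R` is fixed by `s`
  have hRs : ∀ r ∈ R, s • r = r := by
    intro r hr
    obtain ⟨hrC, hrT⟩ := AddSubgroup.mem_inf.1 hr
    obtain ⟨u, hu, m, hm, rfl⟩ := AddSubgroup.mem_sup.1 hrT
    have hxm : x₀ • m = m := G.mov_le_fix hs ⟨C, hC, hx⟩ hsx (Ne.symm hne) hm
    have hxu : x₀ • u = u := by
      have := hx.1 _ hrC
      rw [smul_add, hxm] at this
      exact add_right_cancel this
    obtain ⟨s', hs', hxs', hs'm⟩ := F.fix_eq_mov x₀ hx
    have : s' = x₀ := by
      by_contra h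
      have h1 := G.mov_le_fix_same hC hx hs' hxs' (Ne.symm h)
      have h2 : movV V x₀ ≤ movV V s' := fun v hv => by
        rw [hs'm]
        exact AddSubgroup.mem_inf.2 ⟨mem_fixV.2 (by
          rw [smul_eq_neg_of_mem_movV hx2 hv, neg_eq_of_add_eq_zero_left (S.add_self hp v)]),
          movV_le_planeU hx.1 hv⟩
      obtain ⟨v, hv, hv0⟩ := (movV V x₀).bot_or_exists_ne_zero.resolve_left (fun hb => by
        have := F.card_mov x₀ hx
        rw [hb, AddSubgroup.card_bot] at this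
        have := F.one_lt
        omega)
      exact h (F.mirror_unique s' x₀ hs' hx v hv0 (h2 hv) hv)
    have hux : u ∈ movV V x₀ := by
      rw [← this, hs'm]; exact AddSubgroup.mem_inf.2 ⟨mem_fixV.2 hxu, hu⟩
    rw [← hX] at hux
    rw [smul_add, hms m hm, mem_fixV.1 (AddSubgroup.mem_inf.1 hux).1]
  -- the group of the core lemma
  let Γ : Subgroup K :=
    { carrier := {h | h ∈ fixing K (C ⊓ fixV V s) ∧ ∀ v : V, h • v - v ∈ T}
      one_mem' := ⟨one_mem _, fun v => by simp⟩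
      mul_mem' := fun {a b} ha hb => ⟨mul_mem ha.1 hb.1, fun v => by
        have := add_mem (ha.2 (b • v)) (hb.2 v)
        simpa [mul_smul] using this⟩
      inv_mem' := fun {a} ha => ⟨inv_mem ha.1, fun v => by
        have := neg_mem (ha.2 (a⁻¹ • v))
        simpa using this⟩ }
  have hUT : U ≤ T := le_sup_left
  have hCΓ : ∀ h ∈ fixing K C, h ∈ Γ := fun h hh =>
    ⟨fun c hc => hh c (AddSubgroup.mem_inf.1 hc).1,
      fun v => hUT (movV_le_planeU hh (sub_mem_movV h v))⟩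
  have hsΓ : s ∈ Γ := ⟨fun c hc => mem_fixV.1 (AddSubgroup.mem_inf.1 hc).2,
    fun v => (le_sup_right : movV V s ≤ T) (sub_mem_movV s v)⟩
  have hcardT : Nat.card T ≤ q * q * Nat.card R := by
    rw [← F.cardU, ← Nat.card_prod]
    refine Nat.card_le_card_of_surjective
      (fun ur : U × R => (⟨ur.1 + ur.2, add_mem (hUT ur.1.2) (AddSubgroup.mem_inf.1 ur.2.2).2⟩ : T))
      fun t => ?_
    obtain ⟨c, hc, u, hu, htu⟩ := F.span t
    have hcT : c ∈ T := by
      have := sub_mem t.2 (hUT hu)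
      rwa [htu, add_sub_cancel_right] at this
    exact ⟨(⟨u, hu⟩, ⟨c, AddSubgroup.mem_inf.2 ⟨hc, hcT⟩⟩), Subtype.ext (by rw [htu]; exact add_comm _ _)⟩
  have hodd : ∀ u ∈ Γ, Odd (orderOf u) → u ≠ 1 →
      IsMaxFix K (fixV V u) ∧ planeU K (fixV V u) ≤ T ∧ ∀ v ∈ T, u • v = v → v ∈ R := by
    intro u hu huo hu1
    have hco : (orderOf u).Coprime p := by rw [hp]; exact Nat.coprime_two_right.2 huo
    have hmT : movV V u ≤ T := fun v hv => by
      obtain ⟨w, rfl⟩ := mem_movV.1 hv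
      exact hu.2 w
    have hRu : ∀ r ∈ R, u • r = r := fun r hr =>
      hu.1 r (AddSubgroup.mem_inf.2 ⟨(AddSubgroup.mem_inf.1 hr).1, mem_fixV.2 (hRs r hr)⟩)
    have hdis : R ⊓ movV V u = ⊥ := by
      rw [eq_bot_iff]
      intro v hv
      obtain ⟨h1, h2⟩ := AddSubgroup.mem_inf.1 hv
      exact AddSubgroup.mem_bot.2 (S.eq_zero_of_fix_mov hco (hRu v h1) h2)
    have h1 : Nat.card R * Nat.card (movV V u) ≤ Nat.card T :=
      card_mul_le_of_disjoint inf_le_right hmT hdis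
    have hmq : Nat.card (movV V u) ≤ q * q := by
      have h2 := h1.trans hcardT
      rw [mul_comm (q * q)] at h2
      exact Nat.le_of_mul_le_mul_left h2 Nat.card_pos
    obtain ⟨g₀, hg₀, hg₀C, hmax⟩ := id hC
    have hu2 : u ^ 2 ≠ 1 := fun h => hu1 (eq_one_of_odd_of_sq huo h)
    have hm := hmax u hu2
    rw [hg₀C] at hm
    have hcf : Nat.card (fixV V u) = Nat.card C := by
      refine le_antisymm hm (Nat.le_of_mul_le_mul_right ?_
        (Nat.mul_pos (Nat.zero_lt_of_lt F.one_lt) (Nat.zero_lt_of_lt F.one_lt)))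
      rw [F.cardC, ← card_fixV_mul_movV u]
      exact Nat.mul_le_mul_left _ hmq
    have hmax' : IsMaxFix K (fixV V u) := ⟨u, hu2, rfl, fun g' hg' => by
      rw [hcf, ← hg₀C]; exact hmax g' hg'⟩
    have hcm : Nat.card (movV V u) = q * q := by
      have h3 := card_fixV_mul_movV (V := V) u
      rw [hcf, ← F.cardC] at h3
      exact Nat.eq_of_mul_eq_mul_left Nat.card_pos h3
    have hpl : movV V u = planeU K (fixV V u) :=
      AddSubgroup.eq_of_le_of_card_ge (movV_le_planeU (mem_fixing_fixV u))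
        (by rw [hcm, (G.facts _ hmax').cardU])
    refine ⟨hmax', hpl ▸ hmT, fun v hv hfix => ?_⟩
    obtain ⟨r, hr, m, hm', rfl⟩ := exists_add_of_disjoint_card inf_le_right hmT hdis
      (by rw [hcm, mul_comm (Nat.card R)]; exact hcardT) hv
    rw [smul_add, hRu r hr, add_right_inj] at hfix
    rw [S.eq_zero_of_fix_mov hco hfix hm', add_zero]
    exact hr
  obtain ⟨g₀, hg₀, hg₀C, -⟩ := id hC
  have hgM : g₀ ∈ fixing K C := hg₀C ▸ mem_fixing_fixV g₀
  have hg2M : g₀ ^ 2 ∈ fixing K C := pow_mem hgM 2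
  have hg2o := S.odd_orderOf_sq hp g₀
  have D : CoreData Γ R T :=
    { le := inf_le_right
      fix_R := fun h hh v hv =>
        hh.1 v (AddSubgroup.mem_inf.2 ⟨(AddSubgroup.mem_inf.1 hv).1, mem_fixV.2 (hRs v hv)⟩)
      mov_le := fun h hh => hh.2
      exists_odd := ⟨g₀ ^ 2, hCΓ _ hg2M, hg2o, hg₀⟩
      fix_inf := fun u hu huo hu1 => (hodd u hu huo hu1).2.2
      inverter := fun u hu huo hu1 x => by
        obtain ⟨hmax', hpl, -⟩ := hodd u hu huo hu1
        obtain ⟨r, hr, h1, h2⟩ := S.exists_inverter' u x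
        refine ⟨r, ⟨fun c hc => hr c (mem_fixV.2 (hu.1 c hc)), fun v => ?_⟩, h1, h2⟩
        exact hpl (movV_le_planeU hr (sub_mem_movV r v)) }
  -- both involutions are non-trivial on `T`
  have hnot : ∀ i : K, Nat.card (fixV V i ⊓ U : AddSubgroup V) = q → ∃ v ∈ T, i • v ≠ v := by
    intro i hi
    by_contra hno
    push Not at hno
    have : U ≤ fixV V i ⊓ U := fun v hv =>
      AddSubgroup.mem_inf.2 ⟨mem_fixV.2 (hno v (hUT hv)), hv⟩
    have h1 := Nat.card_le_card_of_injective _ (AddSubgroup.inclusion_injective this)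
    rw [hi, F.cardU] at h1
    have := Nat.mul_lt_mul_of_pos_left F.one_lt (Nat.zero_lt_of_lt F.one_lt)
    omega
  have hk : ∀ {v : V}, v ∈ T → (x₀ * s) • v = v := fun {v} hv =>
    CoreData.mul_smul_eq S hp D (r := x₀) (s := s)
    ⟨hCΓ _ hx.1, hx2, hnot x₀ (F.card_fix x₀ hx)⟩
    ⟨hsΓ, hs2, hnot s (by rw [hX]; exact F.card_mov x₀ hx)⟩ hsx.symm hv
  have heqT : ∀ v ∈ T, s • v = x₀ • v := fun v hv => by
    calc s • v = x₀ • (x₀ * s) • v := by rw [← mul_smul, ← mul_assoc, ← sq, hx2, one_mul]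
      _ = x₀ • v := by rw [hk hv]
  have hmle : movV V x₀ ≤ movV V s := by
    intro v hv
    obtain ⟨w, rfl⟩ := mem_movV.1 hv
    obtain ⟨c, hc, u, hu, rfl⟩ := F.span w
    rw [smul_add, hx.1 c hc, add_sub_add_left_eq_sub, ← heqT u (hUT hu)]
    exact sub_mem_movV s u
  have hmeq : movV V x₀ = movV V s := AddSubgroup.eq_of_le_of_card_ge hmle
    (by rw [F.card_mov x₀ hx, G.refl0_card_mov hs])
  have hTU : T ≤ U := sup_le le_rfl (hmeq ▸ movV_le_planeU hx.1)
  have hkΓ : x₀ * s ∈ Γ := mul_mem (hCΓ _ hx.1) hsΓ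
  have hkg : Commute (x₀ * s) (g₀ ^ 2) :=
    CoreData.commute_of_trivial S hp D hkΓ (fun v hv => hk hv) (hCΓ _ hg2M) hg2o
  have hg2C : fixV V (g₀ ^ 2) = C := hC.fixV_eq hg2M fun h =>
    hg₀ (eq_one_of_odd_of_sq hg2o h)
  have hk1 : x₀ * s = 1 := eq_one_of_forall_smul (V := V) fun v => by
    obtain ⟨c, hc, u, hu, rfl⟩ := F.span v
    have h1 : (x₀ * s) • c ∈ C := hg2C ▸ smul_mem_fixV_of_commute hkg (hg2C.symm ▸ hc)
    have h2 := F.disj _ (sub_mem h1 hc) (hTU (hkΓ.2 c))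
    rw [smul_add, sub_eq_zero.1 h2, hk (hUT hu)]
  refine hne ?_
  rw [eq_inv_of_mul_eq_one_left hk1]
  exact inv_eq_of_mul_eq_one_right (by rw [← sq, hs2])

omit [Finite K] [FaithfulSMul K V] in
/-- The mirrors of a finite set covering `X` once. -/
theorem card_partition (P : Finset K) (X : AddSubgroup V) (hle : ∀ y ∈ P, movV V y ≤ X)
    (hP : ∀ y ∈ P, IsRefl0 V y)
    (hdis : ∀ y ∈ P, ∀ z ∈ P, y ≠ z → ∀ u ∈ movV V y, u ∈ movV V z → u = 0)
    (hcov : ∀ v ∈ X, v ≠ 0 → ∃ y ∈ P, v ∈ movV V y) :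
    Nat.card X + P.card = P.card * q + 1 := by
  classical
  have := Fintype.ofFinite V
  let nz : AddSubgroup V → Finset V := fun A => (Finset.univ.filter fun v => v ∈ A).erase 0
  have hnz : ∀ A : AddSubgroup V, (nz A).card + 1 = Nat.card A := fun A => by
    rw [Finset.card_erase_add_one (by simp), Nat.card_eq_fintype_card]
    exact (Fintype.card_subtype _).symm
  have h1 : nz X = P.biUnion fun y => nz (movV V y) := by
    ext v
    simp only [nz, Finset.mem_biUnion, Finset.mem_erase, Finset.mem_filter, Finset.mem_univ,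
      true_and]
    constructor
    · rintro ⟨hv0, hv⟩
      obtain ⟨y, hy, hvy⟩ := hcov v hv hv0
      exact ⟨y, hy, hv0, hvy⟩
    · rintro ⟨y, hy, hv0, hvy⟩
      exact ⟨hv0, hle y hy hvy⟩
  have h2 : (nz X).card = ∑ y ∈ P, (nz (movV V y)).card := by
    rw [h1, Finset.card_biUnion]
    intro y hy z hz hne
    simp only [Function.onFun, Finset.disjoint_left, nz, Finset.mem_erase, Finset.mem_filter,
      Finset.mem_univ, true_and]
    rintro v ⟨hv0, hv⟩ ⟨-, hv'⟩
    exact hv0 (hdis y hy z hz hne v hv hv')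
  have h3 : ∑ y ∈ P, ((nz (movV V y)).card + 1) = P.card * q := by
    rw [Finset.sum_congr rfl fun y hy => (hnz _).trans (G.refl0_card_mov (hP y hy)),
      Finset.sum_const, smul_eq_mul]
  rw [Finset.sum_add_distrib, ← h2, Finset.sum_const, smul_eq_mul, mul_one] at h3
  have := hnz X
  omega

set_option maxHeartbeats 1000000 in
theorem no_exact_odd (hp : p ≠ 2) {C : AddSubgroup V} (hC : IsMaxFix K C) {s x₀ : K}
    (hs : IsRefl0 V s) (hsC : ¬ IsRefl C s) (hx : IsRefl C x₀)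
    (huniq : ∀ x : K, IsRefl C x → Commute s x → x = x₀) : False := by
  classical
  have S := G.setup
  have := Fact.mk S.prime
  have F := G.facts C hC
  set U := planeU K C with hU
  set T := U ⊔ movV V s with hT
  have hUT : U ≤ T := le_sup_left
  have hsT : movV V s ≤ T := le_sup_right
  have hne0 : ∀ {y : K}, IsRefl0 V y → movV V y ≠ ⊥ := fun {y} hy hb => by
    have := G.refl0_card_mov hy
    rw [hb, AddSubgroup.card_bot] at this
    have := F.one_lt
    omega
  have hrefl0 : ∀ {x : K}, IsRefl C x → IsRefl0 V x := fun h => ⟨C, hC, h⟩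
  have hUs : ∀ v ∈ U, v ∈ movV V s → v = 0 := by
    intro v hv hvs
    by_contra h0
    obtain ⟨x, hx', hvx⟩ := F.mirror_ex v hv h0
    exact h0 (G.mov_disjoint hp (hrefl0 hx') hs (fun h => hsC (h ▸ hx')) hvx hvs)
  -- every non-zero vector of `T` lies in a mirror inside `T`
  have hcov : ∀ v ∈ T, v ≠ 0 → ∃ y : K, IsRefl0 V y ∧ movV V y ≤ T ∧ v ∈ movV V y := by
    intro v hv hv0
    obtain ⟨u, hu, m, hm, rfl⟩ := AddSubgroup.mem_sup.1 hv
    by_cases hu0 : u = 0
    · exact ⟨s, hs, hsT, by simpa [hu0] using hm⟩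
    obtain ⟨x, hx', hux⟩ := F.mirror_ex u hu hu0
    by_cases hm0 : m = 0
    · exact ⟨x, hrefl0 hx', (movV_le_planeU hx'.1).trans hUT, by simpa [hm0] using hux⟩
    have span : ∀ a b : K, IsRefl0 V a → IsRefl0 V b → ¬ Commute a b → movV V a ≤ T →
        movV V b ≤ T → ∀ w, w ≠ 0 → ∀ w₁ ∈ movV V a, ∀ w₂ ∈ movV V b, w = w₁ + w₂ →
        ∃ y : K, IsRefl0 V y ∧ movV V y ≤ T ∧ w ∈ movV V y := by
      intro a b ha hb hab haT hbT w hw0 w₁ hw₁ w₂ hw₂ hw
      obtain ⟨C', hC', haC, hbC⟩ := G.exists_common ha hb hab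
      obtain ⟨y, hy, hwy⟩ := (G.facts C' hC').mirror_ex w
        (hw ▸ add_mem (movV_le_planeU haC.1 hw₁) (movV_le_planeU hbC.1 hw₂)) hw0
      refine ⟨y, ⟨C', hC', hy⟩, fun z hz => ?_, hwy⟩
      obtain ⟨z₁, hz₁, z₂, hz₂, rfl⟩ := G.plane_span hC' haC hbC
        (fun e => hab (e ▸ Commute.refl a)) (movV_le_planeU hy.1 hz)
      exact add_mem (haT hz₁) (hbT hz₂)
    by_cases hcx : x = x₀
    swap
    · exact span x s (hrefl0 hx') hs (fun h => hcx (huniq x hx' h.symm))
        ((movV_le_planeU hx'.1).trans hUT) hsT _ hv0 u hux m hm rfl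
    -- use a second reflection
    obtain ⟨x₁, hx₁, hxx₁⟩ := F.partner x₀ hx
    have hx₁ne : x₁ ≠ x₀ := fun h => hxx₁ (h ▸ Commute.refl x₀)
    obtain ⟨u₁, hu₁, hu₁0⟩ :=
      (movV V x₁).bot_or_exists_ne_zero.resolve_left (hne0 (hrefl0 hx₁))
    have hu₁U := movV_le_planeU hx₁.1 hu₁
    have step : ∀ a : V, a ∈ movV V x₁ → a ≠ 0 → ∃ z : K, IsRefl0 V z ∧ movV V z ≤ T ∧
        u - a + m ∈ movV V z ∧ z ≠ x₁ := by
      intro a ha ha0
      have haU := movV_le_planeU hx₁.1 ha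
      have hsub : u - a ≠ 0 := by
        intro h
        rw [sub_eq_zero] at h
        rw [h] at hux
        exact hx₁ne ((F.mirror_unique x₁ x hx₁ hx' a ha0 ha hux).trans hcx)
      obtain ⟨x', hx'', hux'⟩ := F.mirror_ex _ (sub_mem hu haU) hsub
      have hne' : ¬ Commute x' s := fun h => by
        have e := huniq x' hx'' h.symm
        rw [e, ← hcx] at hux'
        have := sub_mem hux hux'
        rw [sub_sub_cancel] at this
        exact hx₁ne ((F.mirror_unique x₁ x hx₁ hx' a ha0 ha this).trans hcx)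
      have hw0 : u - a + m ≠ 0 := fun h => by
        have hm' : m ∈ U := eq_neg_of_add_eq_zero_right h ▸ neg_mem (sub_mem hu haU)
        exact hm0 (hUs m hm' hm)
      obtain ⟨z, hz, hzT, hwz⟩ := span x' s (hrefl0 hx'') hs hne'
        ((movV_le_planeU hx''.1).trans hUT) hsT _ hw0 _ hux' m hm rfl
      refine ⟨z, hz, hzT, hwz, fun e => hm0 (hUs m ?_ hm)⟩
      rw [e] at hwz
      have := sub_mem (movV_le_planeU hx₁.1 hwz) (sub_mem hu haU)
      rwa [add_sub_cancel_left] at this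
    have h2u : u₁ + u₁ ≠ 0 := fun h => hu₁0 (S.eq_zero_of_coprime (n := 2)
      ((Nat.coprime_primes Nat.prime_two S.prime).2 (Ne.symm hp)) (by rwa [two_nsmul]))
    obtain ⟨z₁, hz₁, hz₁T, hw₁, hn₁⟩ := step u₁ hu₁ hu₁0
    obtain ⟨z₂, hz₂, hz₂T, hw₂, hn₂⟩ := step (u₁ + u₁) (add_mem hu₁ hu₁) h2u
    have hx₁T := (movV_le_planeU hx₁.1).trans hUT
    by_cases hc₁ : Commute z₁ x₁
    swap
    · exact span z₁ x₁ hz₁ (hrefl0 hx₁) hc₁ hz₁T hx₁T _ hv0 _ hw₁ u₁ hu₁ (by abel)
    by_cases hc₂ : Commute z₂ x₁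
    swap
    · exact span z₂ x₁ hz₂ (hrefl0 hx₁) hc₂ hz₂T hx₁T _ hv0 _ hw₂ (u₁ + u₁)
        (add_mem hu₁ hu₁) (by abel)
    exfalso
    have h1 := G.mov_le_fix hz₁ (hrefl0 hx₁) hc₁ hn₁ hw₁
    have h2 := G.mov_le_fix hz₂ (hrefl0 hx₁) hc₂ hn₂ hw₂
    refine hu₁0 (S.eq_zero_of_fix_mov (S.coprime_orderOf hp x₁) ?_ hu₁)
    have e : u₁ = (u - u₁ + m) - (u - (u₁ + u₁) + m) := by abel
    rw [e, smul_sub, h1, h2]
  -- the matrix of commuting mirrors
  let ι := {y : K // IsRefl0 V y ∧ movV V y ≤ T}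
  let _ : Fintype ι := Fintype.ofFinite ι
  let A : Matrix ι ι (ZMod p) :=
    Matrix.of fun i j => if i ≠ j ∧ Commute (i : K) (j : K) then 1 else 0
  let J : Matrix ι ι (ZMod p) := Matrix.of fun _ _ => 1
  have hcongr : ∀ (X : AddSubgroup V), X ≠ ⊥ → X ≤ T → ∀ P : Finset ι,
      (∀ k ∈ P, movV V (k : K) ≤ X) →
      (∀ v ∈ X, v ≠ 0 → ∀ k : ι, v ∈ movV V (k : K) → k ∈ P) → (P.card : ZMod p) = 1 := by
    intro X hX0 hXT P hle hmem
    have h := G.card_partition (P.map (Function.Embedding.subtype _)) X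
      (fun y hy => by obtain ⟨k, hk, rfl⟩ := Finset.mem_map.1 hy; exact hle k hk)
      (fun y hy => by obtain ⟨k, -, rfl⟩ := Finset.mem_map.1 hy; exact k.2.1)
      (fun y hy z hz hyz w hw hw' => by
        obtain ⟨k, -, rfl⟩ := Finset.mem_map.1 hy
        obtain ⟨l, -, rfl⟩ := Finset.mem_map.1 hz
        exact G.mov_disjoint hp k.2.1 l.2.1 hyz hw hw')
      (fun v hv hv0 => by
        obtain ⟨y, hy, hyT, hvy⟩ := hcov v (hXT hv) hv0
        exact ⟨y, Finset.mem_map.2 ⟨⟨y, hy, hyT⟩, hmem v hv hv0 _ hvy, rfl⟩, hvy⟩)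
    rw [Finset.card_map] at h
    have h' := congrArg (Nat.cast : ℕ → ZMod p) h
    have hq : (q : ZMod p) = 0 := by
      rw [ZMod.natCast_eq_zero_iff, ← G.refl0_card_mov hs]
      exact prime_dvd_card S (hne0 hs)
    have hX : (Nat.card X : ZMod p) = 0 := by
      rw [ZMod.natCast_eq_zero_iff]; exact prime_dvd_card S hX0
    push_cast at h'
    rwa [hX, hq, zero_add, mul_zero, zero_add] at h'
  have hcardT : q * q * q ≤ Nat.card T := by
    calc q * q * q = Nat.card U * Nat.card (movV V s) := by rw [F.cardU, G.refl0_card_mov hs]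
      _ ≤ Nat.card T := card_mul_le_of_disjoint hUT hsT (by
          rw [eq_bot_iff]
          intro v hv
          obtain ⟨h1, h2⟩ := AddSubgroup.mem_inf.1 hv
          exact AddSubgroup.mem_bot.2 (hUs v h1 h2))
  have hbound : ∀ (y : K), IsRefl0 V y → ∀ B : AddSubgroup V,
      Nat.card B ≤ q * Nat.card (fixV V y ⊓ B : AddSubgroup V) := by
    intro y hy B
    have h1 := card_mul_card_le (fixV V y) B
    have e1 := card_fixV_mul_movV (V := V) y
    rw [G.refl0_card_mov hy] at e1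
    rw [← e1, mul_assoc] at h1
    exact Nat.le_of_mul_le_mul_left h1 Nat.card_pos
  have hfixne : ∀ i j : ι, fixV V (i : K) ⊓ (fixV V (j : K) ⊓ T) ≠ ⊥ := by
    intro i j hb
    have h1 := hbound j j.2.1 T
    have h2 := hbound i i.2.1 (fixV V (j : K) ⊓ T)
    rw [hb, AddSubgroup.card_bot, mul_one] at h2
    have h3 := hcardT.trans (h1.trans (Nat.mul_le_mul_left q h2))
    have h4 : q * q * 1 < q * q * q := Nat.mul_lt_mul_of_pos_left F.one_lt
      (Nat.mul_pos (Nat.zero_lt_of_lt F.one_lt) (Nat.zero_lt_of_lt F.one_lt))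
    omega
  have hadj : ∀ (i k : ι) (v : V), v ≠ 0 → v ∈ movV V (k : K) → (i : K) • v = v →
      i ≠ k ∧ Commute (i : K) (k : K) := by
    intro i k v hv0 hvk hiv
    have hne : i ≠ k := by
      rintro rfl
      exact hv0 (S.eq_zero_of_fix_mov (S.coprime_orderOf hp i) hiv hvk)
    refine ⟨hne, ?_⟩
    by_contra hc
    obtain ⟨C', hC', hiC, hkC⟩ := G.exists_common i.2.1 k.2.1 hc
    obtain ⟨s', hs', his', hs'm⟩ := (G.facts C' hC').fix_eq_mov i hiC
    have : (k : K) = s' := (G.facts C' hC').mirror_unique k s' hkC hs' v hv0 hvk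
      (hs'm ▸ AddSubgroup.mem_inf.2 ⟨mem_fixV.2 hiv, movV_le_planeU hkC.1 hvk⟩)
    exact hc (this ▸ his')
  have hA2 : A * A = J := by
    ext i j
    rw [Matrix.mul_apply]
    have : ∀ k, A i k * A k j = if (i ≠ k ∧ Commute (i : K) (k : K)) ∧
        (j ≠ k ∧ Commute (j : K) (k : K)) then 1 else 0 := by
      intro k
      have e : (k ≠ j ∧ Commute (k : K) (j : K)) ↔ (j ≠ k ∧ Commute (j : K) (k : K)) :=
        and_congr ⟨Ne.symm, Ne.symm⟩ ⟨Commute.symm, Commute.symm⟩
      show (if (i ≠ k ∧ Commute (i : K) (k : K)) then (1 : ZMod p) else 0) *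
          (if (k ≠ j ∧ Commute (k : K) (j : K)) then (1 : ZMod p) else 0) = _
      rw [ite_zero_mul_ite_zero, one_mul]
      exact if_congr (and_congr_right fun _ => e) rfl rfl
    rw [Finset.sum_congr rfl fun k _ => this k, Finset.sum_boole]
    refine hcongr _ (hfixne i j) (inf_le_right.trans inf_le_right) _ (fun k hk v hv => ?_)
      (fun v hv hv0 k hvk => ?_)
    · obtain ⟨⟨h1, h2⟩, h3, h4⟩ := (Finset.mem_filter.1 hk).2
      refine AddSubgroup.mem_inf.2 ⟨mem_fixV.2 ?_, AddSubgroup.mem_inf.2 ⟨mem_fixV.2 ?_, k.2.2 hv⟩⟩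
      · exact G.mov_le_fix k.2.1 i.2.1 h2.symm (fun e => h1 (Subtype.ext e).symm) hv
      · exact G.mov_le_fix k.2.1 j.2.1 h4.symm (fun e => h3 (Subtype.ext e).symm) hv
    · obtain ⟨h1, h2⟩ := AddSubgroup.mem_inf.1 hv
      exact Finset.mem_filter.2 ⟨Finset.mem_univ _, hadj i k v hv0 hvk (mem_fixV.1 h1),
        hadj j k v hv0 hvk (mem_fixV.1 (AddSubgroup.mem_inf.1 h2).1)⟩
  have hAJ : A * J = J := by
    ext i j
    rw [Matrix.mul_apply]
    have := congrFun (congrFun hA2 i) i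
    rw [Matrix.mul_apply] at this
    refine Eq.trans (Finset.sum_congr rfl fun k _ => ?_) this
    simp only [A, J, Matrix.of_apply, mul_one]
    split_ifs with h1 h2 h3
    · simp
    · exact absurd ⟨Ne.symm h1.1, h1.2.symm⟩ h2
    · exact absurd ⟨Ne.symm h3.1, h3.2.symm⟩ h1
    · simp
  have hpow : ∀ n, A ^ (n + 2) = J := by
    intro n
    induction n with
    | zero => rw [zero_add, sq, hA2]
    | succ n ih => rw [show n + 1 + 2 = (n + 2) + 1 by omega, pow_succ', ih, hAJ]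
  have htr := ZMod.trace_pow_card A
  have htrA : Matrix.trace A = 0 := by simp [Matrix.trace, A]
  have htrJ : Matrix.trace J = 1 := by
    rw [Matrix.trace]
    simp only [J, Matrix.diag, Matrix.of_apply, Finset.sum_const, Finset.card_univ,
      nsmul_eq_mul, mul_one]
    rw [← Finset.card_univ]
    refine hcongr T ?_ le_rfl _ (fun k _ => k.2.2) fun v _ _ k _ => Finset.mem_univ k
    intro hb
    exact hne0 hs (eq_bot_iff.2 (hb ▸ hsT))
  have hAp : A ^ p = J := by
    have := hpow (p - 2)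
    rwa [Nat.sub_add_cancel S.prime.two_le] at this
  rw [htrA, zero_pow S.prime.ne_zero, hAp, htrJ] at htr
  exact one_ne_zero htr

end Glob

end CfsgLib.BinaryAffine
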