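import Cfsg.Agent.Lib.BinaryAffine.Basic

/-!
# Maximal fixed subgroups and their planes

For an element `g` with `g ^ 2 ≠ 1` whose fixed subgroup `C` is as large as possible, the elements
fixing `C` pointwise split into rotations and reflections of the plane `planeU C`.
-/

set_option autoImplicit false

namespace CfsgLib.BinaryAffine

variable {K V : Type*} [Group K] [AddCommGroup V] [DistribMulAction K V] {p : ℕ}

/-- `C` is the fixed subgroup of an element of order at least three, of maximal size. -/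
def IsMaxFix (K : Type*) [Group K] {V : Type*} [AddCommGroup V] [DistribMulAction K V]
    (C : AddSubgroup V) : Prop :=
  ∃ g : K, g ^ 2 ≠ 1 ∧ fixV V g = C ∧
    ∀ g' : K, g' ^ 2 ≠ 1 → Nat.card (fixV V g') ≤ Nat.card (fixV V g)

/-- The plane of `C`: everything moved by the elements fixing `C` pointwise. -/
def planeU (K : Type*) [Group K] {V : Type*} [AddCommGroup V] [DistribMulAction K V]
    (C : AddSubgroup V) : AddSubgroup V :=
  ⨆ h ∈ fixing K C, movV V h

/-- A rotation of the plane of `C`. -/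
def IsRot (C : AddSubgroup V) (h : K) : Prop :=
  h ∈ fixing K C ∧ (h = 1 ∨ fixV V h = C)

/-- A reflection of the plane of `C`. -/
def IsRefl (C : AddSubgroup V) (h : K) : Prop :=
  h ∈ fixing K C ∧ h ≠ 1 ∧ fixV V h ≠ C

theorem isRot_or_isRefl {C : AddSubgroup V} {h : K} (hh : h ∈ fixing K C) :
    IsRot C h ∨ IsRefl C h := by
  by_cases h1 : h = 1 ∨ fixV V h = C
  · exact Or.inl ⟨hh, h1⟩
  · rw [not_or] at h1
    exact Or.inr ⟨hh, h1.1, h1.2⟩

theorem IsRot.not_isRefl {C : AddSubgroup V} {h : K} (hh : IsRot C h) : ¬ IsRefl C h :=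
  fun h' => hh.2.elim h'.2.1 h'.2.2

theorem isRot_one (C : AddSubgroup V) : IsRot C (1 : K) := ⟨one_mem _, Or.inl rfl⟩

theorem movV_le_planeU {C : AddSubgroup V} {h : K} (hh : h ∈ fixing K C) :
    movV V h ≤ planeU K C :=
  le_iSup₂_of_le h hh le_rfl

theorem smul_mem_planeU {C : AddSubgroup V} {h : K} (hh : h ∈ fixing K C) {u : V}
    (hu : u ∈ planeU K C) : h • u ∈ planeU K C := by
  simpa using add_mem (movV_le_planeU hh (sub_mem_movV h u)) hu

theorem planeU_le {C X : AddSubgroup V} (hX : ∀ h ∈ fixing K C, ∀ v : V, h • v - v ∈ X) :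
    planeU K C ≤ X :=
  iSup₂_le fun h hh v hv => by
    obtain ⟨w, rfl⟩ := mem_movV.1 hv
    exact hX h hh w

theorem exists_isMaxFix [Finite K] (h : ∃ g : K, g ^ 2 ≠ 1) :
    ∃ C : AddSubgroup V, IsMaxFix K C := by
  obtain ⟨g, hg⟩ := h
  have : Nonempty {g : K // g ^ 2 ≠ 1} := ⟨⟨g, hg⟩⟩
  obtain ⟨g₀, h₀⟩ := Finite.exists_max (fun g : {g : K // g ^ 2 ≠ 1} => Nat.card (fixV V g.1))
  exact ⟨_, g₀.1, g₀.2, rfl, fun g' hg' => h₀ ⟨g', hg'⟩⟩

namespace IsMaxFix

variable [Finite V] {C : AddSubgroup V} (hC : IsMaxFix K C)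
include hC

theorem fixV_eq {h : K} (hh : h ∈ fixing K C) (h2 : h ^ 2 ≠ 1) : fixV V h = C := by
  obtain ⟨g, hg, rfl, hmax⟩ := hC
  exact ((AddSubgroup.eq_of_le_of_card_ge (mem_fixing.1 hh) (hmax h h2))).symm

theorem sq_eq_one_of_fixed {h : K} (hh : h ∈ fixing K C) {x : V} (hx : x ∉ C) (hfix : h • x = x) :
    h ^ 2 = 1 := by
  by_contra hne
  exact hx (hC.fixV_eq hh hne ▸ mem_fixV.2 hfix)

theorem refl_sq {r : K} (hr : IsRefl C r) : r ^ 2 = 1 := by
  by_contra hne
  exact hr.2.2 (hC.fixV_eq hr.1 hne)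

end IsMaxFix

/-- The structure of the group fixing a maximal fixed subgroup pointwise. -/
structure PlaneProp (K : Type*) [Group K] {V : Type*} [AddCommGroup V] [DistribMulAction K V]
    (p : ℕ) (C : AddSubgroup V) : Prop where
  disj : ∀ v ∈ C, v ∈ planeU K C → v = 0
  span : ∀ v : V, ∃ c ∈ C, ∃ u ∈ planeU K C, v = c + u
  rot_mul : ∀ g h : K, IsRot C g → IsRot C h → IsRot C (g * h)
  rot_comm : ∀ g h : K, IsRot C g → IsRot C h → Commute g h
  rot_coprime : ∀ g : K, IsRot C g → (orderOf g).Coprime p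
  refl_mul : ∀ r s : K, IsRefl C r → IsRefl C s → IsRot C (r * s)
  refl_inv : ∀ r g : K, IsRefl C r → IsRot C g → r * g * r⁻¹ = g⁻¹
  refl_ex : ∀ x ∈ planeU K C, x ≠ 0 → ∃ r : K, IsRefl C r ∧ r • x = x

end CfsgLib.BinaryAffine
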