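import Cfsg.Agent.Lib.BinaryAffine.Plane
import Cfsg.Agent.Lib.BinaryAffine.CoreTwo

/-!
# The plane of a maximal fixed subgroup in characteristic two
-/

set_option autoImplicit false

namespace CfsgLib.BinaryAffine

variable {K V : Type*} [Group K] [AddCommGroup V] [DistribMulAction K V] {p : ℕ}

theorem planeProp_two [Finite K] [Finite V] [FaithfulSMul K V] (S : Setup K V p) (hp : p = 2)
    {C : AddSubgroup V} (hC : IsMaxFix K C) : PlaneProp K p C := by
  have hco : ∀ u : K, Odd (orderOf u) → (orderOf u).Coprime p := fun u hu => by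
    rw [hp]; exact Nat.coprime_two_right.2 hu
  obtain ⟨g, hg, hgC, -⟩ := id hC
  set g₀ := g ^ 2 with hg₀
  have hgM : g ∈ fixing K C := hgC ▸ mem_fixing_fixV g
  have hg₀M : g₀ ∈ fixing K C := pow_mem hgM 2
  have hg₀o : Odd (orderOf g₀) := S.odd_orderOf_sq hp g
  have hg₀1 : g₀ ≠ 1 := hg
  have hoddfix : ∀ u ∈ fixing K C, Odd (orderOf u) → u ≠ 1 → fixV V u = C :=
    fun u hu huo hu1 => hC.fixV_eq hu fun h => hu1 (eq_one_of_odd_of_sq huo h)
  have D : CoreData (fixing K C) C ⊤ :=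
    { le := le_top
      fix_R := fun h hh v hv => hh v hv
      mov_le := fun _ _ _ => AddSubgroup.mem_top _
      exists_odd := ⟨g₀, hg₀M, hg₀o, hg₀1⟩
      fix_inf := fun u hu huo hu1 v _ hv => hoddfix u hu huo hu1 ▸ mem_fixV.2 hv
      inverter := fun u hu huo hu1 x => by
        obtain ⟨r, hr, h1, h2⟩ := S.exists_inverter' u x
        exact ⟨r, hoddfix u hu huo hu1 ▸ hr, h1, h2⟩ }
  have hmoves : ∀ r ∈ fixing K C, r ^ 2 = 1 → r ≠ 1 → CoreData.Moves (fixing K C) ⊤ r :=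
    fun r hr hr2 hr1 => by
      obtain ⟨v, hv⟩ := exists_moved (V := V) hr1
      exact ⟨hr, hr2, v, AddSubgroup.mem_top _, hv⟩
  obtain ⟨Q, hQM, hQmem, hQodd, hQcomm, hQinv⟩ := CoreData.exists_oddPart S hp D
  have hodd : ∀ h ∈ fixing K C, h ^ 2 ≠ 1 → Odd (orderOf h) := by
    intro h hh hne
    by_contra hev
    rw [Nat.not_odd_iff_even] at hev
    obtain ⟨b, hb⟩ := hev
    have hpos := orderOf_pos h
    have he2 : (h ^ b) ^ 2 = 1 := by
      rw [← pow_mul, show b * 2 = orderOf h by omega, pow_orderOf_eq_one]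
    have he1 : h ^ b ≠ 1 := fun h1 => by
      have := Nat.le_of_dvd (by omega) (orderOf_dvd_of_pow_eq_one h1)
      omega
    have hu := S.odd_orderOf_sq hp h
    have h1 := hQinv _ (hmoves _ (pow_mem hh b) he2 he1) _ (hQmem _ (pow_mem hh 2) hu)
    rw [((Commute.refl h).pow_pow b 2).eq, mul_inv_cancel_right] at h1
    exact hne (eq_one_of_odd_of_sq hu (by rw [sq]; nth_rewrite 1 [h1]; rw [inv_mul_cancel]))
  have hrot : ∀ h : K, IsRot C h ↔ h ∈ Q := by
    intro h
    refine ⟨?_, fun hh => ⟨hQM hh, ?_⟩⟩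
    · rintro ⟨hh, rfl | hfix⟩
      · exact one_mem Q
      refine hQmem h hh (hodd h hh fun h2 => ?_)
      have h1 : h = 1 := eq_one_of_forall_smul fun v =>
        CoreData.smul_eq_of_sub_mem S hp D hh (fun w _ => by
          rw [← hfix, mem_fixV, smul_sub, smul_smul_of_sq h2, S.sub_eq_add hp, S.sub_eq_add hp,
            add_comm]) (AddSubgroup.mem_top v)
      rw [h1] at hfix
      refine hg₀1 (eq_one_of_forall_smul (V := V) fun v => ?_)
      exact hg₀M v (hfix ▸ mem_fixV.2 (one_smul K v))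
    · exact or_iff_not_imp_left.2 fun h1 => hoddfix h (hQM hh) (hQodd h hh) h1
  -- the plane is the moved subgroup of `g₀`
  have hg₀C := hoddfix g₀ hg₀M hg₀o hg₀1
  have hdec : ∀ v : V, ∃ c ∈ C, ∃ m ∈ movV V g₀, v = c + m := by
    rw [← hg₀C]; exact S.exists_fix_add_mov (hco _ hg₀o)
  have hinv : ∀ h ∈ fixing K C, ∀ m ∈ movV V g₀, h • m ∈ movV V g₀ := by
    intro h hh m hm
    obtain ⟨w, rfl⟩ := mem_movV.1 hm
    have hmem := mul_mem (mul_mem hh hg₀M) (inv_mem hh)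
    have ho : Odd (orderOf (h * g₀ * h⁻¹)) := by
      rw [show h * g₀ * h⁻¹ = MulAut.conj h g₀ from rfl, MulEquiv.orderOf_eq]; exact hg₀o
    have hc := hQcomm _ (hQmem _ hmem ho) _ (hQmem _ hg₀M hg₀o)
    obtain ⟨c, hc', m', hm', hw⟩ := hdec (h • w)
    rw [show h • (g₀ • w - w) = (h * g₀ * h⁻¹) • m' - m' by
      rw [smul_sub, show h • g₀ • w = (h * g₀ * h⁻¹) • (h • w) by
        simp [mul_smul], hw, smul_add, hmem c hc']
      abel]
    exact sub_mem (smul_mem_movV_of_commute hc hm') hm'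
  have hU : planeU K C = movV V g₀ := le_antisymm (planeU_le fun h hh v => by
    obtain ⟨c, hc, m, hm, rfl⟩ := hdec v
    rw [smul_add, hh c hc, add_sub_add_left_eq_sub]
    exact sub_mem (hinv h hh m hm) hm) (movV_le_planeU hg₀M)
  refine ⟨?_, ?_, ?_, ?_, ?_, ?_, ?_, ?_⟩
  · intro v hv hvU
    rw [hU] at hvU
    rw [← hg₀C, mem_fixV] at hv
    exact S.eq_zero_of_fix_mov (hco _ hg₀o) hv hvU
  · rw [hU]; exact hdec
  · intro a b ha hb
    rw [hrot] at *
    exact mul_mem ha hb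
  · intro a b ha hb
    exact hQcomm _ ((hrot a).1 ha) _ ((hrot b).1 hb)
  · exact fun a ha => hco a (hQodd a ((hrot a).1 ha))
  · intro r s hr hs
    rcases isRot_or_isRefl (mul_mem hr.1 hs.1) with h | h
    · exact h
    exfalso
    have hc := commute_of_sq_eq_one (hC.refl_sq hr) (hC.refl_sq hs) (hC.refl_sq h)
    exact h.2.1 (eq_one_of_forall_smul fun v => CoreData.mul_smul_eq S hp D
      (hmoves r hr.1 (hC.refl_sq hr) hr.2.1) (hmoves s hs.1 (hC.refl_sq hs) hs.2.1) hc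
      (AddSubgroup.mem_top v))
  · intro r a hr ha
    exact hQinv r (hmoves r hr.1 (hC.refl_sq hr) hr.2.1) a ((hrot a).1 ha)
  · intro x hx hx0
    obtain ⟨r, hr, hrx, hru⟩ := S.exists_inverter' g₀ x
    rw [hg₀C] at hr
    have hxC : x ∉ C := fun hc => hx0 (by
      rw [hU] at hx
      exact S.eq_zero_of_fix_mov (hco _ hg₀o) (hg₀M x hc) hx)
    refine ⟨r, ⟨hr, fun h1 => hxC ?_, fun hf => hxC ?_⟩, hrx⟩
    · rw [h1, one_smul] at hru
      exact hg₀C ▸ mem_fixV.2 (smul_eq_of_smul_eq_inv hg₀o hru)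
    · exact hf ▸ mem_fixV.2 hrx

end CfsgLib.BinaryAffine
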