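import Cfsg.Agent.Lib.BinaryAffine.NoExact

/-!
# There is only one plane

The reflections of different planes commute and fix each other's planes, so the planes are
permuted; binarity then forces every element to preserve each plane.
-/

set_option autoImplicit false

namespace CfsgLib.BinaryAffine

variable {K V : Type*} [Group K] [AddCommGroup V] [DistribMulAction K V] {p : ℕ}

/-- The image of a subgroup of `V` under an element of `K`. -/
def smulSub (h : K) (C : AddSubgroup V) : AddSubgroup V :=
  C.map (DistribSMul.toAddMonoidHom V h)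

theorem mem_smulSub {h : K} {C : AddSubgroup V} {v : V} :
    v ∈ smulSub h C ↔ h⁻¹ • v ∈ C := by
  constructor
  · rintro ⟨w, hw, rfl⟩
    show h⁻¹ • h • w ∈ C
    rwa [inv_smul_smul]
  · intro hv
    exact ⟨h⁻¹ • v, hv, smul_inv_smul h v⟩

theorem smulSub_smulSub (g h : K) (C : AddSubgroup V) :
    smulSub g (smulSub h C) = smulSub (g * h) C := by
  ext v
  rw [mem_smulSub, mem_smulSub, mem_smulSub, mul_inv_rev, mul_smul]

theorem smulSub_one (C : AddSubgroup V) : smulSub (1 : K) C = C := by
  ext v
  rw [mem_smulSub, inv_one, one_smul]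

theorem smulSub_left_cancel {g : K} {C D : AddSubgroup V} (h : smulSub g C = smulSub g D) :
    C = D := by
  have := congrArg (smulSub g⁻¹) h
  rwa [smulSub_smulSub, smulSub_smulSub, inv_mul_cancel, smulSub_one, smulSub_one] at this

theorem isMaxFix_smulSub [Finite V] {h : K} {C : AddSubgroup V} (hC : IsMaxFix K C) :
    IsMaxFix K (smulSub h C) := by
  obtain ⟨g, hg, rfl, hmax⟩ := hC
  have hfix : fixV V (h * g * h⁻¹) = smulSub h (fixV V g) := by
    ext v
    rw [mem_smulSub, mem_fixV, mem_fixV, mul_smul, mul_smul, smul_eq_iff_eq_inv_smul]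
  refine ⟨h * g * h⁻¹, fun he => hg ?_, hfix, fun g' hg' => ?_⟩
  · rw [conj_pow, mul_inv_eq_one] at he
    exact mul_left_cancel (he.trans (mul_one h).symm)
  · rw [hfix]
    exact (hmax g' hg').trans_eq (Nat.card_congr
      ((fixV V g).equivMapOfInjective _ (MulAction.injective h)).toEquiv)

theorem smul_mem_planeU_smulSub {h : K} {C : AddSubgroup V} {u : V} (hu : u ∈ planeU K C) :
    h • u ∈ planeU K (smulSub h C) := by
  refine planeU_le (X := (planeU K (smulSub h C)).comap (DistribSMul.toAddMonoidHom V h))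
    (fun g hg v => ?_) hu
  show h • (g • v - v) ∈ planeU K (smulSub h C)
  have hmem : h * g * h⁻¹ ∈ fixing K (smulSub h C) := by
    intro c hc
    rw [mul_smul, mul_smul, hg _ (mem_smulSub.1 hc), smul_inv_smul]
  have e : h • (g • v - v) = (h * g * h⁻¹) • (h • v) - h • v := by
    rw [mul_smul, mul_smul, inv_smul_smul, smul_sub]
  rw [e]
  exact movV_le_planeU hmem (sub_mem_movV _ _)

namespace Glob

variable [Finite K] [Finite V] [FaithfulSMul K V] {q : ℕ} (G : Glob K V p q)
include G

/-- A reflection of another plane fixes the plane and commutes with its reflections. -/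
theorem foreign {C : AddSubgroup V} (hC : IsMaxFix K C) {s : K} (hs : IsRefl0 V s)
    (hsC : ¬ IsRefl C s) :
    (∀ u ∈ planeU K C, s • u = u) ∧ ∀ x : K, IsRefl C x → Commute s x := by
  rcases G.dichotomy hC hs hsC with h | ⟨x₀, hx, hsx, huniq, hX⟩
  · exact h
  exfalso
  by_cases hp : p = 2
  · exact G.no_exact_two hp hC hs hsC hx hsx hX
  · exact G.no_exact_odd hp hC hs hsC hx huniq

/-- Different planes have different reflections. -/
theorem eq_of_common_refl {C C' : AddSubgroup V} (hC : IsMaxFix K C) (hC' : IsMaxFix K C')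
    {r : K} (hr : IsRefl C r) (hr' : IsRefl C' r) : C = C' := by
  obtain ⟨t, ht, hrt⟩ := (G.facts C hC).partner r hr
  have ht' : IsRefl C' t := by
    by_contra h
    exact hrt ((G.foreign hC' ⟨C, hC, ht⟩ h).2 r hr').symm
  have hne : r * t ≠ 1 := fun e => hrt (by
    rw [eq_inv_of_mul_eq_one_left e]; exact (Commute.refl t).inv_left)
  rw [← ((G.prop C hC).refl_mul r t hr ht).2.resolve_left hne,
    ((G.prop C' hC').refl_mul r t hr' ht').2.resolve_left hne]

/-- A reflection of one plane fixes every other plane. -/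
theorem smul_eq_of_ne {C C' : AddSubgroup V} (hC : IsMaxFix K C) (hC' : IsMaxFix K C')
    (hne : C ≠ C') {r : K} (hr : IsRefl C' r) {u : V} (hu : u ∈ planeU K C) : r • u = u :=
  (G.foreign hC ⟨C', hC', hr⟩ fun h => hne (G.eq_of_common_refl hC hC' h hr)).1 u hu

omit [Finite K] [FaithfulSMul K V] in
theorem eq_zero_of_fixed {C : AddSubgroup V} (hC : IsMaxFix K C) {u : V} (hu : u ∈ planeU K C)
    (hfix : ∀ r : K, IsRefl C r → r • u = u) : u = 0 := by
  by_contra h0
  have F := G.facts C hC
  obtain ⟨r, hr, -⟩ := F.mirror_ex u hu h0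
  obtain ⟨t, ht, hrt⟩ := F.partner r hr
  have hrot := (G.prop C hC).refl_mul r t hr ht
  have hne : r * t ≠ 1 := fun e => hrt (by
    rw [eq_inv_of_mul_eq_one_left e]; exact (Commute.refl t).inv_left)
  exact h0 (F.disj u (hrot.2.resolve_left hne ▸ mem_fixV.2
    (by rw [mul_smul, hfix t ht, hfix r hr])) hu)

/-- Two planes with a common non-zero vector coincide. -/
theorem eq_of_meet {C C' : AddSubgroup V} (hC : IsMaxFix K C) (hC' : IsMaxFix K C') {u : V}
    (hu : u ∈ planeU K C) (hu' : u ∈ planeU K C') (h0 : u ≠ 0) : C = C' := by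
  by_contra hne
  exact h0 (G.eq_zero_of_fixed hC' hu' fun r hr => G.smul_eq_of_ne hC hC' hne hr hu)

/-- Every element preserves every plane. -/
theorem smul_mem {C : AddSubgroup V} (hC : IsMaxFix K C) (h₀ : K) {u : V}
    (hu : u ∈ planeU K C) : h₀ • u ∈ planeU K C := by
  by_contra hw
  have S := G.setup
  have F := G.facts C hC
  have hu0 : u ≠ 0 := fun h => hw (by rw [h, smul_zero]; exact zero_mem _)
  set w := h₀ • u with hw'
  obtain ⟨h, hh1, hh2, hh3⟩ : ∃ h : K, h • u = w ∧ h • w = u ∧ (p = 2 → h ^ 2 = 1) := by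
    obtain ⟨h, h1, h2⟩ := S.exists_swap (rel_smul h₀ u)
    by_cases hp : p = 2
    swap
    · exact ⟨h, h1, h2, fun e => absurd e hp⟩
    have hpow : ∀ k, h ^ (2 * k) • u = u := fun k => by
      rw [pow_mul]
      exact pow_smul_of_fixed (by rw [sq, mul_smul, h1, h2]) k
    obtain ⟨b, hb | hb⟩ := Nat.even_or_odd' (orderOf h)
    swap
    · exfalso
      have h3 := hpow b
      have h4 : h ^ (2 * b + 1) • u = u := by rw [← hb, pow_orderOf_eq_one, one_smul]
      rw [pow_succ', mul_smul, h3, h1] at h4
      exact hw (by rw [hw', h4]; exact hu)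
    obtain ⟨a, ha⟩ : Odd b := by
      rw [← Nat.not_even_iff_odd]
      rintro ⟨c, hc⟩
      have hx : (h ^ c) ^ 4 = 1 := by
        rw [← pow_mul, show c * 4 = orderOf h by omega, pow_orderOf_eq_one]
      have hd := S.sq_eq_one_of_pow_four hp hx
      rw [← pow_mul] at hd
      have h5 := Nat.le_of_dvd (by have := orderOf_pos h; omega) (orderOf_dvd_of_pow_eq_one hd)
      have := orderOf_pos h
      omega
    refine ⟨h ^ b, ?_, ?_, fun _ => by rw [← pow_mul, mul_comm, ← hb, pow_orderOf_eq_one]⟩
    · rw [ha, pow_succ', mul_smul, hpow a, h1]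
    · rw [ha, pow_succ, mul_smul, h2, hpow a]
  set D := smulSub h C with hD
  have hDmax : IsMaxFix K D := isMaxFix_smulSub hC
  have hDu : ∀ v ∈ planeU K C, h • v ∈ planeU K D := fun v hv => smul_mem_planeU_smulSub hv
  have hne : C ≠ D := fun e => hw (by
    have := hDu u hu
    rwa [← e, hh1] at this)
  obtain ⟨r, hr, hur⟩ := F.mirror_ex u hu hu0
  have hr2 := hC.refl_sq hr
  -- two vectors mapped to their translates by `-u`
  obtain ⟨v, v', hv, hv', hv0, hvv, hh2v, hrv, hrv'⟩ : ∃ v v', v ∈ planeU K C ∧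
      v' ∈ planeU K C ∧ v ≠ 0 ∧ v ≠ v' ∧ h • h • v = v ∧ r • v = v - u ∧ r • v' = v' - u := by
    by_cases hp : p = 2
    · obtain ⟨x, hx⟩ := mem_movV.1 hur
      obtain ⟨c, hc, m, hm, rfl⟩ := F.span x
      rw [smul_add, hr.1 c hc, add_sub_add_left_eq_sub] at hx
      have hrm : r • m = m - u := by rw [S.sub_eq_add hp, ← hx]; abel
      refine ⟨m, m + u, hm, add_mem hm hu, fun h0 => hu0 ?_, fun e => hu0 ?_, ?_, hrm, ?_⟩
      · rw [← hx, h0, smul_zero, sub_self]
      · exact left_eq_add.1 e
      · rw [← mul_smul, ← sq, hh3 hp, one_smul]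
      · rw [smul_add, hrm, smul_eq_neg_of_mem_movV hr2 hur, S.sub_eq_add hp,
          neg_eq_of_add_eq_zero_left (S.add_self hp u), add_sub_cancel_right, add_assoc,
          S.add_self hp, add_zero]
    · obtain ⟨k, hk⟩ := S.prime.odd_of_ne_two hp
      have h2 : (k + 1) • u + (k + 1) • u = u := by
        rw [← add_nsmul, show k + 1 + (k + 1) = p + 1 by omega, succ_nsmul, S.exp, zero_add]
      have hrv : r • ((k + 1) • u) = (k + 1) • u - u := by
        rw [smul_comm r, smul_eq_neg_of_mem_movV hr2 hur, smul_neg]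
        nth_rewrite 3 [← h2]
        abel
      obtain ⟨t, ht, ht0⟩ := (fixV V r ⊓ planeU K C).bot_or_exists_ne_zero.resolve_left
        (fun hb => by
          have := F.card_fix r hr
          rw [hb, AddSubgroup.card_bot] at this
          have := F.one_lt
          omega)
      obtain ⟨htr, htU⟩ := AddSubgroup.mem_inf.1 ht
      refine ⟨(k + 1) • u, (k + 1) • u + t, nsmul_mem hu _, add_mem (nsmul_mem hu _) htU,
        fun h0 => hu0 ?_, fun e => ht0 (left_eq_add.1 e), ?_, hrv, ?_⟩
      · rw [← h2, h0, add_zero]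
      · rw [smul_comm h (k + 1), smul_comm h (k + 1), hh1, hh2]
      · rw [smul_add, hrv, mem_fixV.1 htr]; abel
  have hrD : ∀ x ∈ planeU K C, r • h • x = h • x := fun x hx =>
    G.smul_eq_of_ne hDmax hC (Ne.symm hne) hr (hDu x hx)
  -- apply binarity
  obtain ⟨g, hg⟩ := S.bin 3 ![u, v + h • v, v' + h • v] ![u, v + h • v, v + h • v']
    (by
      intro i
      fin_cases i
      · exact Rel.refl _
      · exact Rel.refl _
      · exact ⟨h, by
          simp only [Fin.reduceFinMk, Matrix.cons_val]
          rw [smul_add, hh2v, add_comm]⟩)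
    (by
      have h12 : Rel K ((v + h • v) - (v' + h • v)) ((v + h • v) - (v + h • v')) := by
        refine ⟨h, ?_⟩
        rw [add_sub_add_right_eq_sub, add_sub_add_left_eq_sub, smul_sub]
      have h02 : Rel K (u - (v' + h • v)) (u - (v + h • v')) := by
        have e1 : Rel K (v' + h • v - u) (v' + h • v) :=
          Rel.symm ⟨r, by rw [smul_add, hrv', hrD v hv]; abel⟩
        have e2 : Rel K (v' + h • v) (v + h • v') := ⟨h, by rw [smul_add, hh2v, add_comm]⟩
        have e3 : Rel K (v + h • v') (v + h • v' - u) :=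
          ⟨r, by rw [smul_add, hrv, hrD v' hv']; abel⟩
        have := ((e1.trans e2).trans e3).neg
        rwa [neg_sub, neg_sub] at this
      intro i j
      fin_cases i <;> fin_cases j <;>
        simp only [Fin.zero_eta, Fin.mk_one, Fin.reduceFinMk, Matrix.cons_val, Matrix.cons_val_zero,
          Matrix.cons_val_one, sub_self] <;>
        first
        | exact Rel.refl _
        | exact h02
        | exact h12
        | (have := h02.neg; rwa [neg_sub, neg_sub] at this)
        | (have := h12.neg; rwa [neg_sub, neg_sub] at this))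
  have hgu : g • u = u := by simpa using hg 0
  have hg1 : g • (v + h • v) = v + h • v := by simpa using hg 1
  have hg2 : g • (v' + h • v) = v + h • v' := by simpa using hg 2
  have hgC : smulSub g C = C := G.eq_of_meet (isMaxFix_smulSub hC) hC
    (hgu ▸ smul_mem_planeU_smulSub hu) hu hu0
  have hgU : ∀ x ∈ planeU K C, g • x ∈ planeU K C := fun x hx => by
    have := smul_mem_planeU_smulSub (h := g) hx
    rwa [hgC] at this
  have hhv0 : h • v ≠ 0 := fun e => hv0 (by rwa [smul_eq_zero_iff_eq] at e)
  have hinter : ∀ x, x ∈ planeU K C → x ∈ planeU K D → x = 0 := fun x h1 h2 => by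
    by_contra h0
    exact hne (G.eq_of_meet hC hDmax h1 h2 h0)
  have hghv : g • h • v = h • v + (v - g • v) := by
    rw [smul_add] at hg1
    rw [eq_sub_of_add_eq' hg1]
    abel
  have hgD : smulSub g D = D := by
    by_contra hD'
    have hmax' := isMaxFix_smulSub (h := g) hDmax
    have hC' : C ≠ smulSub g D := fun e => hne (smulSub_left_cancel (hgC.trans e))
    have hmem : g • h • v ∈ planeU K (smulSub g D) := smul_mem_planeU_smulSub (hDu v hv)
    refine hhv0 ?_
    have h0 := G.eq_zero_of_fixed hmax' hmem fun x hx => by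
      rw [hghv, smul_add, G.smul_eq_of_ne hDmax hmax' (Ne.symm hD') hx (hDu v hv),
        G.smul_eq_of_ne hC hmax' hC' hx (sub_mem hv (hgU v hv))]
    rwa [smul_eq_zero_iff_eq] at h0
  have hgv : g • v = v := by
    refine (sub_eq_zero.1 (hinter _ (sub_mem hv (hgU v hv)) ?_)).symm
    have : g • h • v ∈ planeU K D := by
      have := smul_mem_planeU_smulSub (h := g) (hDu v hv)
      rwa [hgD] at this
    have := sub_mem this (hDu v hv)
    rwa [hghv, add_sub_cancel_left] at this
  rw [hgv, sub_self, add_zero] at hghv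
  rw [smul_add, hghv] at hg2
  have e : g • v' - v = h • v' - h • v := by linear_combination (norm := abel) hg2
  have h0 := hinter _ (sub_mem (hgU v' hv') hv)
    (e ▸ sub_mem (hDu v' hv') (hDu v hv))
  rw [e, sub_eq_zero, smul_left_cancel_iff] at h0
  exact hvv h0.symm

end Glob

end CfsgLib.BinaryAffine
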